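import Mathlib.LinearAlgebra.Quotient.Basic
import Mathlib.Algebra.Exact.Basic
import Mathlib.Tactic.Abel

/-! The long exact sequence of a short exact sequence of three-term cochain complexes. -/

universe u v

set_option linter.unusedSectionVars false

noncomputable section

namespace Groth.Agent.CotTLib

variable {R : Type u} [CommRing R]

/-- a linear map given by a total, single-valued linear relation -/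
theorem exists_linearMap_of_rel {X Y : Type*} [AddCommGroup X] [Module R X] [AddCommGroup Y] [Module R Y]
    (S : X → Y → Prop) (htot : ∀ x, ∃ y, S x y) (huniq : ∀ x y y', S x y → S x y' → y = y')
    (hadd : ∀ x x' y y', S x y → S x' y' → S (x + x') (y + y'))
    (hsmul : ∀ (r : R) x y, S x y → S (r • x) (r • y)) :
    ∃ f : X →ₗ[R] Y, ∀ x y, S x y → f x = y := by
  choose f hf using htot
  exact ⟨{ toFun := f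
           map_add' := fun x x' => huniq _ _ _ (hf _) (hadd _ _ _ _ (hf x) (hf x'))
           map_smul' := fun r x => huniq _ _ _ (hf _) (hsmul r _ _ (hf x)) },
    fun x y h => huniq _ _ _ (hf x) h⟩

section
variable {A₀ A₁ A₂ B₀ B₁ B₂ D₀ D₁ D₂ : Type*}
  [AddCommGroup A₀] [Module R A₀] [AddCommGroup A₁] [Module R A₁] [AddCommGroup A₂] [Module R A₂]
  [AddCommGroup B₀] [Module R B₀] [AddCommGroup B₁] [Module R B₁] [AddCommGroup B₂] [Module R B₂]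
  [AddCommGroup D₀] [Module R D₀] [AddCommGroup D₁] [Module R D₁] [AddCommGroup D₂] [Module R D₂]
  (a₀ : A₀ →ₗ[R] A₁) (a₁ : A₁ →ₗ[R] A₂) (b₀ : B₀ →ₗ[R] B₁) (b₁ : B₁ →ₗ[R] B₂)
  (c₀ : D₀ →ₗ[R] D₁) (c₁ : D₁ →ₗ[R] D₂)
  (i₀ : A₀ →ₗ[R] B₀) (i₁ : A₁ →ₗ[R] B₁) (i₂ : A₂ →ₗ[R] B₂)
  (p₀ : B₀ →ₗ[R] D₀) (p₁ : B₁ →ₗ[R] D₁) (p₂ : B₂ →ₗ[R] D₂)

/-- a short exact sequence of three-term complexes -/
structure IsSES : Prop where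
  hb : ∀ x, b₁ (b₀ x) = 0
  ci₀ : ∀ x, b₀ (i₀ x) = i₁ (a₀ x)
  ci₁ : ∀ x, b₁ (i₁ x) = i₂ (a₁ x)
  cp₀ : ∀ x, c₀ (p₀ x) = p₁ (b₀ x)
  cp₁ : ∀ x, c₁ (p₁ x) = p₂ (b₁ x)
  inj₀ : Function.Injective i₀
  inj₁ : Function.Injective i₁
  inj₂ : Function.Injective i₂
  ex₀ : Function.Exact i₀ p₀
  ex₁ : Function.Exact i₁ p₁
  ex₂ : Function.Exact i₂ p₂
  surj₀ : Function.Surjective p₀
  surj₁ : Function.Surjective p₁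

variable {a₀ a₁ b₀ b₁ c₀ c₁ i₀ i₁ i₂ p₀ p₁ p₂}
variable {H₁A H₁B H₁D H₂A H₂B H₂D : Type*}
  [AddCommGroup H₁A] [Module R H₁A] [AddCommGroup H₁B] [Module R H₁B] [AddCommGroup H₁D] [Module R H₁D]
  [AddCommGroup H₂A] [Module R H₂A] [AddCommGroup H₂B] [Module R H₂B] [AddCommGroup H₂D] [Module R H₂D]

/-- the nine term sequence -/
theorem IsSES.nine_term (h : IsSES a₀ a₁ b₀ b₁ c₀ c₁ i₀ i₁ i₂ p₀ p₁ p₂)
    (qA : LinearMap.ker a₁ →ₗ[R] H₁A) (qB : LinearMap.ker b₁ →ₗ[R] H₁B) (qD : LinearMap.ker c₁ →ₗ[R] H₁D)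
    (QA : A₂ →ₗ[R] H₂A) (QB : B₂ →ₗ[R] H₂B) (QD : D₂ →ₗ[R] H₂D)
    (hqA : Function.Surjective qA) (hqB : Function.Surjective qB) (hqD : Function.Surjective qD)
    (hQA : Function.Surjective QA) (hQB : Function.Surjective QB)
    (kA : ∀ z, qA z = 0 ↔ ∃ x, a₀ x = z.1) (kB : ∀ z, qB z = 0 ↔ ∃ x, b₀ x = z.1)
    (kD : ∀ z, qD z = 0 ↔ ∃ x, c₀ x = z.1)
    (KA : ∀ z, QA z = 0 ↔ ∃ x, a₁ x = z) (KB : ∀ z, QB z = 0 ↔ ∃ x, b₁ x = z)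
    (KD : ∀ z, QD z = 0 ↔ ∃ x, c₁ x = z)
    (F₀ : LinearMap.ker a₀ →ₗ[R] LinearMap.ker b₀) (G₀ : LinearMap.ker b₀ →ₗ[R] LinearMap.ker c₀)
    (F₁ : H₁A →ₗ[R] H₁B) (G₁ : H₁B →ₗ[R] H₁D) (F₂ : H₂A →ₗ[R] H₂B) (G₂ : H₂B →ₗ[R] H₂D)
    (hF₀ : ∀ z, (F₀ z).1 = i₀ z.1) (hG₀ : ∀ z, (G₀ z).1 = p₀ z.1)
    (hF₁ : ∀ (z : LinearMap.ker a₁) (w : LinearMap.ker b₁), w.1 = i₁ z.1 → F₁ (qA z) = qB w)
    (hG₁ : ∀ (z : LinearMap.ker b₁) (w : LinearMap.ker c₁), w.1 = p₁ z.1 → G₁ (qB z) = qD w)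
    (hF₂ : ∀ x, F₂ (QA x) = QB (i₂ x)) (hG₂ : ∀ x, G₂ (QB x) = QD (p₂ x)) :
    Function.Injective F₀ ∧ Function.Exact F₀ G₀ ∧ Function.Exact F₁ G₁ ∧ Function.Exact F₂ G₂ ∧
      ∃ (δ₀ : LinearMap.ker c₀ →ₗ[R] H₁A) (δ₁ : H₁D →ₗ[R] H₂A),
        Function.Exact G₀ δ₀ ∧ Function.Exact δ₀ F₁ ∧ Function.Exact G₁ δ₁ ∧ Function.Exact δ₁ F₂ := by
  have hpi₁ : ∀ x, p₁ (i₁ x) = 0 := fun x => (h.ex₁ _).2 ⟨x, rfl⟩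
  have hpi₀ : ∀ x, p₀ (i₀ x) = 0 := fun x => (h.ex₀ _).2 ⟨x, rfl⟩
  have hpi₂ : ∀ x, p₂ (i₂ x) = 0 := fun x => (h.ex₂ _).2 ⟨x, rfl⟩
  have hinA : ∀ z : LinearMap.ker a₁, i₁ z.1 ∈ LinearMap.ker b₁ := fun z => by
    rw [LinearMap.mem_ker, h.ci₁, z.2, map_zero]
  have hinB : ∀ z : LinearMap.ker b₁, p₁ z.1 ∈ LinearMap.ker c₁ := fun z => by
    rw [LinearMap.mem_ker, h.cp₁, z.2, map_zero]
  have hF₁' : ∀ z, F₁ (qA z) = qB ⟨_, hinA z⟩ := fun z => hF₁ z _ rfl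
  have hG₁' : ∀ z, G₁ (qB z) = qD ⟨_, hinB z⟩ := fun z => hG₁ z _ rfl
  refine ⟨fun z z' e => ?_, fun z => ⟨fun hz => ?_, ?_⟩, fun x => ⟨fun hx => ?_, ?_⟩,
    fun x => ⟨fun hx => ?_, ?_⟩, ?_⟩
  · refine Subtype.ext (h.inj₀ ?_)
    rw [← hF₀, ← hF₀, e]
  · obtain ⟨x, hx⟩ := (h.ex₀ z.1).1 (by rw [← hG₀, hz]; rfl)
    refine ⟨⟨x, ?_⟩, Subtype.ext ((hF₀ _).trans hx)⟩
    rw [LinearMap.mem_ker]
    refine h.inj₁ ?_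
    rw [← h.ci₀, hx, z.2, map_zero]
  · rintro ⟨w, rfl⟩
    exact Subtype.ext (by rw [hG₀, hF₀, hpi₀]; rfl)
  · obtain ⟨z, rfl⟩ := hqB x
    rw [hG₁', kD] at hx
    obtain ⟨y', hy'⟩ := hx
    obtain ⟨y, rfl⟩ := h.surj₀ y'
    obtain ⟨w, hw⟩ := (h.ex₁ (z.1 - b₀ y)).1 (by rw [map_sub, ← h.cp₀, hy', sub_self])
    have hwk : w ∈ LinearMap.ker a₁ := by
      rw [LinearMap.mem_ker]
      refine h.inj₂ ?_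
      rw [← h.ci₁, hw, map_sub, z.2, h.hb, sub_zero, map_zero]
    refine ⟨qA ⟨w, hwk⟩, ?_⟩
    rw [hF₁', ← sub_eq_zero, ← map_sub, kB]
    exact ⟨-y, by change b₀ (-y) = i₁ w - z.1; rw [hw, map_neg]; abel⟩
  · rintro ⟨w, rfl⟩
    obtain ⟨z, rfl⟩ := hqA w
    rw [hF₁', hG₁', kD]
    exact ⟨0, by rw [map_zero]; exact (hpi₁ z.1).symm⟩
  · obtain ⟨z, rfl⟩ := hQB x
    rw [hG₂, KD] at hx
    obtain ⟨y', hy'⟩ := hx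
    obtain ⟨y, rfl⟩ := h.surj₁ y'
    obtain ⟨w, hw⟩ := (h.ex₂ (z - b₁ y)).1 (by rw [map_sub, ← h.cp₁, hy', sub_self])
    refine ⟨QA w, ?_⟩
    rw [hF₂, hw, ← sub_eq_zero, ← map_sub, KB]
    exact ⟨-y, by rw [map_neg]; abel⟩
  · rintro ⟨w, rfl⟩
    obtain ⟨z, rfl⟩ := hQA w
    rw [hF₂, hG₂, hpi₂, map_zero]
  -- connecting maps
  obtain ⟨δ₀, hδ₀⟩ := exists_linearMap_of_rel (R := R)
    (fun (z : LinearMap.ker c₀) (t : H₁A) =>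
      ∃ (y : B₀) (x : LinearMap.ker a₁), p₀ y = z.1 ∧ i₁ x.1 = b₀ y ∧ qA x = t)
    (fun z => by
      obtain ⟨y, hy⟩ := h.surj₀ z.1
      obtain ⟨x, hx⟩ := (h.ex₁ (b₀ y)).1 (by rw [← h.cp₀, hy, z.2])
      exact ⟨_, y, ⟨x, h.inj₂ (by rw [← h.ci₁, hx, h.hb, map_zero])⟩, hy, hx, rfl⟩)
    (by
      rintro z t t' ⟨y, x, hy, hx, rfl⟩ ⟨y', x', hy', hx', rfl⟩
      obtain ⟨w, hw⟩ := (h.ex₀ (y - y')).1 (by rw [map_sub, hy, hy', sub_self])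
      rw [← sub_eq_zero, ← map_sub, kA]
      refine ⟨w, h.inj₁ ?_⟩
      rw [← h.ci₀, hw, map_sub, ← hx, ← hx', ← map_sub]
      rfl)
    (by
      rintro z z' t t' ⟨y, x, hy, hx, rfl⟩ ⟨y', x', hy', hx', rfl⟩
      exact ⟨y + y', x + x', by rw [map_add, hy, hy']; rfl,
        by rw [map_add, ← hx, ← hx', ← map_add]; rfl, map_add qA x x'⟩)
    (by
      rintro r z t ⟨y, x, hy, hx, rfl⟩
      exact ⟨r • y, r • x, by rw [map_smul, hy]; rfl,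
        by rw [map_smul, ← hx, ← map_smul]; rfl, map_smul qA r x⟩)
  obtain ⟨δ₁, hδ₁⟩ := exists_linearMap_of_rel (R := R)
    (fun (z : H₁D) (t : H₂A) => ∃ (zc : LinearMap.ker c₁) (y : B₁) (x : A₂),
      qD zc = z ∧ p₁ y = zc.1 ∧ i₂ x = b₁ y ∧ QA x = t)
    (fun z => by
      obtain ⟨zc, rfl⟩ := hqD z
      obtain ⟨y, hy⟩ := h.surj₁ zc.1
      obtain ⟨x, hx⟩ := (h.ex₂ (b₁ y)).1 (by rw [← h.cp₁, hy, zc.2])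
      exact ⟨_, zc, y, x, rfl, hy, hx, rfl⟩)
    (by
      rintro z t t' ⟨zc, y, x, hz, hy, hx, rfl⟩ ⟨zc', y', x', hz', hy', hx', rfl⟩
      obtain ⟨d, hd⟩ := (kD (zc - zc')).1 (by rw [map_sub, hz, hz', sub_self])
      obtain ⟨e, rfl⟩ := h.surj₀ d
      obtain ⟨w, hw⟩ := (h.ex₁ (y - y' - b₀ e)).1 (by
        rw [map_sub, map_sub, ← h.cp₀, hd, hy, hy']
        change zc.1 - zc'.1 - (zc.1 - zc'.1) = 0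
        rw [sub_self])
      rw [← sub_eq_zero, ← map_sub, KA]
      refine ⟨w, h.inj₂ ?_⟩
      rw [← h.ci₁, hw, map_sub, map_sub, h.hb, ← hx, ← hx', sub_zero, map_sub])
    (by
      rintro z z' t t' ⟨zc, y, x, hz, hy, hx, rfl⟩ ⟨zc', y', x', hz', hy', hx', rfl⟩
      exact ⟨zc + zc', y + y', x + x', by rw [map_add, hz, hz'], by rw [map_add, hy, hy']; rfl,
        by rw [map_add, map_add, hx, hx'], map_add QA x x'⟩)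
    (by
      rintro r z t ⟨zc, y, x, hz, hy, hx, rfl⟩
      exact ⟨r • zc, r • y, r • x, by rw [map_smul, hz], by rw [map_smul, hy]; rfl,
        by rw [map_smul, map_smul, hx], map_smul QA r x⟩)
  refine ⟨δ₀, δ₁, fun z => ⟨fun hz => ?_, ?_⟩, fun t => ⟨fun ht => ?_, ?_⟩,
    fun z => ⟨fun hz => ?_, ?_⟩, fun t => ⟨fun ht => ?_, ?_⟩⟩
  · obtain ⟨y, hy⟩ := h.surj₀ z.1
    obtain ⟨x, hx⟩ := (h.ex₁ (b₀ y)).1 (by rw [← h.cp₀, hy, z.2])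
    have hxk : x ∈ LinearMap.ker a₁ := h.inj₂ (by rw [← h.ci₁, hx, h.hb, map_zero])
    rw [hδ₀ z _ ⟨y, ⟨x, hxk⟩, hy, hx, rfl⟩, kA] at hz
    obtain ⟨w, hw⟩ := hz
    refine ⟨⟨y - i₀ w, ?_⟩, Subtype.ext ?_⟩
    · rw [LinearMap.mem_ker, map_sub, h.ci₀, hw, hx, sub_self]
    · rw [hG₀, map_sub, hy, hpi₀, sub_zero]
  · rintro ⟨w, rfl⟩
    rw [hδ₀ (G₀ w) (qA 0) ⟨w.1, 0, (hG₀ w).symm, (map_zero i₁).trans w.2.symm, rfl⟩, map_zero]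
  · obtain ⟨x, rfl⟩ := hqA t
    rw [hF₁', kB] at ht
    obtain ⟨y, hy⟩ := ht
    refine ⟨⟨p₀ y, ?_⟩, hδ₀ _ _ ⟨y, x, rfl, hy.symm, rfl⟩⟩
    rw [LinearMap.mem_ker, h.cp₀, hy]
    exact hpi₁ x.1
  · rintro ⟨z, rfl⟩
    obtain ⟨y, hy⟩ := h.surj₀ z.1
    obtain ⟨x, hx⟩ := (h.ex₁ (b₀ y)).1 (by rw [← h.cp₀, hy, z.2])
    have hxk : x ∈ LinearMap.ker a₁ := h.inj₂ (by rw [← h.ci₁, hx, h.hb, map_zero])
    rw [hδ₀ z _ ⟨y, ⟨x, hxk⟩, hy, hx, rfl⟩, hF₁', kB]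
    exact ⟨y, hx.symm⟩
  · obtain ⟨zc, rfl⟩ := hqD z
    obtain ⟨y, hy⟩ := h.surj₁ zc.1
    obtain ⟨x, hx⟩ := (h.ex₂ (b₁ y)).1 (by rw [← h.cp₁, hy, zc.2])
    rw [hδ₁ _ _ ⟨zc, y, x, rfl, hy, hx, rfl⟩, KA] at hz
    obtain ⟨w, hw⟩ := hz
    have hk : y - i₁ w ∈ LinearMap.ker b₁ := by
      rw [LinearMap.mem_ker, map_sub, h.ci₁, hw, hx, sub_self]
    exact ⟨qB ⟨_, hk⟩, hG₁ _ _ (by change zc.1 = p₁ (y - i₁ w); rw [map_sub, hy, hpi₁, sub_zero])⟩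
  · rintro ⟨w, rfl⟩
    obtain ⟨z, rfl⟩ := hqB w
    rw [hG₁', hδ₁ _ (QA 0) ⟨_, z.1, 0, rfl, rfl, (map_zero i₂).trans z.2.symm, rfl⟩, map_zero]
  · obtain ⟨x, rfl⟩ := hQA t
    rw [hF₂, KB] at ht
    obtain ⟨y, hy⟩ := ht
    have hk : p₁ y ∈ LinearMap.ker c₁ := by rw [LinearMap.mem_ker, h.cp₁, hy, hpi₂]
    exact ⟨qD ⟨_, hk⟩, hδ₁ _ _ ⟨⟨_, hk⟩, y, x, rfl, rfl, hy.symm, rfl⟩⟩
  · rintro ⟨z, rfl⟩
    obtain ⟨zc, rfl⟩ := hqD z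
    obtain ⟨y, hy⟩ := h.surj₁ zc.1
    obtain ⟨x, hx⟩ := (h.ex₂ (b₁ y)).1 (by rw [← h.cp₁, hy, zc.2])
    rw [hδ₁ _ _ ⟨zc, y, x, rfl, hy, hx, rfl⟩, hF₂, KB]
    exact ⟨y, hx.symm⟩

end

end Groth.Agent.CotTLib

end
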