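import Groth.Agent.CotTLib.Special
import Groth.Agent.CotTLib.Snake

/-! The transitivity sequence of `Tⁱ` for `A → B → C`, computed with a composed presentation. -/

universe u v v' w t w' t' m

set_option linter.unusedSectionVars false

noncomputable section

namespace Groth.Agent.CotTLib

open CotT

variable {A : Type u} {B : Type v} {C : Type v'} {ι : Type w} {σ : Type t} {ι' : Type w'} {σ' : Type t'}
variable [CommRing A] [CommRing B] [CommRing C] [Algebra A B] [Algebra B C] [Algebra A C] [IsScalarTower A B C]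
variable (Q : Algebra.Presentation B C ι' σ') (P : Algebra.Presentation A B ι σ)

/-- `P → Q.comp P` -/
def toCompHom : PresHom P (Q.comp P) where
  hom := Q.toGenerators.toComp P.toGenerators
  relVal s := Finsupp.single (Sum.inr s) 1
  jmap_relVal s := by
    rw [jmap_single, one_mul]
    exact (DFunLike.congr_fun (Algebra.Generators.toComp_toAlgHom Q.toGenerators P.toGenerators) _).symm

/-- `Q.comp P → Q` -/
def ofCompHom : PresHom (Q.comp P) Q where
  hom := Q.toGenerators.ofComp P.toGenerators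
  relVal := Sum.elim (fun t => Finsupp.single t 1) (fun _ => 0)
  jmap_relVal r := by
    cases r with
    | inl t =>
      rw [Sum.elim_inl, jmap_single, one_mul]
      exact (Q.comp_aeval_relation_inl P t).symm
    | inr s =>
      rw [Sum.elim_inr, map_zero]
      refine Eq.symm ((Algebra.Generators.toAlgHom_ofComp_rename Q.toGenerators P.toGenerators _).trans ?_)
      exact (congrArg MvPolynomial.C (algebraMap_rel P s)).trans (map_zero _)

theorem toCompHom_ringHom (x : P.toExtension.Ring) :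
    (toCompHom Q P).ringHom x =
      (MvPolynomial.rename Sum.inr (show MvPolynomial ι A from x) : MvPolynomial (ι' ⊕ ι) A) :=
  DFunLike.congr_fun (Algebra.Generators.toComp_toAlgHom Q.toGenerators P.toGenerators) x

theorem ofCompHom_rename (x : P.toExtension.Ring) :
    (ofCompHom Q P).ringHom ((toCompHom Q P).ringHom x) =
      (MvPolynomial.C (algebraMap P.toExtension.Ring B x) : MvPolynomial ι' B) := by
  rw [toCompHom_ringHom]
  exact Algebra.Generators.toAlgHom_ofComp_rename Q.toGenerators P.toGenerators x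

theorem ofCompHom_ringHom_surjective : Function.Surjective (ofCompHom Q P).ringHom :=
  Algebra.Generators.toAlgHom_ofComp_surjective Q.toGenerators P.toGenerators

theorem ofCompHom_relVal_inl (t : σ') : (ofCompHom Q P).relVal (Sum.inl t) = Finsupp.single t 1 := rfl

theorem ofCompHom_relVal_inr (s : σ) : (ofCompHom Q P).relVal (Sum.inr s) = 0 := rfl

theorem ofCompHom_relModMap_surjective : Function.Surjective (ofCompHom Q P).relModMap := by
  intro f
  induction f using Finsupp.induction_linear with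
  | zero => exact ⟨0, map_zero _⟩
  | add a b ha hb =>
    obtain ⟨a, rfl⟩ := ha
    obtain ⟨b, rfl⟩ := hb
    exact ⟨a + b, map_add _ _ _⟩
  | single t c =>
    obtain ⟨c, rfl⟩ := ofCompHom_ringHom_surjective Q P c
    refine ⟨Finsupp.single (Sum.inl t) c, ?_⟩
    rw [PresHom.relModMap_single, ofCompHom_relVal_inl, Finsupp.smul_single, smul_eq_mul, mul_one]

theorem ofCompHom_relModMap_apply (f : relMod (Q.comp P)) (t : σ') :
    (ofCompHom Q P).relModMap f t = (ofCompHom Q P).ringHom (f (Sum.inl t)) := by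
  classical
  induction f using Finsupp.induction_linear with
  | zero => rw [map_zero, Finsupp.zero_apply, Finsupp.zero_apply, map_zero]
  | add a b ha hb => rw [map_add, Finsupp.add_apply, ha, hb, ← map_add]; rfl
  | single r c =>
    rw [PresHom.relModMap_single]
    cases r with
    | inl t' =>
      rw [ofCompHom_relVal_inl, Finsupp.smul_single, smul_eq_mul, mul_one, Finsupp.single_apply, Finsupp.single_apply]
      split_ifs with h1 h2 h3
      · rfl
      · exact absurd (congrArg Sum.inl h1) h2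
      · exact absurd (Sum.inl.inj h3) h1
      · exact (map_zero (ofCompHom Q P).ringHom).symm
    | inr s =>
      rw [ofCompHom_relVal_inr, smul_zero, Finsupp.zero_apply, Finsupp.single_eq_of_ne (by simp), map_zero]

/-- relations of `P`, as elements of the composed relation module -/
def inrPart : (σ →₀ (Q.comp P).toExtension.Ring) →ₗ[(Q.comp P).toExtension.Ring] relMod (Q.comp P) :=
  Finsupp.lmapDomain _ _ Sum.inr

theorem jmap_inrPart (u : σ →₀ (Q.comp P).toExtension.Ring) :
    jmap (Q.comp P) (inrPart Q P u) = u.sum fun s c => c * (toCompHom Q P).ringHom (rel P s) := by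
  induction u using Finsupp.induction_linear with
  | zero => simp
  | add a b ha hb =>
    rw [map_add, map_add, ha, hb, Finsupp.sum_add_index' (by simp) (fun _ _ _ => add_mul _ _ _)]
  | single s c =>
    rw [Finsupp.sum_single_index (by simp), inrPart, Finsupp.lmapDomain_apply, Finsupp.mapDomain_single, jmap_single,
      ← (toCompHom Q P).jmap_relVal]
    change c * _ = c * jmap (Q.comp P) (Finsupp.single (Sum.inr s) 1)
    rw [jmap_single, one_mul]

theorem ofCompHom_inrPart (u : σ →₀ (Q.comp P).toExtension.Ring) :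
    (ofCompHom Q P).relModMap (inrPart Q P u) = 0 := by
  refine Finsupp.ext fun t => ?_
  rw [ofCompHom_relModMap_apply, inrPart, Finsupp.lmapDomain_apply,
    Finsupp.mapDomain_of_notMem_range _ _ (by simp), map_zero, Finsupp.zero_apply]

theorem toCompHom_relModMap (f : relMod P) :
    (toCompHom Q P).relModMap f = inrPart Q P (f.mapRange (toCompHom Q P).ringHom (map_zero _)) := by
  induction f using Finsupp.induction_linear with
  | zero => simp
  | add a b ha hb => rw [map_add, ha, hb, Finsupp.mapRange_add (map_add (toCompHom Q P).ringHom), map_add]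
  | single s c =>
    rw [PresHom.relModMap_single, Finsupp.mapRange_single, inrPart, Finsupp.lmapDomain_apply,
      Finsupp.mapDomain_single]
    exact (Finsupp.smul_single _ _ _).trans (by rw [smul_eq_mul, mul_one])

theorem exists_inrPart_of_ringHom_eq_zero {c : (Q.comp P).toExtension.Ring}
    (hc : (ofCompHom Q P).ringHom c = 0) : ∃ u, jmap (Q.comp P) (inrPart Q P u) = c := by
  have h1 : c ∈ Ideal.map (Q.toGenerators.toComp P.toGenerators).toAlgHom P.toGenerators.ker := by
    rw [Algebra.Generators.map_toComp_ker]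
    exact hc
  rw [← P.span_range_relation_eq_ker, Ideal.map_span] at h1
  have h2 : c ∈ LinearMap.range (jmap (Q.comp P) ∘ₗ inrPart Q P) := by
    refine Submodule.span_le.2 ?_ h1
    rintro _ ⟨_, ⟨s, rfl⟩, rfl⟩
    refine ⟨Finsupp.single s 1, ?_⟩
    rw [LinearMap.comp_apply, jmap_inrPart, Finsupp.sum_single_index (by simp), one_mul]
    rfl
  exact h2

theorem ofCompHom_L2map_surjective : Function.Surjective (ofCompHom Q P).L2map := by
  intro z
  obtain ⟨q, rfl⟩ := cl_surjective Q z
  obtain ⟨f, hf⟩ := ofCompHom_relModMap_surjective Q P q.1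
  obtain ⟨u, hu⟩ := exists_inrPart_of_ringHom_eq_zero Q P (c := jmap (Q.comp P) f) (by
    rw [← (ofCompHom Q P).jmap_relModMap, hf]
    exact q.2)
  refine ⟨cl (Q.comp P) ⟨f - inrPart Q P u, ?_⟩, ?_⟩
  · rw [relKer, LinearMap.mem_ker, map_sub, hu, sub_self]
  · rw [L2map_cl]
    refine congrArg (cl Q) (Subtype.ext ?_)
    rw [PresHom.relKerMap_coe]
    change (ofCompHom Q P).relModMap (f - inrPart Q P u) = q.1
    rw [map_sub, hf, ofCompHom_inrPart, sub_zero]

theorem exists_trivRel_lift {z : relMod Q} (hz : z ∈ trivRel Q) :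
    ∃ y ∈ trivRel (Q.comp P), (ofCompHom Q P).relModMap y = z := by
  induction hz using Submodule.span_induction with
  | mem x hx =>
    obtain ⟨a, b, rfl⟩ := hx
    obtain ⟨a, rfl⟩ := ofCompHom_relModMap_surjective Q P a
    obtain ⟨b, rfl⟩ := ofCompHom_relModMap_surjective Q P b
    exact ⟨_, jmap_smul_sub_mem a b, by
      rw [map_sub, LinearMap.map_smulₛₗ, LinearMap.map_smulₛₗ, PresHom.jmap_relModMap, PresHom.jmap_relModMap]⟩
  | zero => exact ⟨0, zero_mem _, map_zero _⟩
  | add a b _ _ ha hb =>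
    obtain ⟨a', ha', rfl⟩ := ha
    obtain ⟨b', hb', rfl⟩ := hb
    exact ⟨a' + b', add_mem ha' hb', map_add _ _ _⟩
  | smul c a _ ha =>
    obtain ⟨a', ha', rfl⟩ := ha
    obtain ⟨c, rfl⟩ := ofCompHom_ringHom_surjective Q P c
    exact ⟨c • a', Submodule.smul_mem _ _ ha', LinearMap.map_smulₛₗ _ _ _⟩

theorem exists_inrPart_congr {f : relMod (Q.comp P)} (hf : (ofCompHom Q P).relModMap f = 0) :
    ∃ u, f - inrPart Q P u ∈ trivRel (Q.comp P) := by
  classical
  suffices h : ∀ g : relMod (Q.comp P), (∀ t, (ofCompHom Q P).ringHom (g (Sum.inl t)) = 0) →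
      ∃ u, g - inrPart Q P u ∈ trivRel (Q.comp P) from
    h f fun t => by rw [← ofCompHom_relModMap_apply, hf, Finsupp.zero_apply]
  intro g
  induction g using Finsupp.induction with
  | zero => exact fun _ => ⟨0, by simp⟩
  | single_add r c g hr hc ih =>
    intro hg
    have hgt : ∀ t, (ofCompHom Q P).ringHom (g (Sum.inl t)) = 0 := fun t => by
      by_cases e : r = Sum.inl t
      · subst e
        rw [Finsupp.notMem_support_iff.1 hr, map_zero]
      · have h1 := hg t
        rwa [Finsupp.add_apply, Finsupp.single_eq_of_ne (Ne.symm e), zero_add] at h1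
    obtain ⟨u, hu⟩ := ih hgt
    cases r with
    | inr s =>
      refine ⟨Finsupp.single s c + u, ?_⟩
      rw [map_add, inrPart, Finsupp.lmapDomain_apply, Finsupp.lmapDomain_apply, Finsupp.mapDomain_single,
        add_sub_add_left_eq_sub]
      exact hu
    | inl t =>
      have hct : (ofCompHom Q P).ringHom c = 0 := by
        have h1 := hg t
        rwa [Finsupp.add_apply, Finsupp.single_eq_same, Finsupp.notMem_support_iff.1 hr, add_zero] at h1
      obtain ⟨w, hw⟩ := exists_inrPart_of_ringHom_eq_zero Q P hct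
      refine ⟨rel (Q.comp P) (Sum.inl t) • w + u, ?_⟩
      have h2 := jmap_smul_sub_mem (inrPart Q P w) (Finsupp.single (Sum.inl t) (1 : (Q.comp P).toExtension.Ring))
      rw [hw, Finsupp.smul_single, smul_eq_mul, mul_one, jmap_single, one_mul] at h2
      rw [map_add, map_smul, add_sub_add_comm]
      exact add_mem h2 hu

/-- `A[X, Y] = A[X][Y]` -/
def phi : MvPolynomial (ι' ⊕ ι) A ≃ₐ[A] MvPolynomial ι' (MvPolynomial ι A) :=
  MvPolynomial.sumAlgEquiv A ι' ι

theorem phi_ringHom (x : P.toExtension.Ring) :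
    phi ((toCompHom Q P).ringHom x) =
      (MvPolynomial.C (show MvPolynomial ι A from x) : MvPolynomial ι' (MvPolynomial ι A)) := by
  rw [toCompHom_ringHom]
  exact DFunLike.congr_fun (MvPolynomial.sumAlgEquiv_comp_rename_inr A ι' ι) (show MvPolynomial ι A from x)

theorem inrPart_mem_span (u : σ →₀ (Q.comp P).toExtension.Ring) (hu : jmap (Q.comp P) (inrPart Q P u) = 0) :
    inrPart Q P u ∈ Submodule.span (Q.comp P).toExtension.Ring
      ((fun q : relKer P => (toCompHom Q P).relModMap q) '' Set.univ) := by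
  classical
  let Φ : (Q.comp P).toExtension.Ring →+* MvPolynomial ι' (MvPolynomial ι A) :=
    (phi (A := A) (ι := ι) (ι' := ι')).toRingEquiv.toRingHom
  have hΦ : ∀ x : P.toExtension.Ring, Φ ((toCompHom Q P).ringHom x) = MvPolynomial.C (show MvPolynomial ι A from x) :=
    phi_ringHom Q P
  let D : Finset (ι' →₀ ℕ) := u.support.biUnion fun s => (Φ (u s)).support
  let cf : (ι' →₀ ℕ) → (Q.comp P).toExtension.Ring → P.toExtension.Ring := fun d c => (Φ c).coeff d
  have hcf : ∀ d, cf d 0 = 0 := fun d => by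
    change (Φ 0).coeff d = _
    rw [map_zero, MvPolynomial.coeff_zero]; rfl
  let part : (ι' →₀ ℕ) → relMod P := fun d => u.mapRange (cf d) (hcf d)
  let Y : (ι' →₀ ℕ) → (Q.comp P).toExtension.Ring := fun d =>
    (phi (A := A) (ι := ι) (ι' := ι')).symm (MvPolynomial.monomial d 1)
  have hΦY : ∀ d, Φ (Y d) = MvPolynomial.monomial d 1 := fun d => (phi (A := A) (ι := ι) (ι' := ι')).apply_symm_apply _
  have hpart : ∀ d, part d ∈ relKer P := fun d => by
    rw [relKer, LinearMap.mem_ker]
    have h1 := congrArg (fun c => (Φ c).coeff d) hu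
    simp only [jmap_inrPart, map_zero, MvPolynomial.coeff_zero, map_finsuppSum, map_mul, hΦ] at h1
    rw [Finsupp.sum, MvPolynomial.coeff_sum] at h1
    simp only [part, jmap, Finsupp.linearCombination_apply]
    refine (Finsupp.sum_mapRange_index (h := fun i a => a • rel P i) fun i => zero_smul _ (rel P i)).trans ?_
    refine Eq.trans (Finset.sum_congr rfl fun s _ => ?_) h1
    exact ((congrArg (MvPolynomial.coeff d) (mul_comm _ _)).trans
      ((MvPolynomial.coeff_C_mul d _ _).trans (mul_comm _ _))).symm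
  have hsum : inrPart Q P u = ∑ d ∈ D, Y d • (toCompHom Q P).relModMap (part d) := by
    rw [Finset.sum_congr rfl fun d _ => congrArg (Y d • ·) (toCompHom_relModMap Q P (part d))]
    simp only [← map_smul, ← map_sum]
    refine congrArg (inrPart Q P) (Finsupp.ext fun s => ?_)
    rw [Finsupp.finsetSum_apply]
    simp only [Finsupp.smul_apply, Finsupp.mapRange_apply, part, smul_eq_mul]
    refine (phi (A := A) (ι := ι) (ι' := ι')).injective ?_
    change Φ (u s) = Φ (∑ d ∈ D, Y d * _)
    simp only [map_sum, map_mul, hΦ, hΦY]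
    conv_lhs => rw [MvPolynomial.as_sum (Φ (u s))]
    refine Finset.sum_subset_zero_on_sdiff ?_ (fun d hd => ?_) (fun d _ => ?_)
    · intro d hd
      refine Finset.mem_biUnion.2 ⟨s, Finsupp.mem_support_iff.2 fun e => ?_, hd⟩
      rw [e, map_zero] at hd
      simp at hd
    · rw [Finset.mem_sdiff, MvPolynomial.notMem_support_iff] at hd
      change MvPolynomial.monomial d (1 : MvPolynomial ι A) * MvPolynomial.C ((Φ (u s)).coeff d) = 0
      rw [hd.2, map_zero, mul_zero]
    · change _ = MvPolynomial.monomial d (1 : MvPolynomial ι A) * MvPolynomial.C ((Φ (u s)).coeff d)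
      rw [mul_comm, MvPolynomial.C_mul_monomial, mul_one]
  rw [hsum]
  exact Submodule.sum_mem _ fun d _ => Submodule.smul_mem _ _
    (Submodule.subset_span ⟨⟨part d, hpart d⟩, trivial, rfl⟩)

variable {M : Type m} [AddCommGroup M] [Module C M]

theorem ker_L2map_le (χ : L2 (Q.comp P) →ₗ[C] M)
    (hχ : ∀ z : L2 P, χ ((toCompHom Q P).L2map z) = 0) (z : L2 (Q.comp P))
    (hz : (ofCompHom Q P).L2map z = 0) : χ z = 0 := by
  obtain ⟨q, rfl⟩ := cl_surjective _ z
  rw [L2map_cl, cl_eq_zero_iff] at hz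
  obtain ⟨y, hy, hyq⟩ := exists_trivRel_lift Q P hz
  obtain ⟨u, hu⟩ := exists_inrPart_congr Q P (f := q.1 - y) (by
    rw [map_sub, hyq]
    exact sub_self _)
  have hmem : q.1 - inrPart Q P u ∈ trivRel (Q.comp P) := by
    have := add_mem hu hy
    rwa [sub_right_comm, sub_add_cancel] at this
  have hker : jmap (Q.comp P) (inrPart Q P u) = 0 := by
    have h3 : jmap (Q.comp P) (q.1 - inrPart Q P u) = 0 := trivRel_le_relKer (Q.comp P) hmem
    rwa [map_sub, show jmap (Q.comp P) q.1 = 0 from q.2, zero_sub, neg_eq_zero] at h3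
  rw [cl_eq_cl (Q.comp P) (q' := ⟨inrPart Q P u, hker⟩) hmem]
  let L : relKer (Q.comp P) →ₗ[(Q.comp P).toExtension.Ring] L2 (Q.comp P) := cl (Q.comp P)
  suffices h : ∀ v, ∀ hv : v ∈ Submodule.span (Q.comp P).toExtension.Ring
      ((fun q : relKer P => (toCompHom Q P).relModMap q) '' Set.univ),
      ∃ hm : v ∈ relKer (Q.comp P), χ (L ⟨v, hm⟩) = 0 from (h _ (inrPart_mem_span Q P u hker)).2
  intro v hv
  induction hv using Submodule.span_induction with
  | mem x hx =>
    obtain ⟨q0, -, rfl⟩ := hx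
    refine ⟨((toCompHom Q P).relKerMap q0).2, ?_⟩
    rw [← hχ (cl P q0), L2map_cl]
    rfl
  | zero => exact ⟨zero_mem _, by rw [← map_zero χ, ← map_zero L]; rfl⟩
  | add a b _ _ ha hb =>
    obtain ⟨ma, ha⟩ := ha
    obtain ⟨mb, hb⟩ := hb
    refine ⟨add_mem ma mb, ?_⟩
    rw [show (⟨a + b, add_mem ma mb⟩ : relKer (Q.comp P)) = ⟨a, ma⟩ + ⟨b, mb⟩ from rfl, map_add, map_add, ha, hb,
      add_zero]
  | smul c a _ ha =>
    obtain ⟨ma, ha⟩ := ha
    refine ⟨Submodule.smul_mem _ c ma, ?_⟩
    rw [show (⟨c • a, Submodule.smul_mem _ c ma⟩ : relKer (Q.comp P)) = c • ⟨a, ma⟩ from rfl]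
    change χ (cl (Q.comp P) (c • _)) = 0
    rw [cl_smul, map_smul, show χ (cl (Q.comp P) ⟨a, ma⟩) = 0 from ha, smul_zero]

variable [Module B M] [IsScalarTower B C M]

theorem comp_toCompHom_relModMap (f : relMod P) :
    (ofCompHom Q P).relModMap ((toCompHom Q P).relModMap f) = 0 := by
  rw [toCompHom_relModMap, ofCompHom_inrPart]

theorem ofCompHom_L1map_basis_inl (t : σ') :
    (ofCompHom Q P).L1map (L1basis (Q.comp P) (Sum.inl t)) = L1basis Q t := by
  rw [L1basis_eq, L1basis_eq, L1map_toL1, PresHom.relModMap_single, map_one, one_smul, ofCompHom_relVal_inl]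

theorem ofCompHom_L1map_basis_inr (s : σ) :
    (ofCompHom Q P).L1map (L1basis (Q.comp P) (Sum.inr s)) = 0 := by
  rw [L1basis_eq, L1map_toL1, PresHom.relModMap_single, map_one, one_smul, ofCompHom_relVal_inr, map_zero]

theorem toCompHom_L1map_basis (s : σ) :
    (toCompHom Q P).L1map (L1basis P s) = L1basis (Q.comp P) (Sum.inr s) := by
  rw [L1basis_eq, L1basis_eq, L1map_toL1, PresHom.relModMap_single, map_one, one_smul]
  rfl

theorem ofCompHom_L0map_basis_inl (i : ι') :
    (ofCompHom Q P).L0map ((Q.comp P).cotangentSpaceBasis (Sum.inl i)) = Q.cotangentSpaceBasis i := by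
  rw [cotangentSpaceBasis_eq, cotangentSpaceBasis_eq, L0map_oneD]
  exact congrArg (oneD Q) ((Algebra.Generators.Hom.toAlgHom_X _ _).trans rfl)

theorem ofCompHom_L0map_basis_inr (i : ι) :
    (ofCompHom Q P).L0map ((Q.comp P).cotangentSpaceBasis (Sum.inr i)) = 0 := by
  rw [cotangentSpaceBasis_eq, L0map_oneD]
  refine (congrArg (oneD Q) ((Algebra.Generators.Hom.toAlgHom_X _ _).trans rfl)).trans ?_
  exact oneD_const (P := Q) (P.val i)

theorem toCompHom_L0map_basis (i : ι) :
    (toCompHom Q P).L0map (P.cotangentSpaceBasis i) = (Q.comp P).cotangentSpaceBasis (Sum.inr i) := by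
  rw [cotangentSpaceBasis_eq, cotangentSpaceBasis_eq, L0map_oneD]
  exact congrArg (oneD (Q.comp P)) ((Algebra.Generators.Hom.toAlgHom_X _ _).trans rfl)

variable (M)

theorem pull0_props :
    Function.Injective ((ofCompHom Q P).pull0 M) ∧
      Function.Exact ((ofCompHom Q P).pull0 M) ((toCompHom Q P).pull0 M) ∧
      Function.Surjective ((toCompHom Q P).pull0 M) := by
  refine ⟨fun ψ ψ' h => Q.cotangentSpaceBasis.ext fun i => ?_, fun ψ => ⟨fun h => ?_, ?_⟩, fun φ => ?_⟩
  · have h1 := LinearMap.congr_fun h ((Q.comp P).cotangentSpaceBasis (Sum.inl i))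
    rwa [PresHom.pull0_apply, PresHom.pull0_apply, ofCompHom_L0map_basis_inl] at h1
  · refine ⟨Q.cotangentSpaceBasis.constr ℕ fun i => ψ ((Q.comp P).cotangentSpaceBasis (Sum.inl i)),
      (Q.comp P).cotangentSpaceBasis.ext fun r => ?_⟩
    rw [PresHom.pull0_apply]
    cases r with
    | inl i => rw [ofCompHom_L0map_basis_inl, Module.Basis.constr_basis]
    | inr i =>
      rw [ofCompHom_L0map_basis_inr, map_zero, ← toCompHom_L0map_basis]
      exact (LinearMap.congr_fun h _).symm
  · rintro ⟨χ, rfl⟩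
    refine P.cotangentSpaceBasis.ext fun i => ?_
    rw [PresHom.pull0_apply, toCompHom_L0map_basis, PresHom.pull0_apply, ofCompHom_L0map_basis_inr, map_zero]
    rfl
  · refine ⟨(Q.comp P).cotangentSpaceBasis.constr ℕ (Sum.elim (fun _ => 0) fun i => φ (P.cotangentSpaceBasis i)),
      P.cotangentSpaceBasis.ext fun i => ?_⟩
    rw [PresHom.pull0_apply, toCompHom_L0map_basis, Module.Basis.constr_basis, Sum.elim_inr]

theorem pull1_props :
    Function.Injective ((ofCompHom Q P).pull1 M) ∧
      Function.Exact ((ofCompHom Q P).pull1 M) ((toCompHom Q P).pull1 M) ∧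
      Function.Surjective ((toCompHom Q P).pull1 M) := by
  refine ⟨fun ψ ψ' h => (L1basis Q).ext fun i => ?_, fun ψ => ⟨fun h => ?_, ?_⟩, fun φ => ?_⟩
  · have h1 := LinearMap.congr_fun h (L1basis (Q.comp P) (Sum.inl i))
    rwa [PresHom.pull1_apply, PresHom.pull1_apply, ofCompHom_L1map_basis_inl] at h1
  · refine ⟨(L1basis Q).constr ℕ fun i => ψ (L1basis (Q.comp P) (Sum.inl i)),
      (L1basis (Q.comp P)).ext fun r => ?_⟩
    rw [PresHom.pull1_apply]
    cases r with
    | inl i => rw [ofCompHom_L1map_basis_inl, Module.Basis.constr_basis]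
    | inr i =>
      rw [ofCompHom_L1map_basis_inr, map_zero, ← toCompHom_L1map_basis]
      exact (LinearMap.congr_fun h _).symm
  · rintro ⟨χ, rfl⟩
    refine (L1basis P).ext fun i => ?_
    rw [PresHom.pull1_apply, toCompHom_L1map_basis, PresHom.pull1_apply, ofCompHom_L1map_basis_inr, map_zero]
    rfl
  · refine ⟨(L1basis (Q.comp P)).constr ℕ (Sum.elim (fun _ => 0) fun i => φ (L1basis P i)),
      (L1basis P).ext fun i => ?_⟩
    rw [PresHom.pull1_apply, toCompHom_L1map_basis, Module.Basis.constr_basis, Sum.elim_inr]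

theorem exists_factor {X Y N : Type*} [AddCommGroup X] [AddCommGroup Y] [AddCommGroup N] [Module C X] [Module C Y]
    [Module C N] (b : X →ₗ[C] Y) (hb : Function.Surjective b) (χ : X →ₗ[C] N) (h : ∀ z, b z = 0 → χ z = 0) :
    ∃ ψ : Y →ₗ[C] N, ∀ z, ψ (b z) = χ z := by
  refine ⟨Submodule.liftQ _ χ h ∘ₗ (LinearMap.quotKerEquivOfSurjective b hb).symm.toLinearMap, fun z => ?_⟩
  change Submodule.liftQ _ χ h ((LinearMap.quotKerEquivOfSurjective b hb).symm (b z)) = χ z
  rw [LinearMap.quotKerEquivOfSurjective_symm_apply]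
  exact Submodule.liftQ_apply _ _ _

theorem pull2_props :
    Function.Injective ((ofCompHom Q P).pull2 M) ∧
      Function.Exact ((ofCompHom Q P).pull2 M) ((toCompHom Q P).pull2 M) := by
  let b : L2 (Q.comp P) →ₗ[C] L2 Q :=
    { toFun := fun z => (ofCompHom Q P).L2map z
      map_add' := fun x y => map_add _ x y
      map_smul' := fun c x => by rw [LinearMap.map_smulₛₗ, Algebra.algebraMap_self_apply, RingHom.id_apply] }
  have hb : Function.Surjective b := ofCompHom_L2map_surjective Q P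
  refine ⟨fun ψ ψ' h => LinearMap.ext fun z => ?_, fun χ => ⟨fun h => ?_, ?_⟩⟩
  · obtain ⟨z, rfl⟩ := ofCompHom_L2map_surjective Q P z
    exact LinearMap.congr_fun h z
  · have h' : ∀ w : L2 P, χ ((toCompHom Q P).L2map w) = 0 := fun w => by
      have h1 := LinearMap.congr_fun h w
      rw [PresHom.pull2_apply, LinearMap.zero_apply] at h1
      exact h1
    have h3 := ker_L2map_le Q P χ h'
    have h4 : ∀ z, b z = 0 → χ z = 0 := fun z hz => h3 z hz
    obtain ⟨ψ, hψ⟩ := exists_factor b hb χ h4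
    refine ⟨ψ, LinearMap.ext fun z => ?_⟩
    rw [PresHom.pull2_apply]
    exact hψ z
  · rintro ⟨ψ, rfl⟩
    refine LinearMap.ext fun z => ?_
    obtain ⟨q, rfl⟩ := cl_surjective P z
    refine (congrArg ((ofCompHom Q P).pull2 M ψ) (L2map_cl (toCompHom Q P) q)).trans ?_
    refine (congrArg ψ (L2map_cl (ofCompHom Q P) _)).trans ?_
    have h0 : cl Q ((ofCompHom Q P).relKerMap ((toCompHom Q P).relKerMap q)) = 0 :=
      cl_eq_zero Q (by
        rw [PresHom.relKerMap_coe, PresHom.relKerMap_coe, comp_toCompHom_relModMap]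
        exact zero_mem _)
    exact (congrArg ψ h0).trans (map_zero ψ)

/-- the differentials, over the base ring `B` -/
abbrev a₀ {ι₀ σ₀ : Type*} {A₀ : Type*} [CommRing A₀] [Algebra A₀ C] (R : Algebra.Presentation A₀ C ι₀ σ₀) :
    (L0 R →ₗ[C] M) →ₗ[B] (L1 R →ₗ[C] M) := (d1Star R M).restrictScalars B

/-- the differentials, over the base ring `B` -/
abbrev a₁ {ι₀ σ₀ : Type*} {A₀ : Type*} [CommRing A₀] [Algebra A₀ C] (R : Algebra.Presentation A₀ C ι₀ σ₀) :
    (L1 R →ₗ[C] M) →ₗ[B] (L2 R →ₗ[C] M) := (d2Star R M).restrictScalars B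

theorem isSES : IsSES (a₀ (B := B) M Q) (a₁ (B := B) M Q) (a₀ (B := B) M (Q.comp P)) (a₁ (B := B) M (Q.comp P))
    (d1Star P M) (d2Star P M)
    (((ofCompHom Q P).pull0 M).restrictScalars B) (((ofCompHom Q P).pull1 M).restrictScalars B)
    (((ofCompHom Q P).pull2 M).restrictScalars B)
    ((toCompHom Q P).pull0 M) ((toCompHom Q P).pull1 M) ((toCompHom Q P).pull2 M) where
  hb x := LinearMap.congr_fun (d2Star_comp_d1Star (Q.comp P) M) x
  ci₀ x := ((ofCompHom Q P).pull1_d1Star M x).symm
  ci₁ x := ((ofCompHom Q P).pull2_d2Star M x).symm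
  cp₀ x := ((toCompHom Q P).pull1_d1Star M x).symm
  cp₁ x := ((toCompHom Q P).pull2_d2Star M x).symm
  inj₀ := (pull0_props Q P M).1
  inj₁ := (pull1_props Q P M).1
  inj₂ := (pull2_props Q P M).1
  ex₀ := (pull0_props Q P M).2.1
  ex₁ := (pull1_props Q P M).2.1
  ex₂ := (pull2_props Q P M).2
  surj₀ := (pull0_props Q P M).2.2
  surj₁ := (pull1_props Q P M).2.2

/-- the class of a cocycle, over the base ring `B` -/
def mk1 {ι₀ σ₀ : Type*} {A₀ : Type*} [CommRing A₀] [Algebra A₀ C] (R : Algebra.Presentation A₀ C ι₀ σ₀) :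
    LinearMap.ker (a₁ (B := B) M R) →ₗ[B] T1 R M where
  toFun z := Submodule.Quotient.mk (⟨z.1, z.2⟩ : cocycles1 R M)
  map_add' _ _ := rfl
  map_smul' _ _ := rfl

/-- the identity from `ker` to `T⁰`, over the base ring `B` -/
def toT0 {ι₀ σ₀ : Type*} {A₀ : Type*} [CommRing A₀] [Algebra A₀ C] (R : Algebra.Presentation A₀ C ι₀ σ₀) :
    LinearMap.ker (a₀ (B := B) M R) ≃ₗ[B] T0 R M where
  toFun z := ⟨z.1, z.2⟩
  invFun z := ⟨z.1, z.2⟩
  map_add' _ _ := rfl
  map_smul' _ _ := rfl
  left_inv _ := rfl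
  right_inv _ := rfl

theorem mk1_surjective {ι₀ σ₀ : Type*} {A₀ : Type*} [CommRing A₀] [Algebra A₀ C]
    (R : Algebra.Presentation A₀ C ι₀ σ₀) : Function.Surjective (mk1 (B := B) M R) := fun x => by
  obtain ⟨z, rfl⟩ := Submodule.Quotient.mk_surjective _ x
  exact ⟨⟨z.1, z.2⟩, rfl⟩

theorem mk1_eq_zero {ι₀ σ₀ : Type*} {A₀ : Type*} [CommRing A₀] [Algebra A₀ C]
    (R : Algebra.Presentation A₀ C ι₀ σ₀) (z : LinearMap.ker (a₁ (B := B) M R)) :
    mk1 M R z = 0 ↔ ∃ x, a₀ (B := B) M R x = z.1 :=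
  Submodule.Quotient.mk_eq_zero (coboundaries1 R M)

theorem mk2_eq_zero {ι₀ σ₀ : Type*} {A₀ : Type*} [CommRing A₀] [Algebra A₀ C]
    (R : Algebra.Presentation A₀ C ι₀ σ₀) (z : L2 R →ₗ[C] M) :
    (LinearMap.range (d2Star R M)).mkQ.restrictScalars B z = 0 ↔ ∃ x, a₁ (B := B) M R x = z :=
  Submodule.Quotient.mk_eq_zero (LinearMap.range (d2Star R M))

set_option maxHeartbeats 1000000 in
theorem transitivity :
    Function.Injective ((ofCompHom Q P).T0pull M) ∧
    Function.Exact ((ofCompHom Q P).T0pull M) ((toCompHom Q P).T0pull M) ∧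
    Function.Exact ((ofCompHom Q P).T1pull M) ((toCompHom Q P).T1pull M) ∧
    Function.Exact ((ofCompHom Q P).T2pull M) ((toCompHom Q P).T2pull M) ∧
    ∃ (δ₀ : T0 P M →+ T1 Q M) (δ₁ : T1 P M →+ T2 Q M),
      Function.Exact ((toCompHom Q P).T0pull M) δ₀ ∧ Function.Exact δ₀ ((ofCompHom Q P).T1pull M) ∧
      Function.Exact ((toCompHom Q P).T1pull M) δ₁ ∧ Function.Exact δ₁ ((ofCompHom Q P).T2pull M) := by
  obtain ⟨h1, h2, h3, h4, δ₀, δ₁, h5, h6, h7, h8⟩ := (isSES Q P M).nine_term
    (mk1 M Q) (mk1 M (Q.comp P)) (coboundaries1 P M).mkQ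
    ((LinearMap.range (d2Star Q M)).mkQ.restrictScalars B)
    ((LinearMap.range (d2Star (Q.comp P) M)).mkQ.restrictScalars B) (LinearMap.range (d2Star P M)).mkQ
    (mk1_surjective M Q) (mk1_surjective M (Q.comp P))
    (Submodule.mkQ_surjective (coboundaries1 P M)) (Submodule.mkQ_surjective (LinearMap.range (d2Star Q M)))
    (Submodule.mkQ_surjective (LinearMap.range (d2Star (Q.comp P) M)))
    (mk1_eq_zero M Q) (mk1_eq_zero M (Q.comp P))
    (fun z => Submodule.Quotient.mk_eq_zero (coboundaries1 P M)) (mk2_eq_zero M Q) (mk2_eq_zero M (Q.comp P))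
    (fun z => Submodule.Quotient.mk_eq_zero (LinearMap.range (d2Star P M)))
    ((toT0 M (Q.comp P)).symm.toLinearMap ∘ₗ ((ofCompHom Q P).T0pull M).restrictScalars B ∘ₗ (toT0 M Q).toLinearMap)
    ((toCompHom Q P).T0pull M ∘ₗ (toT0 M (Q.comp P)).toLinearMap)
    (((ofCompHom Q P).T1pull M).restrictScalars B) ((toCompHom Q P).T1pull M)
    (((ofCompHom Q P).T2pull M).restrictScalars B) ((toCompHom Q P).T2pull M)
    (fun _ => rfl) (fun _ => rfl)
    (fun z w h => congrArg Submodule.Quotient.mk (Subtype.ext h.symm))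
    (fun z w h => congrArg Submodule.Quotient.mk (Subtype.ext h.symm))
    (fun _ => rfl) (fun _ => rfl)
  exact ⟨h1, h2, h3, h4, δ₀.toAddMonoidHom, δ₁.toAddMonoidHom, h5, h6, h7, h8⟩

theorem exact_comp_surjective {X Y Z X' : Type*} [Zero Z] {G : X → Y} {f : Y → Z} (ψ : X' → X)
    (hψ : Function.Surjective ψ) (h : Function.Exact G f) : Function.Exact (G ∘ ψ) f := fun y => by
  rw [h y, hψ.range_comp]

theorem exact_injective_comp {X Y Z Z' : Type*} [Zero Z] [Zero Z'] {f : X → Y} {F : Y → Z} (p : Z → Z')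
    (hp : Function.Injective p) (hp0 : p 0 = 0) (h : Function.Exact f F) : Function.Exact f (p ∘ F) :=
  fun y => (hp.eq_iff' hp0).trans (h y)

theorem exact_conj {X Y Y' Z : Type*} [Zero Z] {F : X → Y} {G : Y → Z} (p : Y → Y') (q : Y' → Y)
    (hqp : ∀ y, q (p y) = y) (hpq : ∀ y, p (q y) = y) (h : Function.Exact F G) :
    Function.Exact (p ∘ F) (G ∘ q) := fun y => by
  constructor
  · intro hy
    obtain ⟨x, hx⟩ := (h (q y)).1 hy
    exact ⟨x, (congrArg p hx).trans (hpq y)⟩
  · rintro ⟨x, rfl⟩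
    exact (congrArg G (hqp _)).trans (h.apply_apply_eq_zero x)

section any

variable {κ : Type*} {ρ : Type*} (K : Algebra.Presentation A C κ ρ) (h : PresHom P K) (h' : PresHom K Q)

theorem T0pull_factor₁ : ⇑(h.T0pull M) = ⇑((toCompHom Q P).T0pull M) ∘ ⇑((someHom (Q.comp P) K).T0pull M) :=
  funext fun x => (LinearMap.congr_fun (T0pull_eq h (presComp (someHom (Q.comp P) K) (toCompHom Q P))) x).trans
    (T0pull_comp _ _ x)

theorem T1pull_factor₁ : ⇑(h.T1pull M) = ⇑((toCompHom Q P).T1pull M) ∘ ⇑((someHom (Q.comp P) K).T1pull M) :=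
  funext fun x => (LinearMap.congr_fun (T1pull_eq h (presComp (someHom (Q.comp P) K) (toCompHom Q P))) x).trans
    (T1pull_comp _ _ x)

theorem T2pull_factor₁ : ⇑(h.T2pull M) = ⇑((toCompHom Q P).T2pull M) ∘ ⇑((someHom (Q.comp P) K).T2pull M) :=
  funext fun x => (LinearMap.congr_fun (T2pull_eq h (presComp (someHom (Q.comp P) K) (toCompHom Q P))) x).trans
    (T2pull_comp _ _ x)

theorem T0pull_factor₂ : ⇑(h'.T0pull M) = ⇑((someHom K (Q.comp P)).T0pull M) ∘ ⇑((ofCompHom Q P).T0pull M) :=
  funext fun x => (LinearMap.congr_fun (T0pull_eq h' (presComp (ofCompHom Q P) (someHom K (Q.comp P)))) x).trans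
    (T0pull_comp _ _ x)

theorem T1pull_factor₂ : ⇑(h'.T1pull M) = ⇑((someHom K (Q.comp P)).T1pull M) ∘ ⇑((ofCompHom Q P).T1pull M) :=
  funext fun x => (LinearMap.congr_fun (T1pull_eq h' (presComp (ofCompHom Q P) (someHom K (Q.comp P)))) x).trans
    (T1pull_comp _ _ x)

theorem T2pull_factor₂ : ⇑(h'.T2pull M) = ⇑((someHom K (Q.comp P)).T2pull M) ∘ ⇑((ofCompHom Q P).T2pull M) :=
  funext fun x => (LinearMap.congr_fun (T2pull_eq h' (presComp (ofCompHom Q P) (someHom K (Q.comp P)))) x).trans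
    (T2pull_comp _ _ x)

/-- the transitivity sequence, for any presentation `K` of `C` over `A` -/
theorem transitivity_any :
    Function.Injective (h'.T0pull M) ∧
    Function.Exact (h'.T0pull M) (h.T0pull M) ∧
    Function.Exact (h'.T1pull M) (h.T1pull M) ∧
    Function.Exact (h'.T2pull M) (h.T2pull M) ∧
    ∃ (δ₀ : T0 P M →+ T1 Q M) (δ₁ : T1 P M →+ T2 Q M),
      Function.Exact (h.T0pull M) δ₀ ∧ Function.Exact δ₀ (h'.T1pull M) ∧
      Function.Exact (h.T1pull M) δ₁ ∧ Function.Exact δ₁ (h'.T2pull M) := by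
  obtain ⟨hinj, hE0, hE1, hE2, δ₀, δ₁, hA0, hB0, hA1, hB1⟩ := transitivity Q P M
  have r0 : ∀ x : T0 (Q.comp P) M, (someHom (Q.comp P) K).T0pull M ((someHom K (Q.comp P)).T0pull M x) = x :=
    T0pull_roundtrip (Q.comp P) K (someHom K (Q.comp P)) (someHom (Q.comp P) K)
  have r1 : ∀ x : T1 (Q.comp P) M, (someHom (Q.comp P) K).T1pull M ((someHom K (Q.comp P)).T1pull M x) = x :=
    T1pull_roundtrip (Q.comp P) K (someHom K (Q.comp P)) (someHom (Q.comp P) K)
  have r2 : ∀ x : T2 (Q.comp P) M, (someHom (Q.comp P) K).T2pull M ((someHom K (Q.comp P)).T2pull M x) = x :=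
    T2pull_roundtrip (Q.comp P) K (someHom K (Q.comp P)) (someHom (Q.comp P) K)
  have l0 : ∀ x : T0 K M, (someHom K (Q.comp P)).T0pull M ((someHom (Q.comp P) K).T0pull M x) = x :=
    T0pull_roundtrip K (Q.comp P) (someHom (Q.comp P) K) (someHom K (Q.comp P))
  have l1 : ∀ x : T1 K M, (someHom K (Q.comp P)).T1pull M ((someHom (Q.comp P) K).T1pull M x) = x :=
    T1pull_roundtrip K (Q.comp P) (someHom (Q.comp P) K) (someHom K (Q.comp P))
  have l2 : ∀ x : T2 K M, (someHom K (Q.comp P)).T2pull M ((someHom (Q.comp P) K).T2pull M x) = x :=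
    T2pull_roundtrip K (Q.comp P) (someHom (Q.comp P) K) (someHom K (Q.comp P))
  rw [T0pull_factor₂ Q P M K h', T1pull_factor₂ Q P M K h', T2pull_factor₂ Q P M K h',
    T0pull_factor₁ Q P M K h, T1pull_factor₁ Q P M K h, T2pull_factor₁ Q P M K h]
  refine ⟨(Function.LeftInverse.injective r0).comp hinj, exact_conj _ _ r0 l0 hE0, exact_conj _ _ r1 l1 hE1,
    exact_conj _ _ r2 l2 hE2, δ₀, δ₁, ?_, ?_, ?_, ?_⟩
  · exact exact_comp_surjective _ (Function.RightInverse.surjective r0) hA0
  · exact exact_injective_comp _ (Function.LeftInverse.injective r1) (map_zero _) hB0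
  · exact exact_comp_surjective _ (Function.RightInverse.surjective r1) hA1
  · exact exact_injective_comp _ (Function.LeftInverse.injective r2) (map_zero _) hB1

end any

end Groth.Agent.CotTLib

end
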