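import Groth.Agent.CotTLib.RegSurj
import Groth.Agent.CotTLib.Transitivity
import Groth.Agent.LC.ExtDim
import Groth.Agent.CAlgGlobalDim.RegSeq

/-! Regular sequences, trivial relations and the vanishing of `T²` of a quotient. -/

universe u v m

set_option linter.unusedSectionVars false

noncomputable section

namespace Groth.Agent.CotTLib

open CotT IsLocalRing RingTheory.Sequence

section trivmap

variable {R S : Type u} [CommRing R] [CommRing S] (g : R →+* S) {σ : Type v} (f : σ → R)

theorem linearCombination_mapRange (z : σ →₀ R) :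
    Finsupp.linearCombination S (g ∘ f) (z.mapRange g (map_zero g)) = g (Finsupp.linearCombination R f z) := by
  induction z using Finsupp.induction_linear with
  | zero => simp
  | add a b ha hb => rw [Finsupp.mapRange_add (map_add g), map_add, map_add, map_add, ha, hb]
  | single i c => simp

theorem triv_map {z : σ →₀ R} (hz : z ∈ triv f) : z.mapRange g (map_zero g) ∈ triv (g ∘ f) := by
  induction hz using Submodule.span_induction with
  | mem x hx =>
    obtain ⟨c, d, rfl⟩ := hx
    refine Submodule.subset_span ⟨c.mapRange g (map_zero g), d.mapRange g (map_zero g), ?_⟩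
    rw [linearCombination_mapRange, linearCombination_mapRange]
    ext i
    simp
  | zero => simp
  | add a b _ _ ha hb => rw [Finsupp.mapRange_add (map_add g)]; exact add_mem ha hb
  | smul r a _ ha =>
    rw [show (r • a).mapRange g (map_zero g) = g r • a.mapRange g (map_zero g) by ext i; simp]
    exact Submodule.smul_mem _ _ ha

end trivmap

section regular

variable {A : Type u} [CommRing A] {r : ℕ} (f : Fin r → A)

/-- relations and trivial relations among the first `k` elements -/
def Zrel (k : ℕ) : Submodule A (Fin r →₀ A) :=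
  LinearMap.ker (Finsupp.linearCombination A f) ⊓ Finsupp.supported A A {j | j.1 < k}

/-- trivial relations among the first `k` elements -/
def Trel (k : ℕ) : Submodule A (Fin r →₀ A) :=
  Submodule.span A {y | ∃ c ∈ Finsupp.supported A A {j : Fin r | j.1 < k},
    ∃ d ∈ Finsupp.supported A A {j : Fin r | j.1 < k},
    y = Finsupp.linearCombination A f c • d - Finsupp.linearCombination A f d • c}

theorem Trel_le_supported (k : ℕ) : Trel f k ≤ Finsupp.supported A A {j : Fin r | j.1 < k} :=
  Submodule.span_le.2 fun _ ⟨_, hc, _, hd, e⟩ => e ▸ sub_mem (Submodule.smul_mem _ _ hd) (Submodule.smul_mem _ _ hc)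

theorem Trel_decomp (k : Fin r) {z : Fin r →₀ A} (hz : z ∈ Trel f (k.1 + 1)) :
    ∃ w ∈ Trel f k.1, ∃ v ∈ Finsupp.supported A A {j : Fin r | j.1 < k.1},
      z = w + f k • v - Finsupp.linearCombination A f v • Finsupp.single k 1 := by
  induction hz using Submodule.span_induction with
  | mem x hx =>
    obtain ⟨c, hc, d, hd, rfl⟩ := hx
    have hsplit : ∀ c ∈ Finsupp.supported A A {j : Fin r | j.1 < k.1 + 1},
        c - c k • Finsupp.single k 1 ∈ Finsupp.supported A A {j : Fin r | j.1 < k.1} := fun c hc => by
      rw [Finsupp.mem_supported'] at hc ⊢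
      intro i hi
      simp only [Set.mem_setOf_eq, not_lt] at hi
      rw [Finsupp.sub_apply, Finsupp.smul_apply, smul_eq_mul]
      rcases eq_or_lt_of_le hi with he | hlt
      · rw [show i = k from Fin.ext he.symm, Finsupp.single_eq_same, mul_one, sub_self]
      · rw [Finsupp.single_eq_of_ne (fun e => by simp [e] at hlt), mul_zero, sub_zero]
        exact hc i (by simp only [Set.mem_setOf_eq, not_lt]; omega)
    refine ⟨_, Submodule.subset_span ⟨_, hsplit c hc, _, hsplit d hd, rfl⟩,
      c k • (d - d k • Finsupp.single k 1) - d k • (c - c k • Finsupp.single k 1),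
      sub_mem (Submodule.smul_mem _ _ (hsplit d hd)) (Submodule.smul_mem _ _ (hsplit c hc)), ?_⟩
    simp only [map_sub, map_smul, Finsupp.linearCombination_single, smul_eq_mul, mul_one]
    ext i
    simp only [Finsupp.add_apply, Finsupp.sub_apply, Finsupp.smul_apply, smul_eq_mul]
    ring
  | zero => exact ⟨0, zero_mem _, 0, zero_mem _, by simp⟩
  | add a b _ _ ha hb =>
    obtain ⟨w, hw, v, hv, rfl⟩ := ha
    obtain ⟨w', hw', v', hv', rfl⟩ := hb
    refine ⟨w + w', add_mem hw hw', v + v', add_mem hv hv', ?_⟩
    rw [map_add, smul_add, add_smul]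
    abel
  | smul c a _ ha =>
    obtain ⟨w, hw, v, hv, rfl⟩ := ha
    refine ⟨c • w, Submodule.smul_mem _ c hw, c • v, Submodule.smul_mem _ c hv, ?_⟩
    rw [map_smul, smul_sub, smul_add, smul_comm c (f k), smul_smul c]
    rfl

theorem weaklyRegular_of_triv [IsNoetherianRing A] (hf : ∀ i, f i ∈ Ideal.jacobson (⊥ : Ideal A))
    (h : ∀ z, Finsupp.linearCombination A f z = 0 → z ∈ triv f) (k : Fin r) (x : A)
    (hx : x * f k ∈ Ideal.span (f '' {j | j < k})) : x ∈ Ideal.span (f '' {j | j < k}) := by
  have hsupp : ∀ {n : ℕ} {z : Fin r →₀ A}, z ∈ Finsupp.supported A A {j : Fin r | j.1 < n} →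
      ∀ i : Fin r, n ≤ i.1 → z i = 0 := fun hz i hi => (Finsupp.mem_supported' A _).1 hz i (by simpa using hi)
  have hmain : ∀ d n : ℕ, n + d = r → Zrel f n ≤ Trel f n := by
    intro d
    induction d with
    | zero =>
      intro n hn z hz
      refine Submodule.span_mono ?_ (h z hz.1)
      rintro _ ⟨c, d, rfl⟩
      have : ∀ c : Fin r →₀ A, c ∈ Finsupp.supported A A {j : Fin r | j.1 < n} := fun c =>
        (Finsupp.mem_supported' A _).2 fun i hi => absurd (show i.1 < n by omega) hi
      exact ⟨c, this c, d, this d, rfl⟩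
    | succ d ih =>
      intro n hn
      have hle : Zrel f n ≤ Trel f n ⊔ Ideal.jacobson (⊥ : Ideal A) • Zrel f n := by
        intro z hz
        let K : Fin r := ⟨n, by omega⟩
        have hz' : z ∈ Zrel f (n + 1) :=
          ⟨hz.1, Finsupp.supported_mono (fun i (hi : i ∈ {j : Fin r | j.1 < n}) => (Nat.lt_succ_of_lt hi : i ∈ {j : Fin r | j.1 < n + 1})) hz.2⟩
        obtain ⟨w, hw, v, hv, e⟩ := Trel_decomp f K (z := z) (ih (n + 1) (by omega) hz')
        have h0 : Finsupp.linearCombination A f v = 0 := by
          have h1 := DFunLike.congr_fun e K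
          rw [hsupp hz.2 K le_rfl, Finsupp.sub_apply, Finsupp.add_apply, Finsupp.smul_apply, Finsupp.smul_apply,
            hsupp (Trel_le_supported f n hw) K le_rfl, hsupp hv K le_rfl, Finsupp.single_eq_same, smul_zero,
            zero_add, smul_eq_mul, mul_one, zero_sub] at h1
          exact neg_eq_zero.1 h1.symm
        rw [e, h0, zero_smul, sub_zero]
        exact Submodule.add_mem_sup hw (Submodule.smul_mem_smul (hf K) ⟨h0, hv⟩)
      exact Submodule.le_of_le_smul_of_le_jacobson_bot (IsNoetherian.noetherian _) le_rfl hle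
  have himg : ∀ v ∈ Finsupp.supported A A {j : Fin r | j.1 < k.1},
      Finsupp.linearCombination A f v ∈ Ideal.span (f '' {j | j < k}) := fun v hv => by
    rw [Ideal.span, Finsupp.mem_span_image_iff_linearCombination]
    exact ⟨v, fun i hi => Fin.lt_def.2 (hv hi), rfl⟩
  have hx' := hx
  rw [Ideal.span, Finsupp.mem_span_image_iff_linearCombination] at hx'
  obtain ⟨a, ha, hax⟩ := hx'
  have ha' : a ∈ Finsupp.supported A A {j : Fin r | j.1 < k.1} := fun i hi => Fin.lt_def.1 (ha hi)
  have hz : x • Finsupp.single k 1 - a ∈ Zrel f (k.1 + 1) := by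
    refine ⟨?_, sub_mem (Submodule.smul_mem _ _ (Finsupp.single_mem_supported A (1 : A) (Nat.lt_succ_self k.1)))
      (Finsupp.supported_mono (fun i (hi : i ∈ {j : Fin r | j.1 < k.1}) => (Nat.lt_succ_of_lt hi : i ∈ {j : Fin r | j.1 < k.1 + 1})) ha')⟩
    rw [SetLike.mem_coe, LinearMap.mem_ker, map_sub, map_smul, Finsupp.linearCombination_single, one_smul, hax,
      smul_eq_mul, sub_self]
  obtain ⟨w, hw, v, hv, e⟩ := Trel_decomp f k
    (hmain (r - (k.1 + 1)) (k.1 + 1) (by have := k.2; omega) hz)
  have h1 := DFunLike.congr_fun e k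
  rw [Finsupp.sub_apply, Finsupp.smul_apply, Finsupp.single_eq_same, hsupp ha' k le_rfl, sub_zero,
    Finsupp.sub_apply, Finsupp.add_apply, Finsupp.smul_apply, Finsupp.smul_apply,
    hsupp (Trel_le_supported f k.1 hw) k le_rfl, hsupp hv k le_rfl, Finsupp.single_eq_same, smul_zero, zero_add,
    smul_eq_mul, mul_one, smul_eq_mul, mul_one, zero_sub] at h1
  rw [h1]
  exact neg_mem (himg v hv)

theorem isWeaklyRegular_ofFn
    (h : ∀ k : Fin r, ∀ x : A, x * f k ∈ Ideal.span (f '' {j | j < k}) → x ∈ Ideal.span (f '' {j | j < k})) :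
    IsWeaklyRegular A (List.ofFn f) := by
  refine (isWeaklyRegular_iff_Fin A _).2 fun i => ?_
  have hlen : (List.ofFn f).length = r := List.length_ofFn
  let k : Fin r := ⟨i.1, lt_of_lt_of_eq i.2 hlen⟩
  have hspan : Ideal.ofList ((List.ofFn f).take i.1) = Ideal.span (f '' {j | j < k}) := by
    refine congrArg Ideal.span (Set.ext fun y => ?_)
    simp only [Set.mem_setOf_eq, List.mem_take_iff_getElem, List.getElem_ofFn, Set.mem_image]
    constructor
    · rintro ⟨j, hj, rfl⟩
      exact ⟨⟨j, by simp only [List.length_ofFn] at hj; omega⟩, Fin.lt_def.2 (lt_min_iff.1 hj).1, rfl⟩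
    · rintro ⟨j, hj, rfl⟩
      exact ⟨j.1, lt_min (Fin.lt_def.1 hj) (by rw [hlen]; exact j.2), rfl⟩
  refine isSMulRegular_iff_right_eq_zero_of_smul.2 fun y hy => ?_
  obtain ⟨y, rfl⟩ := Submodule.Quotient.mk_surjective _ y
  rw [← Submodule.Quotient.mk_smul, Submodule.Quotient.mk_eq_zero, smul_eq_mul, smul_eq_mul, Ideal.mul_top,
    hspan, show (List.ofFn f)[i] = f k from (List.getElem_ofFn _), mul_comm] at hy
  rw [Submodule.Quotient.mk_eq_zero, smul_eq_mul, Ideal.mul_top, hspan]
  exact h k y hy

end regular

section pres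

variable {A B : Type u} [CommRing A] [CommRing B] [Algebra A B]

theorem C_constantCoeff (p : MvPolynomial PEmpty.{1} A) : MvPolynomial.C (MvPolynomial.constantCoeff p) = p := by
  induction p using MvPolynomial.induction_on with
  | C c => rw [MvPolynomial.constantCoeff_C]
  | add p q hp hq => rw [map_add, map_add, hp, hq]
  | mul_X p i _ => exact i.elim

/-- the presentation of a quotient without variables -/
def quotPres (hs : Function.Surjective (algebraMap A B)) {r : ℕ} (f : Fin r → A)
    (hI : RingHom.ker (algebraMap A B) = Ideal.span (Set.range f)) :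
    Algebra.Presentation A B PEmpty.{1} (Fin r) :=
  { toGenerators := Algebra.Generators.ofSurjective PEmpty.elim (fun b => by
      obtain ⟨x, rfl⟩ := hs b
      exact ⟨MvPolynomial.C x, MvPolynomial.aeval_C _ _⟩)
    relation := fun i => MvPolynomial.C (f i)
    span_range_relation_eq_ker := by
      rw [Algebra.Generators.ker_eq_ker_aeval_val]
      refine le_antisymm (Ideal.span_le.2 ?_) fun p hp => ?_
      · rintro _ ⟨i, rfl⟩
        rw [SetLike.mem_coe, RingHom.mem_ker, MvPolynomial.aeval_C, ← RingHom.mem_ker, hI]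
        exact Ideal.subset_span ⟨i, rfl⟩
      · rw [← C_constantCoeff p] at hp ⊢
        rw [RingHom.mem_ker, MvPolynomial.aeval_C, ← RingHom.mem_ker, hI] at hp
        have h2 := Ideal.mem_map_of_mem (MvPolynomial.C (σ := PEmpty.{1})) hp
        rw [Ideal.map_span, ← Set.range_comp] at h2
        exact h2 }

variable (hs : Function.Surjective (algebraMap A B)) {r : ℕ} (f : Fin r → A)
  (hI : RingHom.ker (algebraMap A B) = Ideal.span (Set.range f))

theorem relKer_le_iff :
    relKer (quotPres hs f hI) ≤ trivRel (quotPres hs f hI) ↔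
      ∀ z, Finsupp.linearCombination A f z = 0 → z ∈ triv f := by
  have hcf : (MvPolynomial.constantCoeff ∘ fun i => MvPolynomial.C (σ := PEmpty.{1}) (f i)) = f :=
    funext fun i => MvPolynomial.constantCoeff_C _ _
  constructor
  · intro h z hz
    have h1 : z.mapRange (MvPolynomial.C (σ := PEmpty.{1})) (map_zero _) ∈
        triv (fun i => MvPolynomial.C (σ := PEmpty.{1}) (f i)) := by
      refine h ?_
      change Finsupp.linearCombination (MvPolynomial PEmpty.{1} A) (fun i => MvPolynomial.C (σ := PEmpty.{1}) (f i)) _ = 0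
      rw [show (fun i => MvPolynomial.C (σ := PEmpty.{1}) (f i)) = MvPolynomial.C ∘ f from rfl,
        linearCombination_mapRange, hz, map_zero]
    have h2 := triv_map (MvPolynomial.constantCoeff (σ := PEmpty.{1}) (R := A)) _ h1
    rw [hcf] at h2
    convert h2
    ext i
    simp
  · intro h q hq
    let q' : Fin r →₀ MvPolynomial PEmpty.{1} A := q
    have h1 : q'.mapRange MvPolynomial.constantCoeff (map_zero _) ∈ triv f := by
      refine h _ ?_
      have h3 := linearCombination_mapRange (MvPolynomial.constantCoeff (σ := PEmpty.{1}) (R := A))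
        (fun i => MvPolynomial.C (σ := PEmpty.{1}) (f i)) q'
      rw [hcf] at h3
      rw [h3, show Finsupp.linearCombination (MvPolynomial PEmpty.{1} A) (fun i => MvPolynomial.C (σ := PEmpty.{1}) (f i)) q' = 0 from hq,
        map_zero]
    have h2 := triv_map (MvPolynomial.C (σ := PEmpty.{1}) (R := A)) f h1
    have h4 : (q'.mapRange MvPolynomial.constantCoeff (map_zero _)).mapRange (MvPolynomial.C (σ := PEmpty.{1}))
        (map_zero _) = q' := Finsupp.ext fun i => C_constantCoeff (q' i)
    rw [h4] at h2
    exact h2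

include hs hI in
theorem subsingleton_T2_of_regular_quot
    (h : ∀ k : Fin r, ∀ x : A, x * f k ∈ Ideal.span (f '' {j | j < k}) → x ∈ Ideal.span (f '' {j | j < k}))
    (M : Type m) [AddCommGroup M] [Module B M] : Subsingleton (T2 (canon A B) M) := by
  refine (T2equiv (M := M) (quotPres hs f hI) (canon A B) (someHom _ _)).toEquiv.subsingleton_congr.2
    (subsingleton_T2_of_relKer_le _ ((relKer_le_iff hs f hI).2 fun z hz => ?_))
  refine (Submodule.span_le.2 ?_) (mem_koszul_of_regular f h z hz)
  rintro _ ⟨c, d, rfl⟩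
  exact Submodule.subset_span ⟨c, d, rfl⟩

include hs hI in
theorem triv_of_T2_eq_zero [IsNoetherianRing A] [IsLocalRing A] [Nontrivial B]
    (hmin : r ≤ Submodule.spanFinrank (RingHom.ker (algebraMap A B)))
    (h : ∀ (M : Type u) [AddCommGroup M] [Module B M], Subsingleton (T2 (canon A B) M))
    (z : Fin r →₀ A) (hz : Finsupp.linearCombination A f z = 0) : z ∈ triv f := by
  revert z hz
  rw [← relKer_le_iff hs f hI]
  let P := quotPres hs f hI
  have : IsNoetherianRing P.toExtension.Ring := inferInstanceAs (IsNoetherianRing (MvPolynomial PEmpty.{1} A))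
  have : Module.Finite P.toExtension.Ring (L2 P) := Module.Finite.of_surjective (cl P) (cl_surjective P)
  have : Module.Finite B (L2 P) := Module.Finite.of_restrictScalars_finite P.toExtension.Ring B _
  have : IsLocalRing B := IsLocalRing.of_surjective' (algebraMap A B) hs
  -- coefficients of relations are in the maximal ideal
  have hcoef : ∀ q : relKer P, ∀ i, algebraMap P.toExtension.Ring B (q.1 i) ∈ maximalIdeal B := by
    intro q i
    by_contra hu
    have hu' : IsUnit (algebraMap P.toExtension.Ring B (q.1 i)) := by simpa using hu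
    let z : Fin r →₀ A := (show Fin r →₀ MvPolynomial PEmpty.{1} A from q.1).mapRange
      MvPolynomial.constantCoeff (map_zero _)
    have hzi : IsUnit (z i) := by
      have : IsLocalHom (algebraMap A B) := hs.isLocalHom
      refine isUnit_of_map_unit (algebraMap A B) _ ?_
      have e : algebraMap P.toExtension.Ring B (q.1 i) = algebraMap A B (z i) := by
        rw [algebraMap_toExtension]
        conv_lhs => rw [← C_constantCoeff (q.1 i)]
        exact MvPolynomial.aeval_C _ _
      rw [← e]; exact hu'
    have hz : Finsupp.linearCombination A f z = 0 := by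
      have h3 := linearCombination_mapRange (MvPolynomial.constantCoeff (σ := PEmpty.{1}) (R := A))
        (fun i => MvPolynomial.C (σ := PEmpty.{1}) (f i)) q.1
      rw [show (MvPolynomial.constantCoeff ∘ fun i => MvPolynomial.C (σ := PEmpty.{1}) (f i)) = f from
        funext fun i => MvPolynomial.constantCoeff_C _ _] at h3
      refine h3.trans ?_
      rw [show Finsupp.linearCombination (MvPolynomial PEmpty.{1} A) (fun i => MvPolynomial.C (σ := PEmpty.{1}) (f i)) q.1 = 0 from q.2,
        map_zero]
    obtain ⟨u, hu⟩ := hzi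
    have hfi : f i ∈ Ideal.span (f '' {j | j ≠ i}) := by
      have h5 : f i = Finsupp.linearCombination A f (Finsupp.single i 1 - (u⁻¹ : Aˣ).1 • z) := by
        rw [map_sub, map_smul, hz, smul_zero, sub_zero, Finsupp.linearCombination_single, one_smul]
      rw [h5, Ideal.span, Finsupp.mem_span_image_iff_linearCombination]
      refine ⟨_, fun j hj => ?_, rfl⟩
      rw [Finset.mem_coe, Finsupp.mem_support_iff] at hj
      intro e
      rw [show j = i from e, Finsupp.sub_apply, Finsupp.smul_apply, Finsupp.single_eq_same, smul_eq_mul, ← hu,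
        Units.inv_mul, sub_self] at hj
      exact hj rfl
    have hle : Ideal.span (Set.range f) = Ideal.span (f '' {j | j ≠ i}) := by
      refine le_antisymm (Ideal.span_le.2 ?_) (Ideal.span_mono (Set.image_subset_range _ _))
      rintro _ ⟨j, rfl⟩
      by_cases e : j = i
      · exact e ▸ hfi
      · exact Ideal.subset_span ⟨j, e, rfl⟩
    have hrank : Submodule.spanFinrank (RingHom.ker (algebraMap A B)) < r := by
      rw [hI, hle]
      refine lt_of_le_of_lt (Submodule.spanFinrank_span_le_ncard_of_finite (Set.toFinite _)) ?_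
      refine lt_of_le_of_lt (Set.ncard_image_le (Set.toFinite _)) ?_
      calc _ < (Set.univ : Set (Fin r)).ncard :=
            Set.ncard_lt_ncard (Set.ssubset_univ_iff.2 fun e => by
              have : i ∈ {j | j ≠ i} := e ▸ Set.mem_univ i
              exact this rfl) (Set.toFinite _)
        _ = r := by simp
    omega
  obtain ⟨l, hl⟩ : ∃ l : L1 P →ₗ[B] L2 P, l ∘ₗ d2 P = LinearMap.id := by
    have hT : Subsingleton (T2 P (L2 P)) :=
      (T2equiv (M := L2 P) P (canon A B) (someHom _ _)).toEquiv.subsingleton_congr.1 (h (L2 P))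
    have h0 : (Submodule.Quotient.mk LinearMap.id : T2 P (L2 P)) = 0 := @Subsingleton.elim _ hT _ _
    obtain ⟨l, hl⟩ := (Submodule.Quotient.mk_eq_zero _).1 h0
    exact ⟨l, hl⟩
  have htop : (⊤ : Submodule B (L2 P)) ≤ maximalIdeal B • (⊤ : Submodule B (L2 P)) := fun z _ => by
    obtain ⟨q, rfl⟩ := cl_surjective P z
    have h1 : toL1 P q.1 ∈ maximalIdeal B • (⊤ : Submodule B (L1 P)) := by
      rw [← Finsupp.sum_single q.1, map_finsuppSum]
      exact Submodule.sum_mem _ fun i _ => by
        dsimp only
        rw [toL1_single]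
        exact Submodule.smul_mem_smul (hcoef q i) trivial
    have h2 : l (toL1 P q.1) = cl P q := by rw [← d2_cl]; exact LinearMap.congr_fun hl (cl P q)
    rw [← h2]
    have h3 := Submodule.mem_map_of_mem (f := l) h1
    rw [Submodule.map_smul''] at h3
    exact Submodule.smul_mono le_rfl le_top h3
  have hbot : (⊤ : Submodule B (L2 P)) = ⊥ :=
    Submodule.eq_bot_of_le_smul_of_le_jacobson_bot (maximalIdeal B) ⊤ Module.Finite.fg_top htop
      (IsLocalRing.maximalIdeal_le_jacobson _)
  intro q hq
  refine (cl_eq_zero_iff P ⟨q, hq⟩).1 ?_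
  have : cl P ⟨q, hq⟩ ∈ (⊤ : Submodule B (L2 P)) := trivial
  rw [hbot] at this
  exact this

end pres

theorem isCM_of_isRegularLocalRing (A : Type u) [CommRing A] [IsRegularLocalRing A] :
    LocCoh.IsCohenMacaulayModule A A := by
  obtain ⟨n, hn⟩ : ∃ n : ℕ, ringKrullDim A = n := ⟨_, ((isRegularLocalRing_iff A).1 inferInstance).symm⟩
  have hfg := (maximalIdeal A).fg_of_isNoetherianRing
  have hfin := Submodule.FG.finite_generators hfg
  let rs : List A := hfin.toFinset.toList
  have hlen : rs.length = n := by
    rw [Finset.length_toList, ← Set.ncard_eq_toFinset_card _ hfin, Submodule.FG.generators_ncard hfg]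
    exact CAlgGlobalDim.spanFinrank_eq_of_dim A n hn
  have hspan : Ideal.ofList rs = maximalIdeal A := by
    rw [Ideal.ofList, show {r | r ∈ rs} = (maximalIdeal A).generators by ext; simp [rs]]
    exact (maximalIdeal A).span_generators
  have hreg := CAlgGlobalDim.isWeaklyRegular_of_generators rs.length A rs rfl hspan
    (by rw [hlen, CAlgGlobalDim.spanFinrank_eq_of_dim A n hn])
  have h1 : (rs.length : ℕ∞) ≤ LocCoh.depth A A :=
    Alg6.length_le_idealDepth hreg fun r hr => hspan ▸ Ideal.subset_span hr
  unfold LocCoh.IsCohenMacaulayModule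
  refine le_antisymm ?_ (LC.depth_le_supportDim A)
  rw [Module.supportDim_self_eq_ringKrullDim, hn, ← hlen]
  exact WithBot.coe_le_coe.2 h1

theorem isWeaklyRegular_of_dim {A : Type u} [CommRing A] [IsRegularLocalRing A] (rs : List A)
    (hmem : ∀ r ∈ rs, r ∈ maximalIdeal A)
    (hdim : (rs.length : WithBot ℕ∞) + ringKrullDim (A ⧸ Ideal.ofList rs) = ringKrullDim A) :
    IsWeaklyRegular A rs := by
  have hI : Ideal.ofList rs ≠ ⊤ := fun e => (maximalIdeal.isMaximal A).ne_top
    (top_le_iff.1 (e ▸ Ideal.span_le.2 hmem))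
  have h := LC.supportDim_eq_add_idealDepth A (isCM_of_isRegularLocalRing A) hI
  refine (LC.idealDepth_ofList_eq_length_iff rs hmem).1 ?_
  rw [Module.supportDim_self_eq_ringKrullDim,
    Module.supportDim_eq_of_equiv (Submodule.quotEquivOfEq _ (Ideal.ofList rs) (by rw [smul_eq_mul, Ideal.mul_top])),
    Module.supportDim_quotient_eq_ringKrullDim, ← hdim] at h
  have := Ideal.Quotient.nontrivial_iff.2 hI
  obtain ⟨D, hD⟩ : ∃ D : ℕ, ringKrullDim (A ⧸ Ideal.ofList rs) = D := by
    obtain ⟨D, hD⟩ := LC.exists_supportDim_eq_nat (R := A) (A ⧸ Ideal.ofList rs)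
    exact ⟨D, (Module.supportDim_quotient_eq_ringKrullDim _).symm.trans hD⟩
  rw [hD] at h
  generalize LocCoh.idealDepth (Ideal.ofList rs) A = e at h ⊢
  cases e with
  | top =>
    exfalso
    have h' : ((rs.length : ℕ∞) + (D : ℕ∞)) = (D : ℕ∞) + ⊤ := by exact_mod_cast h
    simp at h'
  | coe e =>
    have h' : rs.length + D = D + e := by exact_mod_cast h
    exact_mod_cast (by omega : e = rs.length)

theorem subsingleton_T2_iff_of_base (k A B : Type u) [CommRing k] [CommRing A] [CommRing B] [Algebra k A]
    [Algebra A B] [Algebra k B] [IsScalarTower k A B]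
    (hT : ∀ (N : Type u) [AddCommGroup N] [Module A N],
      Subsingleton (T1 (canon k A) N) ∧ Subsingleton (T2 (canon k A) N))
    (M : Type u) [AddCommGroup M] [Module B M] :
    Subsingleton (T2 (canon A B) M) ↔ Subsingleton (T2 (canon k B) M) := by
  let : Module A M := Module.compHom M (algebraMap A B)
  have : IsScalarTower A B M := IsScalarTower.of_algebraMap_smul fun _ _ => rfl
  obtain ⟨-, -, -, hex, δ₀, δ₁, -, -, -, hδ⟩ := transitivity_any (canon A B) (canon k A) M (canon k B)
    (canonHom k A k B) (canonHom k B A B)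
  have h1 := (hT M).1
  have h2 := (hT M).2
  refine ⟨fun h => subsingleton_of_forall_eq 0 fun x => ?_, fun h => subsingleton_of_forall_eq 0 fun x => ?_⟩
  · obtain ⟨y, rfl⟩ := (hex x).1 (Subsingleton.elim _ _)
    rw [Subsingleton.elim y 0, map_zero]
  · obtain ⟨y, rfl⟩ := (hδ x).1 (Subsingleton.elim _ _)
    rw [Subsingleton.elim y 0, map_zero]

end Groth.Agent.CotTLib

end
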