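import Groth.Agent.CotTLib.RegSurj
import Groth.Agent.RegLoc6.RegEtale
import Mathlib.RingTheory.Smooth.Local
import Mathlib.RingTheory.Smooth.Locus
import Mathlib.RingTheory.Unramified.LocalStructure
import Mathlib.RingTheory.RegularLocalRing.Polynomial
import Mathlib.RingTheory.Nullstellensatz
import Mathlib.RingTheory.Jacobson.Artinian

/-! Smoothness and regularity for algebras of finite type over an algebraically closed field. -/

universe u

set_option linter.unusedSectionVars false

noncomputable section

open TensorProduct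

namespace Groth.Agent.CotTLib

open IsLocalRing

variable {k B : Type u} [Field k] [CommRing B] [Algebra k B] [Algebra.FiniteType k B]

theorem isRegularLocalRing_of_isSmoothAt (p : Ideal B) [p.IsPrime] [Algebra.IsSmoothAt k p] :
    IsRegularLocalRing (Localization.AtPrime p) := by
  have : Algebra.FinitePresentation k B := Algebra.FinitePresentation.of_finiteType.1 inferInstance
  obtain ⟨f, hf, n, _, _, hse⟩ := Algebra.IsSmoothAt.exists_isStandardEtale_mvPolynomial (R := k) (p := p)
  have : IsNoetherianRing B := Algebra.FiniteType.isNoetherianRing k B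
  have : IsNoetherianRing (Localization.Away f) := IsLocalization.isNoetherianRing (Submonoid.powers f) _ ‹_›
  let Q : Ideal (Localization.Away f) := p.map (algebraMap B (Localization.Away f))
  have hdisj : Disjoint (Submonoid.powers f : Set B) (p : Set B) :=
    (Ideal.disjoint_powers_iff_notMem_of_isPrime _).mpr hf
  have : Q.IsPrime := IsLocalization.isPrime_of_isPrime_disjoint (.powers f) _ _ ‹_› hdisj
  have hQ : IsRegularLocalRing (Localization.AtPrime Q) := by
    refine RegLoc6.regular_of_etale (A := MvPolynomial (Fin n) k) Q ?_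
    exact IsRegularRing.isRegularLocalRing_localization _
  have hcomap : Q.comap (algebraMap B (Localization.Away f)) = p :=
    IsLocalization.under_map_of_isPrime_disjoint (Submonoid.powers f) _ ‹_› hdisj
  have e := (IsLocalization.localizationLocalizationAtPrimeIsoLocalization (Submonoid.powers f) Q).toRingEquiv
  have key : ∀ (p' : Ideal B) [p'.IsPrime], p' = p →
      (Localization.AtPrime Q ≃+* Localization.AtPrime p') → IsRegularLocalRing (Localization.AtPrime p) := by
    intro p' _ h e
    subst h
    exact IsRegularLocalRing.of_ringEquiv e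
  exact key _ hcomap e.symm

theorem smooth_of_isSmoothAt_maximal (h : ∀ (m : Ideal B) [m.IsMaximal], Algebra.IsSmoothAt k m) :
    Algebra.Smooth k B := by
  have : Algebra.FinitePresentation k B := Algebra.FinitePresentation.of_finiteType.1 inferInstance
  refine ⟨(Algebra.smoothLocus_eq_univ_iff (R := k) (A := B)).1 ?_, this⟩
  refine Set.eq_univ_of_forall fun q => ?_
  obtain ⟨m, hm, hle⟩ := Ideal.exists_le_maximal q.asIdeal q.2.ne_top
  have hm' : (⟨m, hm.isPrime⟩ : PrimeSpectrum B) ∈ Algebra.smoothLocus k B := h m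
  exact Algebra.isOpen_smoothLocus.stableUnderGeneralization
    ((PrimeSpectrum.le_iff_specializes q ⟨m, hm.isPrime⟩).1 hle) hm'

theorem isSmoothAt_of_isRegularLocalRing [IsAlgClosed k] (m : Ideal B) [m.IsMaximal]
    (h : IsRegularLocalRing (Localization.AtPrime m)) : Algebra.IsSmoothAt k m := by
  have := h
  obtain ⟨n, φ, hφ⟩ := Algebra.FiniteType.iff_quotient_mvPolynomial''.1 ‹Algebra.FiniteType k B›
  let P₀ := MvPolynomial (Fin n) k
  let Q : Ideal P₀ := m.comap φ.toRingHom
  have hQmax : Q.IsMaximal := Ideal.comap_isMaximal_of_surjective φ.toRingHom hφ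
  let ψ₀ : Localization.AtPrime Q →ₐ[k] Localization.AtPrime m :=
    IsLocalization.liftAlgHom (M := Q.primeCompl)
      (f := (IsScalarTower.toAlgHom k B (Localization.AtPrime m)).comp φ)
      (fun y => IsLocalization.map_units (Localization.AtPrime m) (⟨φ y, y.2⟩ : m.primeCompl))
  let P := Localization.AtPrime Q
  let : Algebra P (Localization.AtPrime m) := ψ₀.toRingHom.toAlgebra
  have : IsScalarTower k P (Localization.AtPrime m) := IsScalarTower.of_algebraMap_eq' ψ₀.comp_algebraMap.symm
  have hψ : ∀ a : P₀, ψ₀ (algebraMap P₀ P a) = algebraMap B (Localization.AtPrime m) (φ a) :=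
    fun a => IsLocalization.lift_eq _ a
  have hsurj : Function.Surjective (algebraMap P (Localization.AtPrime m)) := by
    intro z
    obtain ⟨b, s, rfl⟩ := IsLocalization.exists_mk'_eq m.primeCompl z
    obtain ⟨b, rfl⟩ := hφ b
    obtain ⟨s₀, hs₀⟩ := hφ s.1
    have hs₀Q : s₀ ∈ Q.primeCompl := fun hmem => s.2 (hs₀ ▸ hmem)
    refine ⟨IsLocalization.mk' P b (⟨s₀, hs₀Q⟩ : Q.primeCompl), ?_⟩
    rw [eq_comm, IsLocalization.mk'_eq_iff_eq_mul, ← hs₀, ← hψ b, ← hψ s₀]
    change ψ₀ _ = ψ₀ _ * ψ₀ _
    rw [← map_mul, IsLocalization.mk'_spec]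
  have : IsRegularLocalRing P := IsRegularRing.isRegularLocalRing_localization Q
  have : Module.Free P Ω[P⁄k] :=
    Module.Free.of_basis ((KaehlerDifferential.mvPolynomialBasis k (Fin n)).ofIsLocalizedModule P Q.primeCompl
      (KaehlerDifferential.map k k P₀ P))
  have : Module.Finite P Ω[P⁄k] :=
    Module.Finite.of_basis ((KaehlerDifferential.mvPolynomialBasis k (Fin n)).ofIsLocalizedModule P Q.primeCompl
      (KaehlerDifferential.map k k P₀ P))
  have : Algebra.FormallySmooth k P :=
    Algebra.FormallySmooth.comp k P₀ P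
  let K := ResidueField (Localization.AtPrime m)
  have hPK : Function.Surjective (algebraMap P K) := by
    intro z
    obtain ⟨y, rfl⟩ := IsLocalRing.residue_surjective z
    obtain ⟨x, rfl⟩ := hsurj y
    exact ⟨x, rfl⟩
  have hkK : Function.Bijective (algebraMap k K) := by
    let : Field (B ⧸ m) := Ideal.Quotient.field m
    have hfin : Module.Finite k (B ⧸ m) := finite_of_finite_type_of_isJacobsonRing k (B ⧸ m)
    have hb := IsAlgClosed.algebraMap_bijective_of_isIntegral (k := k) (K := B ⧸ m)
    refine ⟨(algebraMap k K).injective, fun z => ?_⟩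
    obtain ⟨y, hy⟩ := Ideal.bijective_algebraMap_quotient_residueField m |>.2 z
    obtain ⟨c, rfl⟩ := hb.2 y
    exact ⟨c, by rw [← hy, ← IsScalarTower.algebraMap_apply]⟩
  have : Algebra.FormallySmooth k K :=
    Algebra.FormallySmooth.of_equiv (AlgEquiv.ofBijective (Algebra.ofId k K) hkK)
  obtain ⟨σ, hσ⟩ := (Algebra.FormallySmooth.iff_split_injection (P := P) hPK).1 ‹_›
  have hker : RingHom.ker (algebraMap P K) = maximalIdeal P :=
    IsLocalRing.eq_maximalIdeal (RingHom.ker_isMaximal_of_surjective (algebraMap P K) hPK)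
  refine (Algebra.FormallySmooth.iff_injective_cotangentComplexBaseChange P K hsurj
    (IsNoetherian.noetherian _) (fun x hx => Ideal.Quotient.eq_zero_iff_mem.2 hx)).2 ?_
  refine (injective_iff_map_eq_zero _).2 fun z hz => ?_
  obtain ⟨f, rfl⟩ : ∃ f, z = (1 : K) ⊗ₜ f := by
    clear hz
    induction z using TensorProduct.induction_on with
    | zero => exact ⟨0, (TensorProduct.tmul_zero _ _).symm⟩
    | add a b ha hb =>
      obtain ⟨a', rfl⟩ := ha
      obtain ⟨b', rfl⟩ := hb
      exact ⟨a' + b', (TensorProduct.tmul_add _ _ _).symm⟩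
    | tmul c f =>
      obtain ⟨c, rfl⟩ := hPK c
      exact ⟨c • f, by rw [← TensorProduct.smul_tmul, Algebra.smul_def, mul_one]⟩
  rw [KaehlerDifferential.cotangentComplexBaseChange_tmul, one_smul, KaehlerDifferential.kerToTensor_apply] at hz
  have hfK : f.1 ∈ RingHom.ker (algebraMap P K) := by
    rw [RingHom.mem_ker, IsScalarTower.algebraMap_apply P (Localization.AtPrime m) K, show
      algebraMap P (Localization.AtPrime m) f.1 = 0 from f.2, map_zero]
  have hsq : f.1 ∈ maximalIdeal P ^ 2 := by
    rw [← hker]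
    refine (Ideal.toCotangent_eq_zero _ ⟨f.1, hfK⟩).1 ?_
    have h1 := LinearMap.congr_fun hσ ((RingHom.ker (algebraMap P K)).toCotangent ⟨f.1, hfK⟩)
    rw [LinearMap.comp_apply, KaehlerDifferential.kerCotangentToTensor_toCotangent, hz, map_zero] at h1
    exact h1.symm
  have hmem : f.1 ∈ maximalIdeal P * RingHom.ker (algebraMap P (Localization.AtPrime m)) :=
    (regSurj _ P (Localization.AtPrime m) _ hsurj le_rfl).1 ⟨f.2, hsq⟩
  have hgen : ∀ g ∈ maximalIdeal P * RingHom.ker (algebraMap P (Localization.AtPrime m)),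
      ∃ hg : g ∈ RingHom.ker (algebraMap P (Localization.AtPrime m)),
        (1 : K) ⊗ₜ[P] (⟨g, hg⟩ : RingHom.ker (algebraMap P (Localization.AtPrime m))) = 0 := by
    intro g hg
    induction hg using Submodule.mul_induction_on' with
    | mem_mul_mem a ha b hb =>
      refine ⟨Ideal.mul_mem_left _ a hb, ?_⟩
      have hsm : (⟨a * b, Ideal.mul_mem_left _ a hb⟩ : RingHom.ker (algebraMap P (Localization.AtPrime m))) =
          a • ⟨b, hb⟩ := rfl
      rw [hsm, ← TensorProduct.smul_tmul, Algebra.smul_def, mul_one,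
        show algebraMap P K a = 0 from hker.ge ha, TensorProduct.zero_tmul]
    | add a _ b _ ha hb =>
      obtain ⟨ha', ha⟩ := ha
      obtain ⟨hb', hb⟩ := hb
      refine ⟨add_mem ha' hb', ?_⟩
      rw [show (⟨a + b, add_mem ha' hb'⟩ : RingHom.ker (algebraMap P (Localization.AtPrime m))) =
        ⟨a, ha'⟩ + ⟨b, hb'⟩ from rfl, TensorProduct.tmul_add, ha, hb, add_zero]
  exact (hgen f.1 hmem).2

end Groth.Agent.CotTLib

end
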