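import Groth.Agent.CotTLib.Basic
import Groth.Prelude.Def_Exal

/-! Square-zero extensions are classified by `T¹`. -/

universe u w t

open TensorProduct

noncomputable section

namespace Groth.Agent.CotTLib

open CotT

section Calc

variable {A B : Type u} [CommRing A] [CommRing B] [Algebra A B]
variable {M : Type u} [AddCommGroup M] [Module B M] (X : Exal.Ext A B M)

theorem proj_incl (z : M) : X.proj (X.incl z) = 0 :=
  (X.isExtension.exact _).2 ⟨z, rfl⟩

theorem incl_mul_incl (z z' : M) : X.incl z * X.incl z' = 0 := by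
  rw [X.isExtension.mul_incl, proj_incl, zero_smul, map_zero]

theorem ext_mul_formula (x y : X.E) (z z' : M) :
    (x + X.incl z) * (y + X.incl z') = x * y + X.incl (X.proj x • z' + X.proj y • z) := by
  rw [map_add, ← X.isExtension.mul_incl x z', ← X.isExtension.mul_incl y z]
  rw [add_mul, mul_add, mul_add, incl_mul_incl, add_zero, mul_comm (X.incl z) y]
  abel

end Calc

section Exal

variable {A B : Type u} {ι : Type u} {σ : Type u}
variable [CommRing A] [CommRing B] [Algebra A B]
variable (P : Algebra.Presentation A B ι σ)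
variable {M : Type u} [AddCommGroup M] [Module B M]

/-- `ψ` lifts the structure map of the presentation to the extension `X` and restricts to `φ` on the kernel. -/
def IsLift (X : Exal.Ext A B M) (ψ : P.toExtension.Ring →ₐ[A] X.E)
    (φ : P.toExtension.Cotangent →ₗ[B] M) : Prop :=
  (∀ r, X.proj (ψ r) = algebraMap P.toExtension.Ring B r) ∧
    ∀ r : P.toExtension.ker, ψ (r : P.toExtension.Ring) = X.incl (φ (Algebra.Extension.Cotangent.mk r))

theorem exists_isLift (X : Exal.Ext A B M) : ∃ ψ φ, IsLift P X ψ φ := by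
  choose ℓ hℓ using fun i => X.isExtension.proj_surjective (P.val i)
  let ψ : P.toExtension.Ring →ₐ[A] X.E := (MvPolynomial.aeval ℓ : MvPolynomial ι A →ₐ[A] X.E)
  have hp : ∀ r, X.proj (ψ r) = algebraMap P.toExtension.Ring B r := by
    intro r
    rw [algebraMap_toExtension P r]
    change (X.proj.comp (MvPolynomial.aeval ℓ)) (r : MvPolynomial ι A) = _
    rw [MvPolynomial.comp_aeval]
    congr 1
    exact congrArg _ (funext hℓ)
  have hk : ∀ r : P.toExtension.ker, X.proj (ψ (r : P.toExtension.Ring)) = 0 := fun r =>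
    (hp _).trans r.2
  let f : P.toExtension.ker → M := fun r => X.kerLift _ (hk r)
  have hf : ∀ r : P.toExtension.ker, X.incl (f r) = ψ (r : P.toExtension.Ring) := fun r =>
    X.incl_kerLift _ (hk r)
  have hadd : ∀ r r', f (r + r') = f r + f r' := fun r r' => X.isExtension.incl_injective <| by
    rw [map_add, hf, hf, hf]
    exact map_add ψ _ _
  have hsmul : ∀ (s : P.toExtension.Ring) r, f (s • r) = algebraMap P.toExtension.Ring B s • f r :=
    fun s r => X.isExtension.incl_injective <| by
      rw [hf, ← hp s, ← X.isExtension.mul_incl, hf]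
      exact map_mul ψ _ _
  have hsq : ∀ x : P.toExtension.Ring, x ∈ P.toExtension.ker ^ 2 → ψ x = 0 := by
    intro x hx
    rw [pow_two] at hx
    induction hx using Submodule.mul_induction_on' with
    | mem_mul_mem a ha b hb =>
      rw [map_mul, ← hf ⟨a, ha⟩, ← hf ⟨b, hb⟩, incl_mul_incl]
    | add a _ b _ ha hb => rw [map_add, ha, hb, add_zero]
  choose sec hsec using (Algebra.Extension.Cotangent.mk_surjective (P := P.toExtension))
  have hwd : ∀ r r', Algebra.Extension.Cotangent.mk r = Algebra.Extension.Cotangent.mk r' →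
      f r = f r' := fun r r' h => X.isExtension.incl_injective <| by
    rw [hf, hf, ← sub_eq_zero, ← map_sub]
    exact hsq _ ((Algebra.Extension.Cotangent.mk_eq_mk_iff_sub_mem r r').1 h)
  choose secB hsecB using algebraMap_surjective P
  refine ⟨ψ,
    { toFun := fun c => f (sec c)
      map_add' := fun c c' => by
        rw [← hadd]
        exact hwd _ _ (by rw [map_add, hsec, hsec, hsec])
      map_smul' := fun b c => by
        rw [RingHom.id_apply]
        refine (hwd _ (secB b • sec c) ?_).trans (by rw [hsmul, hsecB])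
        rw [map_smul, hsec, hsec, ← algebraMap_smul B (secB b) c, hsecB] }, hp, fun r => ?_⟩
  change ψ (r : P.toExtension.Ring) = X.incl (f (sec _))
  rw [hwd _ r (hsec _), hf]

theorem ring_induction {motive : P.toExtension.Ring → Prop}
    (hC : ∀ a : A, motive (algebraMap A P.toExtension.Ring a))
    (hadd : ∀ r s : P.toExtension.Ring, motive r → motive s → motive (r + s))
    (hX : ∀ (r : P.toExtension.Ring) i, motive r → motive (r * var P i)) :
    ∀ r, motive r := fun r => MvPolynomial.induction_on r hC hadd hX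

theorem algHom_ext_var {E : Type u} [CommRing E] [Algebra A E] {f g : P.toExtension.Ring →ₐ[A] E}
    (h : ∀ i, f (var P i) = g (var P i)) : f = g :=
  MvPolynomial.algHom_ext h

/-- twisting a lift by a linear form on `L₀` -/
theorem exists_twist (X : Exal.Ext A B M) {ψ : P.toExtension.Ring →ₐ[A] X.E}
    {φ : P.toExtension.Cotangent →ₗ[B] M} (h : IsLift P X ψ φ) (θ : L0 P →ₗ[B] M) :
    ∃ ψ', IsLift P X ψ' (φ + θ ∘ₗ P.toExtension.cotangentComplex) ∧
      ∀ r, ψ' r = ψ r + X.incl (θ (oneD P r)) := by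
  let ψ' : P.toExtension.Ring →ₐ[A] X.E :=
    (MvPolynomial.aeval (fun i => ψ (var P i) + X.incl (θ (oneD P (var P i)))) :
      MvPolynomial ι A →ₐ[A] X.E)
  have key : ∀ r, ψ' r = ψ r + X.incl (θ (oneD P r)) := by
    refine ring_induction P (fun a => ?_) (fun r s hr hs => ?_) (fun r i hr => ?_)
    · rw [oneD_apply, Derivation.map_algebraMap, tmul_zero, map_zero θ, map_zero X.incl, add_zero,
        AlgHom.commutes, AlgHom.commutes]
    · rw [map_add ψ', hr, hs, map_add ψ, map_add (oneD P), map_add θ, map_add X.incl]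
      abel
    · rw [map_mul ψ', hr, show ψ' (var P i) = ψ (var P i) + X.incl (θ (oneD P (var P i))) from
        MvPolynomial.aeval_X _ i, ext_mul_formula, map_mul ψ, oneD_mul, map_add θ, map_smul θ,
        map_smul θ, h.1, h.1]
  refine ⟨ψ', ⟨fun r => ?_, fun r => ?_⟩, key⟩
  · rw [key, map_add, proj_incl, add_zero, h.1]
  · rw [key, h.2, ← map_add X.incl]
    rfl

theorem IsLift.homToT1_eq {X : Exal.Ext A B M} {ψ ψ' : P.toExtension.Ring →ₐ[A] X.E}
    {φ φ' : P.toExtension.Cotangent →ₗ[B] M} (h : IsLift P X ψ φ) (h' : IsLift P X ψ' φ') :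
    homToT1 P M φ = homToT1 P M φ' := by
  have hd : ∀ i, X.proj (ψ' (var P i) - ψ (var P i)) = 0 := fun i => by
    rw [map_sub, h.1, h'.1, sub_self]
  let θ : L0 P →ₗ[B] M := P.cotangentSpaceBasis.constr B fun i => X.kerLift _ (hd i)
  have hθ : ∀ i, X.incl (θ (oneD P (var P i))) = ψ' (var P i) - ψ (var P i) := fun i => by
    have e1 : oneD P (var P i) = P.cotangentSpaceBasis i :=
      (Algebra.Generators.cotangentSpaceBasis_apply P.toGenerators i).symm
    rw [e1, Module.Basis.constr_basis, Exal.Ext.incl_kerLift]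
  obtain ⟨ψ'', h'', hval⟩ := exists_twist P X h θ
  obtain rfl : ψ'' = ψ' := algHom_ext_var P fun i => by rw [hval, hθ]; abel
  obtain rfl : φ' = φ + θ ∘ₗ P.toExtension.cotangentComplex := by
    refine LinearMap.ext fun c => ?_
    obtain ⟨r, rfl⟩ := Algebra.Extension.Cotangent.mk_surjective c
    exact X.isExtension.incl_injective ((h'.2 r).symm.trans (h''.2 r))
  rw [map_add, left_eq_add, ← LinearMap.mem_ker, ker_homToT1]
  exact ⟨θ, rfl⟩

theorem IsLift.map_equiv {X Y : Exal.Ext A B M} {ψ : P.toExtension.Ring →ₐ[A] X.E}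
    {φ : P.toExtension.Cotangent →ₗ[B] M} (h : IsLift P X ψ φ) (e : Exal.Ext.Equiv X Y) :
    IsLift P Y (e.toAlgEquiv.toAlgHom.comp ψ) φ :=
  ⟨fun r => (e.proj_apply _).trans (h.1 r), fun r => (congrArg e.toAlgEquiv (h.2 r)).trans (e.apply_incl _)⟩

theorem IsLift.exists_decomp {X : Exal.Ext A B M} {ψ : P.toExtension.Ring →ₐ[A] X.E}
    {φ : P.toExtension.Cotangent →ₗ[B] M} (h : IsLift P X ψ φ) (x : X.E) :
    ∃ (r : P.toExtension.Ring) (z : M), x = ψ r + X.incl z := by
  obtain ⟨r, hr⟩ := algebraMap_surjective P (X.proj x)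
  obtain ⟨z, hz⟩ := (X.isExtension.exact (x - ψ r)).1 (by rw [map_sub, h.1, hr, sub_self])
  exact ⟨r, z, by rw [hz, add_sub_cancel]⟩

theorem IsLift.wd {X Y : Exal.Ext A B M} {ψ : P.toExtension.Ring →ₐ[A] X.E}
    {ψ' : P.toExtension.Ring →ₐ[A] Y.E} {φ : P.toExtension.Cotangent →ₗ[B] M}
    (h : IsLift P X ψ φ) (h' : IsLift P Y ψ' φ) {r r' : P.toExtension.Ring} {z z' : M}
    (e : ψ r + X.incl z = ψ r' + X.incl z') : ψ' r + Y.incl z = ψ' r' + Y.incl z' := by
  have e1 := congrArg X.proj e
  rw [map_add, map_add, proj_incl, proj_incl, add_zero, add_zero, h.1, h.1] at e1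
  have hr : r - r' ∈ P.toExtension.ker := by
    change algebraMap P.toExtension.Ring B (r - r') = 0
    rw [map_sub, e1, sub_self]
  have h2 : X.incl (φ (Algebra.Extension.Cotangent.mk ⟨r - r', hr⟩)) = X.incl (z' - z) := by
    rw [← h.2 ⟨r - r', hr⟩, map_sub X.incl]
    change ψ (r - r') = _
    rw [map_sub, sub_eq_sub_iff_add_eq_add, e, add_comm]
  have h3 := h'.2 ⟨r - r', hr⟩
  rw [X.isExtension.incl_injective h2, map_sub Y.incl] at h3
  rw [← sub_eq_zero]
  have h4 : ψ' r - ψ' r' = Y.incl z' - Y.incl z := (map_sub ψ' r r').symm.trans h3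
  calc ψ' r + Y.incl z - (ψ' r' + Y.incl z') = (ψ' r - ψ' r') + (Y.incl z - Y.incl z') := by abel
    _ = 0 := by rw [h4]; abel

theorem IsLift.nonempty_equiv {X Y : Exal.Ext A B M} {ψ : P.toExtension.Ring →ₐ[A] X.E}
    {ψ' : P.toExtension.Ring →ₐ[A] Y.E} {φ : P.toExtension.Cotangent →ₗ[B] M}
    (h : IsLift P X ψ φ) (h' : IsLift P Y ψ' φ) : Nonempty (Exal.Ext.Equiv X Y) := by
  choose rX zX hX using h.exists_decomp P
  choose rY zY hY using h'.exists_decomp P
  let f : X.E → Y.E := fun x => ψ' (rX x) + Y.incl (zX x)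
  let g : Y.E → X.E := fun y => ψ (rY y) + X.incl (zY y)
  have hf : ∀ r z, f (ψ r + X.incl z) = ψ' r + Y.incl z := fun r z => h.wd P h' (hX _).symm
  have hg : ∀ r z, g (ψ' r + Y.incl z) = ψ r + X.incl z := fun r z => h'.wd P h (hY _).symm
  let e : X.E ≃ₐ[A] Y.E :=
    { toFun := f
      invFun := g
      left_inv := fun x => by rw [hX x, hf, hg]
      right_inv := fun y => by rw [hY y, hg, hf]
      map_mul' := fun x y => by
        obtain ⟨r, z, rfl⟩ := h.exists_decomp P x
        obtain ⟨r', z', rfl⟩ := h.exists_decomp P y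
        rw [ext_mul_formula, h.1, h.1, ← map_mul ψ, hf, hf, hf, ext_mul_formula, h'.1, h'.1, map_mul ψ']
      map_add' := fun x y => by
        obtain ⟨r, z, rfl⟩ := h.exists_decomp P x
        obtain ⟨r', z', rfl⟩ := h.exists_decomp P y
        rw [add_add_add_comm, ← map_add ψ, ← map_add X.incl, hf, hf, hf, map_add ψ', map_add Y.incl,
          add_add_add_comm]
      commutes' := fun a => by
        have := hf (algebraMap A _ a) 0
        rwa [map_zero, map_zero, add_zero, add_zero, AlgHom.commutes, AlgHom.commutes] at this }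
  refine ⟨⟨e, fun x => ?_, fun z => ?_⟩⟩
  · change Y.proj (f x) = X.proj x
    rw [hX x, hf, map_add, map_add, proj_incl, proj_incl, h.1, h'.1]
  · change f (X.incl z) = Y.incl z
    have := hf 0 z
    rwa [map_zero, map_zero, zero_add, zero_add] at this

/-- the class of a section-split extension -/
theorem IsLift.of_section {X : Exal.Ext A B M} (s : B →ₐ[A] X.E) (hs : ∀ b, X.proj (s b) = b) :
    IsLift P X (s.comp (IsScalarTower.toAlgHom A P.toExtension.Ring B)) 0 :=
  ⟨fun r => hs _, fun r => by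
    change s (algebraMap P.toExtension.Ring B r) = _
    rw [show algebraMap P.toExtension.Ring B r = 0 from r.2, map_zero, LinearMap.zero_apply, map_zero]⟩

attribute [local instance] Exal.opModule Exal.isCentralScalar_opModule

theorem exists_ext_of_hom (φ : P.toExtension.Cotangent →ₗ[B] M) :
    ∃ (X : Exal.Ext A B M) (ψ : P.toExtension.Ring →ₐ[A] X.E), IsLift P X ψ φ := by
  let R := P.toExtension.Ring
  letI : Module R M := Module.compHom M (algebraMap R B)
  have hsm : ∀ (r : R) (z : M), r • z = algebraMap R B r • z := fun _ _ => rfl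
  let T := TrivSqZeroExt R M
  letI : Algebra A T := ((TrivSqZeroExt.inlHom R M).comp (algebraMap A R)).toAlgebra
  let J : Ideal T :=
    { carrier := {x | ∃ r : P.toExtension.ker, x.fst = (r : R) ∧
        x.snd = - φ (Algebra.Extension.Cotangent.mk r)}
      zero_mem' := ⟨0, rfl, by rw [map_zero, map_zero, neg_zero]; rfl⟩
      add_mem' := by
        rintro x y ⟨r, hr, hr'⟩ ⟨s, hs, hs'⟩
        exact ⟨r + s, by rw [TrivSqZeroExt.fst_add, hr, hs]; rfl,
          by rw [TrivSqZeroExt.snd_add, hr', hs', map_add, map_add, neg_add]⟩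
      smul_mem' := by
        rintro a x ⟨r, hr, hr'⟩
        refine ⟨(a.fst : R) • r, ?_, ?_⟩
        · rw [smul_eq_mul, TrivSqZeroExt.fst_mul, hr]
          rfl
        · rw [smul_eq_mul, TrivSqZeroExt.snd_mul, op_smul_eq_smul, hr, hr', hsm, hsm,
            show algebraMap R B (r : R) = 0 from r.2, zero_smul, add_zero, map_smul,
            ← algebraMap_smul B (a.fst : R) (Algebra.Extension.Cotangent.mk r), map_smul, smul_neg] }
  let π : T →ₐ[A] B :=
    { toRingHom := (algebraMap R B).comp (TrivSqZeroExt.fstHom R R M).toRingHom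
      commutes' := fun a => (IsScalarTower.algebraMap_apply A R B a).symm }
  have hπ : ∀ x : T, π x = algebraMap R B x.fst := fun _ => rfl
  have hJ : ∀ x ∈ J, π x = 0 := fun x ⟨r, hr, _⟩ => by rw [hπ, hr]; exact r.2
  refine ⟨{ E := T ⧸ J
            proj := Ideal.Quotient.liftₐ J π hJ
            incl := (Ideal.Quotient.mk J).toAddMonoidHom.comp (TrivSqZeroExt.inrHom R M).toAddMonoidHom
            isExtension := ⟨?_, ?_, ?_, ?_⟩ },
    (Ideal.Quotient.mkₐ A J).comp
      { toRingHom := TrivSqZeroExt.inlHom R M, commutes' := fun _ => rfl }, ⟨fun r => rfl, fun r => ?_⟩⟩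
  · intro b
    obtain ⟨r, rfl⟩ := algebraMap_surjective P b
    exact ⟨Ideal.Quotient.mk J (TrivSqZeroExt.inl r), rfl⟩
  · rw [injective_iff_map_eq_zero]
    intro z hz
    obtain ⟨r, hr, hr'⟩ := Ideal.Quotient.eq_zero_iff_mem.1 hz
    have : r = 0 := Subtype.ext hr.symm
    rw [this, map_zero, map_zero, neg_zero] at hr'
    exact hr'
  · intro x
    obtain ⟨t, rfl⟩ := Ideal.Quotient.mk_surjective x
    constructor
    · intro ht
      have ht' : algebraMap R B t.fst = 0 := ht
      refine ⟨t.snd + φ (Algebra.Extension.Cotangent.mk ⟨t.fst, ht'⟩), Ideal.Quotient.eq.2 ?_⟩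
      refine ⟨-⟨t.fst, ht'⟩, ?_, ?_⟩
      · change (0 : R) - t.fst = -t.fst
        exact zero_sub _
      · change (t.snd + φ _) - t.snd = _
        rw [map_neg, map_neg, neg_neg, add_sub_cancel_left]
    · rintro ⟨z, hz⟩
      rw [← hz]
      exact map_zero (algebraMap R B)
  · intro x z
    obtain ⟨t, rfl⟩ := Ideal.Quotient.mk_surjective x
    change Ideal.Quotient.mk J t * Ideal.Quotient.mk J (TrivSqZeroExt.inr z) =
      Ideal.Quotient.mk J (TrivSqZeroExt.inr (algebraMap R B t.fst • z))
    rw [← map_mul]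
    congr 1
    refine TrivSqZeroExt.ext (mul_zero _) ?_
    rw [TrivSqZeroExt.snd_mul]
    simp [hsm]
  · refine Ideal.Quotient.eq.2 ⟨r, ?_, ?_⟩
    · change (r : R) - 0 = (r : R)
      exact sub_zero _
    · change 0 - φ _ = _
      exact zero_sub _

theorem exists_exalcom_equiv :
    ∃ e : Exal.Exalcom A B M ≃ CotT.T1 P M, e 0 = 0 := by
  choose ψ φ h using exists_isLift (M := M) P
  let f : Exal.Exalcom A B M → CotT.T1 P M := Quotient.lift (fun X => homToT1 P M (φ X))
    fun X Y ⟨e⟩ => ((h X).map_equiv P e).homToT1_eq P (h Y)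
  have hf : Function.Bijective f := by
    constructor
    · intro a b
      refine Quotient.inductionOn₂ a b fun X Y hXY => Quotient.sound ?_
      have h1 : φ Y - φ X ∈ LinearMap.ker (homToT1 P M) := by
        rw [LinearMap.mem_ker, map_sub, sub_eq_zero]
        exact hXY.symm
      rw [ker_homToT1] at h1
      obtain ⟨θ, hθ⟩ := h1
      rw [LinearMap.lcomp_apply'] at hθ
      obtain ⟨ψ', h', -⟩ := exists_twist P X (h X) θ
      rw [hθ, add_sub_cancel] at h'
      exact h'.nonempty_equiv P (h Y)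
    · intro x
      obtain ⟨φ₀, rfl⟩ := homToT1_surjective P M x
      obtain ⟨X, ψ₀, h₀⟩ := exists_ext_of_hom P φ₀
      exact ⟨X.cl, (h X).homToT1_eq P h₀⟩
  refine ⟨Equiv.ofBijective f hf, ?_⟩
  change homToT1 P M (φ (Exal.Ext.trivial A B M)) = 0
  let s : B →ₐ[A] (Exal.Ext.trivial A B M).E :=
    { toRingHom := (TrivSqZeroExt.inlHom B M : B →+* Exal.Ext.TrivCarrier A B M)
      commutes' := fun a => rfl }
  rw [(h _).homToT1_eq P (IsLift.of_section P s fun b => rfl), map_zero]

end Exal

end Groth.Agent.CotTLib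

end
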