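import Groth.Prelude.Def_CotT2

/-! Elementary facts about the cotangent complex of a presentation. -/

universe u v w t m m'

set_option linter.unusedSectionVars false

open TensorProduct

noncomputable section

namespace Groth.Agent.CotTLib

open CotT

variable {A : Type u} {B : Type v} {ι : Type w} {σ : Type t}
variable [CommRing A] [CommRing B] [Algebra A B]
variable (P : Algebra.Presentation A B ι σ)

/-- a variable -/
def var (i : ι) : P.toExtension.Ring := (MvPolynomial.X i : MvPolynomial ι A)

theorem algebraMap_var (i : ι) : algebraMap P.toExtension.Ring B (var P i) = P.val i :=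
  (algebraMap_toExtension P (var P i)).trans (MvPolynomial.aeval_X P.val i)

theorem algebraMap_surjective : Function.Surjective (algebraMap P.toExtension.Ring B) :=
  P.toExtension.algebraMap_surjective

/-- `F → L₁` -/
def toL1 : relMod P →ₗ[P.toExtension.Ring] L1 P := TensorProduct.mk _ B (relMod P) 1

theorem toL1_apply (f : relMod P) : toL1 P f = (1 : B) ⊗ₜ f := rfl

theorem toL1_smul (r : P.toExtension.Ring) (f : relMod P) :
    toL1 P (r • f) = algebraMap P.toExtension.Ring B r • toL1 P f := by
  rw [map_smul, algebraMap_smul]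

theorem toL1_surjective : Function.Surjective (toL1 P) := by
  intro x
  induction x using TensorProduct.induction_on with
  | zero => exact ⟨0, map_zero _⟩
  | add x y hx hy =>
    obtain ⟨a, rfl⟩ := hx
    obtain ⟨c, rfl⟩ := hy
    exact ⟨a + c, map_add _ a c⟩
  | tmul b f =>
    obtain ⟨r, rfl⟩ := algebraMap_surjective P b
    refine ⟨r • f, ?_⟩
    rw [toL1_smul, toL1_apply, TensorProduct.smul_tmul', smul_eq_mul, mul_one]

theorem toL1_eq_zero_of_mem_ker_smul {f : relMod P}
    (hf : f ∈ P.toExtension.ker • (⊤ : Submodule P.toExtension.Ring (relMod P))) : toL1 P f = 0 := by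
  induction hf using Submodule.smul_induction_on' with
  | smul r hr g hg =>
    rw [toL1_smul, show algebraMap P.toExtension.Ring B r = 0 from hr, zero_smul]
  | add x _ y _ hx hy => rw [map_add, hx, hy, add_zero]

/-- `Q → L₂` -/
def cl : relKer P →ₗ[P.toExtension.Ring] L2 P :=
  (Submodule.mkQ _).restrictScalars P.toExtension.Ring ∘ₗ TensorProduct.mk _ B (relKer P) 1

theorem cl_apply (q : relKer P) : cl P q = Submodule.Quotient.mk ((1 : B) ⊗ₜ q) := rfl

theorem cl_smul (r : P.toExtension.Ring) (q : relKer P) :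
    cl P (r • q) = algebraMap P.toExtension.Ring B r • cl P q := by
  rw [map_smul, algebraMap_smul]

theorem cl_surjective : Function.Surjective (cl P) := by
  intro z
  obtain ⟨x, rfl⟩ := Submodule.Quotient.mk_surjective _ z
  induction x using TensorProduct.induction_on with
  | zero => exact ⟨0, map_zero _⟩
  | add x y hx hy =>
    obtain ⟨a, ha⟩ := hx
    obtain ⟨c, hc⟩ := hy
    exact ⟨a + c, by rw [map_add, ha, hc, Submodule.Quotient.mk_add]⟩
  | tmul b q =>
    obtain ⟨r, rfl⟩ := algebraMap_surjective P b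
    refine ⟨r • q, ?_⟩
    rw [cl_smul, cl_apply, ← Submodule.Quotient.mk_smul, TensorProduct.smul_tmul', smul_eq_mul, mul_one]

theorem cl_eq_zero {q : relKer P} (hq : (q : relMod P) ∈ trivRel P) : cl P q = 0 := by
  rw [cl_apply, Submodule.Quotient.mk_eq_zero]
  exact ⟨(1 : B) ⊗ₜ ⟨q, hq⟩, rfl⟩

theorem cl_eq_cl {q q' : relKer P} (h : (q : relMod P) - q' ∈ trivRel P) : cl P q = cl P q' :=
  sub_eq_zero.1 <| (map_sub (cl P) q q').symm.trans <| cl_eq_zero P h

theorem d2_cl (q : relKer P) : d2 P (cl P q) = toL1 P (q : relMod P) := by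
  rw [cl_apply, d2_mk_tmul, toL1_apply]

theorem L1basis_eq (s : σ) : L1basis P s = toL1 P (Finsupp.single s 1) := L1basis_apply P s

theorem toL1_single (s : σ) (r : P.toExtension.Ring) :
    toL1 P (Finsupp.single s r) = algebraMap P.toExtension.Ring B r • L1basis P s := by
  rw [L1basis_eq, ← toL1_smul, Finsupp.smul_single, smul_eq_mul, mul_one]

/-- `1 ⊗ d` -/
def oneD : P.toExtension.Ring →ₗ[A] L0 P :=
  ((TensorProduct.mk P.toExtension.Ring B (Ω[P.toExtension.Ring⁄A]) 1).restrictScalars A) ∘ₗ
    (KaehlerDifferential.D A P.toExtension.Ring).toLinearMap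

theorem oneD_apply (r : P.toExtension.Ring) :
    oneD P r = (1 : B) ⊗ₜ KaehlerDifferential.D A P.toExtension.Ring r := rfl

theorem oneD_mul (r s : P.toExtension.Ring) :
    oneD P (r * s) = algebraMap P.toExtension.Ring B r • oneD P s +
      algebraMap P.toExtension.Ring B s • oneD P r := by
  simp only [oneD_apply, Derivation.leibniz, TensorProduct.tmul_add, TensorProduct.tmul_smul]
  rw [algebraMap_smul, algebraMap_smul]

theorem d1_toL1 (f : relMod P) : d1 P (toL1 P f) = oneD P (jmap P f) := by
  rw [toL1_apply, d1_tmul, one_smul, oneD_apply]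

theorem exists_jmap_eq {r : P.toExtension.Ring} (h : algebraMap P.toExtension.Ring B r = 0) :
    ∃ f, jmap P f = r := by
  have : r ∈ LinearMap.range (jmap P) := by rw [range_jmap]; exact h
  exact this

theorem toCot_surjective : Function.Surjective (toCot P) := by
  intro x
  obtain ⟨⟨r, hr⟩, rfl⟩ := Algebra.Extension.Cotangent.mk_surjective x
  obtain ⟨f, hf⟩ := exists_jmap_eq P hr
  refine ⟨(1 : B) ⊗ₜ f, ?_⟩
  rw [toCot_tmul, one_smul]
  exact congrArg _ (Subtype.ext hf)

theorem ker_toCot : LinearMap.ker (toCot P) = LinearMap.range (d2 P) := by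
  refine le_antisymm (fun x hx => ?_) (LinearMap.range_le_ker_iff.2 (toCot_comp_d2 P))
  obtain ⟨f, rfl⟩ := toL1_surjective P x
  rw [LinearMap.mem_ker, toL1_apply, toCot_tmul, one_smul,
    Algebra.Extension.Cotangent.mk_eq_zero_iff] at hx
  have hmap : Submodule.map (jmap P) (P.toExtension.ker • ⊤) = P.toExtension.ker ^ 2 := by
    rw [Submodule.map_smul'', Submodule.map_top, range_jmap, pow_two, smul_eq_mul]
  have hx' : jmap P f ∈ P.toExtension.ker ^ 2 := hx
  rw [← hmap] at hx'
  obtain ⟨g, hg, hgf⟩ := hx'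
  refine ⟨cl P ⟨f - g, by rw [relKer, LinearMap.mem_ker, map_sub, hgf, sub_self]⟩, ?_⟩
  rw [d2_cl]
  change toL1 P (f - g) = _
  rw [map_sub, toL1_eq_zero_of_mem_ker_smul P hg, sub_zero]

variable (M : Type m) [AddCommGroup M] [Module B M]

theorem ker_d1Star :
    LinearMap.ker (d1Star P M) = LinearMap.ker (LinearMap.lcomp B M P.toExtension.cotangentComplex) := by
  ext φ
  simp only [LinearMap.mem_ker, d1Star_apply, LinearMap.lcomp_apply', d1, ← LinearMap.comp_assoc]
  exact ⟨fun h => (LinearMap.cancel_right (toCot_surjective P)).1 (h.trans (LinearMap.zero_comp _).symm),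
    fun h => by rw [h, LinearMap.zero_comp]⟩

theorem homToT1_surjective : Function.Surjective (homToT1 P M) := by
  intro x
  obtain ⟨⟨c, hc⟩, rfl⟩ := Submodule.Quotient.mk_surjective _ x
  have hle : LinearMap.ker (toCot P) ≤ LinearMap.ker c := by
    rw [ker_toCot]
    rw [LinearMap.mem_ker, d2Star_apply] at hc
    exact LinearMap.range_le_ker_iff.2 hc
  let e := LinearMap.quotKerEquivOfSurjective (toCot P) (toCot_surjective P)
  refine ⟨Submodule.liftQ _ c hle ∘ₗ e.symm.toLinearMap, ?_⟩
  refine congrArg Submodule.Quotient.mk (Subtype.ext (LinearMap.ext fun y => ?_))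
  change Submodule.liftQ _ c hle (e.symm (toCot P y)) = c y
  rw [show e.symm (toCot P y) = Submodule.Quotient.mk y from
    LinearMap.quotKerEquivOfSurjective_symm_apply _ (toCot_surjective P) y, Submodule.liftQ_apply]

theorem ker_homToT1 :
    LinearMap.ker (homToT1 P M) = LinearMap.range (LinearMap.lcomp B M P.toExtension.cotangentComplex) := by
  ext φ
  rw [LinearMap.mem_ker, homToT1, LinearMap.comp_apply, Submodule.mkQ_apply, Submodule.Quotient.mk_eq_zero]
  constructor
  · rintro ⟨ψ, hψ⟩
    refine ⟨ψ, (LinearMap.cancel_right (toCot_surjective P)).1 ?_⟩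
    rw [LinearMap.lcomp_apply', LinearMap.comp_assoc]
    exact hψ
  · rintro ⟨ψ, rfl⟩
    exact ⟨ψ, (LinearMap.comp_assoc _ _ _).symm⟩

theorem derToT0_bijective [Module A M] [IsScalarTower A B M] : Function.Bijective (derToT0 P M) := by
  refine ⟨fun D D' h => Derivation.ext fun b => ?_, fun ψ => ?_⟩
  · obtain ⟨r, rfl⟩ := algebraMap_surjective P b
    have h1 := LinearMap.congr_fun (congrArg Subtype.val h) (oneD P r)
    simpa [oneD_apply] using h1
  · have hψ : ∀ r, algebraMap P.toExtension.Ring B r = 0 → ψ.1 (oneD P r) = 0 := fun r hr => by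
      obtain ⟨f, rfl⟩ := exists_jmap_eq P hr
      rw [← d1_toL1]
      exact LinearMap.congr_fun ψ.2 (toL1 P f)
    have hwd : ∀ r r', algebraMap P.toExtension.Ring B r = algebraMap P.toExtension.Ring B r' →
        ψ.1 (oneD P r) = ψ.1 (oneD P r') := fun r r' h => by
      rw [← sub_eq_zero, ← map_sub, ← map_sub]
      exact hψ _ (by rw [map_sub, h, sub_self])
    choose sec hsec using algebraMap_surjective P
    have hval : ∀ r, ψ.1 (oneD P (sec (algebraMap P.toExtension.Ring B r))) = ψ.1 (oneD P r) := fun r =>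
      hwd _ _ (hsec _)
    let L : B →ₗ[A] M :=
      { toFun := fun b => ψ.1 (oneD P (sec b))
        map_add' := fun x y => by
          rw [← map_add, ← map_add]
          exact hwd _ _ (by rw [map_add, hsec, hsec, hsec])
        map_smul' := fun a x => by
          rw [RingHom.id_apply, ← LinearMap.map_smul_of_tower ψ.1, ← map_smul]
          exact hwd _ _ (by rw [Algebra.smul_def a (sec x), map_mul, hsec, hsec,
            ← IsScalarTower.algebraMap_apply, ← Algebra.smul_def]) }
    let D : Derivation A B M := Derivation.mk' L fun x y => by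
      change ψ.1 (oneD P (sec (x * y))) = x • ψ.1 (oneD P (sec y)) + y • ψ.1 (oneD P (sec x))
      rw [hwd _ (sec x * sec y) (by rw [map_mul, hsec, hsec, hsec]), oneD_mul, map_add, map_smul, map_smul,
        hsec, hsec]
    refine ⟨D, Subtype.ext ((P.cotangentSpaceBasis).ext fun i => ?_)⟩
    rw [derToT0_apply, derLift_basis, Algebra.Generators.cotangentSpaceBasis_apply]
    change ψ.1 (oneD P (sec (P.val i))) = ψ.1 (oneD P (var P i))
    exact hwd _ _ (by rw [hsec, algebraMap_var])

end Groth.Agent.CotTLib

end
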