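import Groth.Agent.CotTLib.Compare
import Mathlib.RingTheory.Smooth.Locus
import Mathlib.Algebra.Module.LocalizedModule.Exact

/-! Smoothness away from `t` and uniform annihilation of `T¹`. -/

universe u v w u'

set_option linter.unusedSectionVars false

noncomputable section

namespace Groth.Agent.CotTLib

open CotT

theorem projective_localized {B : Type u} [CommRing B] (t : B) {X : Type v} [AddCommGroup X] [Module B X]
    {F : Type v} [AddCommGroup F] [Module B F] [Module.Free B F] (π : F →ₗ[B] X) (σ : X →ₗ[B] F) (n : ℕ)
    (h : ∀ x, π (σ x) = t ^ n • x) :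
    Module.Projective (Localization (Submonoid.powers t)) (LocalizedModule (Submonoid.powers t) X) := by
  let S := Submonoid.powers t
  have : Module.Free (Localization S) (LocalizedModule S F) :=
    Module.free_of_isLocalizedModule S (LocalizedModule.mkLinearMap S F)
  have hu : IsUnit (algebraMap B (Localization S) (t ^ n)) :=
    IsLocalization.map_units (Localization S) (⟨t ^ n, n, rfl⟩ : S)
  refine Module.Projective.of_split ((hu.unit⁻¹ : (Localization S)ˣ).1 • LocalizedModule.map S σ)
    (LocalizedModule.map S π) ?_
  refine LinearMap.ext fun z => ?_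
  induction z using LocalizedModule.induction_on with
  | h x s =>
    rw [LinearMap.comp_apply, LinearMap.smul_apply, map_smul, LinearMap.id_apply, LocalizedModule.map_mk,
      LocalizedModule.map_mk, h, ← LocalizedModule.smul'_mk, ← algebraMap_smul (Localization S) (t ^ n)
      (LocalizedModule.mk x s), smul_smul, IsUnit.val_inv_mul, one_smul]

theorem exists_pow_split {B : Type u} [CommRing B] (t : B) {C : Type v} {F : Type v} [AddCommGroup C] [Module B C]
    [AddCommGroup F] [Module B F] {ι : Type w} [Finite ι] (b : Module.Basis ι B F) [Module.Finite B C]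
    (cc : C →ₗ[B] F) {X : Type v} [AddCommGroup X] [Module B X] (π : F →ₗ[B] X) (hπ : Function.Surjective π)
    (hex : Function.Exact cc π) (hker : Subsingleton (LocalizedModule (Submonoid.powers t) (LinearMap.ker cc)))
    (hX : Module.Projective (Localization (Submonoid.powers t)) (LocalizedModule (Submonoid.powers t) X)) :
    ∃ (n : ℕ) (l : F →ₗ[B] C), l ∘ₗ cc = t ^ n • LinearMap.id := by
  classical
  let S := Submonoid.powers t
  let cc' := LocalizedModule.map S cc
  have hinj : Function.Injective cc' := by
    have h1 := LocalizedModule.map_exact S (LinearMap.ker cc).subtype cc (LinearMap.exact_subtype_ker_map cc)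
    refine (injective_iff_map_eq_zero _).2 fun z hz => ?_
    obtain ⟨w, rfl⟩ := (h1 z).1 hz
    rw [Subsingleton.elim w 0, map_zero]
  have hexl : Function.Exact cc' (LocalizedModule.map S π) := LocalizedModule.map_exact S cc π hex
  have hsurj : Function.Surjective (LocalizedModule.map S π) := LocalizedModule.map_surjective S π hπ
  obtain ⟨s, hs⟩ := Module.projective_lifting_property (LocalizedModule.map S π) LinearMap.id hsurj
  have key : (∃ l, LocalizedModule.map S π ∘ₗ l = LinearMap.id) ↔ (∃ l, l ∘ₗ cc' = LinearMap.id) :=
    (hexl.split_tfae hinj hsurj).out 0 1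
  obtain ⟨l, hl⟩ := key.1 ⟨s, hs⟩
  have hval : ∀ i, ∃ (n : ℕ) (c : C), t ^ n • l (LocalizedModule.mkLinearMap S F (b i)) =
      LocalizedModule.mkLinearMap S C c := fun i => by
    obtain ⟨⟨c, ⟨_, n, rfl⟩⟩, hc⟩ := IsLocalizedModule.surj S (LocalizedModule.mkLinearMap S C)
      (l (LocalizedModule.mkLinearMap S F (b i)))
    exact ⟨n, c, hc⟩
  choose n c hc using hval
  have := Fintype.ofFinite ι
  let N := Finset.univ.sup n
  let l₀ : F →ₗ[B] C := b.constr ℕ fun i => t ^ (N - n i) • c i
  have hl₀ : (LocalizedModule.mkLinearMap S C) ∘ₗ l₀ = t ^ N • (l.restrictScalars B ∘ₗ LocalizedModule.mkLinearMap S F) :=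
    b.ext fun i => by
      rw [LinearMap.comp_apply, Module.Basis.constr_basis, map_smul, ← hc, smul_smul, ← pow_add,
        Nat.sub_add_cancel (Finset.le_sup (Finset.mem_univ i))]
      rfl
  have hcx : ∀ x : C, ∃ m : ℕ, t ^ m • (l₀ (cc x) - t ^ N • x) = 0 := fun x => by
    have h1 : LocalizedModule.mkLinearMap S C (l₀ (cc x)) = LocalizedModule.mkLinearMap S C (t ^ N • x) := by
      have h2 := LinearMap.congr_fun hl₀ (cc x)
      rw [LinearMap.comp_apply] at h2
      rw [h2, map_smul, LinearMap.smul_apply]
      refine congrArg (t ^ N • ·) ?_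
      have h3 := LinearMap.congr_fun hl (LocalizedModule.mkLinearMap S C x)
      rw [LinearMap.comp_apply, LinearMap.id_apply] at h3
      refine Eq.trans ?_ h3
      refine congrArg l ?_
      rw [LocalizedModule.mkLinearMap_apply, LocalizedModule.mkLinearMap_apply, LocalizedModule.map_mk]
    obtain ⟨⟨_, m, rfl⟩, hm⟩ := IsLocalizedModule.exists_of_eq (S := S) (f := LocalizedModule.mkLinearMap S C) h1
    exact ⟨m, by rw [smul_sub, sub_eq_zero]; exact hm⟩
  choose m hm using hcx
  obtain ⟨G, hG⟩ := Module.Finite.fg_top (R := B) (M := C)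
  let K := G.sup m
  refine ⟨K + N, t ^ K • l₀, LinearMap.ext_on hG fun x hx => ?_⟩
  have h4 : t ^ K • (l₀ (cc x) - t ^ N • x) = 0 := by
    rw [show K = (K - m x) + m x from (Nat.sub_add_cancel (Finset.le_sup (f := m) hx)).symm, pow_add, mul_smul, hm,
      smul_zero]
  rw [smul_sub, sub_eq_zero] at h4
  rw [LinearMap.comp_apply, LinearMap.smul_apply, h4, smul_smul, ← pow_add]
  rfl

variable {A B : Type u} [CommRing A] [IsNoetherianRing A] [CommRing B] [Algebra A B] [Algebra.FiniteType A B]

theorem smooth_away_iff (t : B) {n : ℕ} {σ : Type u} (P : Algebra.Presentation A B (Fin n) σ) :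
    ((PrimeSpectrum.basicOpen t : Set (PrimeSpectrum B)) ⊆ Algebra.smoothLocus A B) ↔
      ∃ (N : ℕ) (l : P.toExtension.CotangentSpace →ₗ[B] P.toExtension.Cotangent),
        l ∘ₗ P.toExtension.cotangentComplex = t ^ N • LinearMap.id := by
  have : Algebra.FinitePresentation A B := Algebra.FinitePresentation.of_finiteType.1 inferInstance
  have : IsNoetherianRing B := Algebra.FiniteType.isNoetherianRing A B
  have : IsNoetherianRing P.toExtension.Ring := inferInstanceAs (IsNoetherianRing (MvPolynomial (Fin n) A))
  have : Module.Finite B P.toExtension.Cotangent := by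
    have : Module.Finite P.toExtension.Ring P.toExtension.ker := Module.Finite.of_fg (IsNoetherian.noetherian _)
    have : Module.Finite P.toExtension.Ring P.toExtension.Cotangent :=
      .of_surjective _ Algebra.Extension.Cotangent.mk_surjective
    exact Module.Finite.of_restrictScalars_finite P.toExtension.Ring _ _
  have : Module.Free B P.toExtension.CotangentSpace := Module.Free.of_basis P.cotangentSpaceBasis
  let S := Submonoid.powers t
  let eH : P.toExtension.H1Cotangent ≃ₗ[B] Algebra.H1Cotangent A B :=
    P.toGenerators.equivH1Cotangent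
  let eΩ := (IsLocalizedModule.iso S (KaehlerDifferential.map A A B (Localization.Away t))).extendScalarsOfIsLocalization
    S (Localization.Away t)
  rw [Algebra.smoothLocus_eq_compl_support_inter, Set.subset_inter_iff, Set.subset_compl_comm,
    PrimeSpectrum.basicOpen_eq_zeroLocus_compl, compl_compl, ← LocalizedModule.subsingleton_iff_support_subset,
    ← PrimeSpectrum.basicOpen_eq_zeroLocus_compl, Module.basicOpen_subset_freeLocus_iff]
  constructor
  · rintro ⟨hH, hΩ⟩
    refine exists_pow_split t P.cotangentSpaceBasis P.toExtension.cotangentComplex P.toExtension.toKaehler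
      P.toExtension.toKaehler_surjective P.toExtension.exact_cotangentComplex_toKaehler ?_ hΩ
    refine ⟨fun a b => ?_⟩
    have h0 : ∀ z : LocalizedModule S (LinearMap.ker P.toExtension.cotangentComplex), z = 0 := by
      intro z
      induction z using LocalizedModule.induction_on with
      | h x s =>
        have h1 : LocalizedModule.mk (eH x) s = (0 : LocalizedModule S (Algebra.H1Cotangent A B)) :=
          Subsingleton.elim _ _
        rw [← LocalizedModule.zero_mk s, LocalizedModule.mk_eq] at h1
        obtain ⟨v, hv⟩ := h1
        rw [← LocalizedModule.zero_mk s, LocalizedModule.mk_eq]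
        refine ⟨v, eH.injective ?_⟩
        simp only [Submonoid.smul_def, smul_zero] at hv ⊢
        refine Eq.trans ?_ (map_zero eH).symm
        exact ((eH.map_smul _ _).trans (congrArg _ (eH.map_smul _ _))).trans hv
    rw [h0 a, h0 b]
  · rintro ⟨N, l, hl⟩
    refine ⟨⟨fun a b => ?_⟩, ?_⟩
    · have h0 : ∀ z : LocalizedModule S (Algebra.H1Cotangent A B), z = 0 := by
        intro z
        induction z using LocalizedModule.induction_on with
        | h x s =>
          obtain ⟨x, rfl⟩ := eH.surjective x
          rw [← LocalizedModule.zero_mk s, LocalizedModule.mk_eq]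
          refine ⟨⟨t ^ N, N, rfl⟩, ?_⟩
          have h1 := LinearMap.congr_fun hl x.1
          rw [LinearMap.comp_apply, show P.toExtension.cotangentComplex x.1 = 0 from x.2, map_zero] at h1
          have h2 : t ^ N • x = 0 := Subtype.ext h1.symm
          simp only [Submonoid.smul_def, smul_zero]
          rw [smul_comm, ← map_smul eH, h2, map_zero, smul_zero]
      rw [h0 a, h0 b]
    · let d : P.toExtension.CotangentSpace →ₗ[B] P.toExtension.CotangentSpace :=
        t ^ N • LinearMap.id - P.toExtension.cotangentComplex ∘ₗ l
      have hex := P.toExtension.exact_cotangentComplex_toKaehler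
      have hd : LinearMap.ker P.toExtension.toKaehler ≤ LinearMap.ker d := fun z hz => by
        obtain ⟨c, rfl⟩ := (hex z).1 hz
        have h1 := LinearMap.congr_fun hl c
        rw [LinearMap.comp_apply, LinearMap.smul_apply, LinearMap.id_apply] at h1
        rw [LinearMap.mem_ker, LinearMap.sub_apply, LinearMap.smul_apply, LinearMap.id_apply, LinearMap.comp_apply,
          h1, map_smul, sub_self]
      let σ' : Ω[B⁄A] →ₗ[B] P.toExtension.CotangentSpace :=
        Submodule.liftQ _ d hd ∘ₗ
          (LinearMap.quotKerEquivOfSurjective _ P.toExtension.toKaehler_surjective).symm.toLinearMap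
      refine projective_localized t P.toExtension.toKaehler σ' N fun x => ?_
      obtain ⟨z, rfl⟩ := P.toExtension.toKaehler_surjective x
      have h2 : σ' (P.toExtension.toKaehler z) = d z := by
        change Submodule.liftQ _ d hd ((LinearMap.quotKerEquivOfSurjective _ _).symm _) = _
        rw [LinearMap.quotKerEquivOfSurjective_symm_apply]
        exact Submodule.liftQ_apply _ _ _
      rw [h2, LinearMap.sub_apply, map_sub, LinearMap.smul_apply, LinearMap.id_apply, map_smul,
        LinearMap.comp_apply, hex.apply_apply_eq_zero, sub_zero]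

/-- a presentation in finitely many variables -/
theorem exists_fin_presentation (A B : Type u) [CommRing A] [CommRing B] [Algebra A B] [Algebra.FiniteType A B] :
    ∃ (n : ℕ) (σ : Type u), Nonempty (Algebra.Presentation A B (Fin n) σ) := by
  obtain ⟨n, φ, hφ⟩ := Algebra.FiniteType.iff_quotient_mvPolynomial''.1 ‹Algebra.FiniteType A B›
  let val : Fin n → B := fun i => φ (MvPolynomial.X i)
  let G : Algebra.Generators A B (Fin n) :=
    Algebra.Generators.ofSurjective val fun b => by
      obtain ⟨p, rfl⟩ := hφ b
      exact ⟨p, (DFunLike.congr_fun (MvPolynomial.aeval_unique φ) p).symm⟩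
  exact ⟨n, G.ker, ⟨{ toGenerators := G
                      relation := Subtype.val
                      span_range_relation_eq_ker := (congrArg Ideal.span Subtype.range_val).trans (Ideal.span_eq _) }⟩⟩

theorem pow_smul_T1_eq_zero (A B : Type u) [CommRing A] [CommRing B] [Algebra A B] {ι σ : Type u'}
    (P : Algebra.Presentation A B ι σ) (c : B)
    (l : P.toExtension.CotangentSpace →ₗ[B] P.toExtension.Cotangent)
    (hl : l ∘ₗ P.toExtension.cotangentComplex = c • LinearMap.id) (M : Type u) [AddCommGroup M] [Module B M]
    (x : T1 P M) : c • x = 0 := by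
  obtain ⟨φ, rfl⟩ := homToT1_surjective P M x
  rw [← map_smul, ← LinearMap.mem_ker, ker_homToT1]
  refine ⟨φ ∘ₗ l, ?_⟩
  rw [LinearMap.lcomp_apply', LinearMap.comp_assoc, hl, LinearMap.comp_smul, LinearMap.comp_id]

end Groth.Agent.CotTLib

end
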