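import Groth.Agent.CotTLib.Homotopy

/-! Composition of morphisms of presentations; independence of the presentation. -/

universe u v w t u' v' w' t' u'' v'' w'' t'' m

set_option linter.unusedSectionVars false

open TensorProduct

noncomputable section

namespace Groth.Agent.CotTLib

open CotT

variable {A : Type u} {B : Type v} {ι : Type w} {σ : Type t}
variable {A' : Type u'} {B' : Type v'} {ι' : Type w'} {σ' : Type t'}
variable [CommRing A] [CommRing B] [Algebra A B] [CommRing A'] [CommRing B'] [Algebra A' B']
variable [Algebra A A'] [Algebra B B'] [Algebra A B'] [IsScalarTower A A' B'] [IsScalarTower A B B']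
variable {P : Algebra.Presentation A B ι σ} {P' : Algebra.Presentation A' B' ι' σ'}

/-- a morphism of presentations with prescribed images of the variables -/
def presHomOfHom (g : Algebra.Generators.Hom P.toGenerators P'.toGenerators) : PresHom P P' where
  hom := g
  relVal s := (exists_jmap_eq P' (r := g.toExtensionHom.toRingHom (rel P s)) (by
    rw [g.toExtensionHom.algebraMap_toRingHom, algebraMap_rel, map_zero])).choose
  jmap_relVal s := (exists_jmap_eq P' (r := g.toExtensionHom.toRingHom (rel P s)) (by
    rw [g.toExtensionHom.algebraMap_toRingHom, algebraMap_rel, map_zero])).choose_spec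

variable (P P') in
/-- some morphism of presentations -/
def someHom : PresHom P P' := presHomOfHom (Algebra.Generators.defaultHom P.toGenerators P'.toGenerators)

section comp

variable {A'' : Type u''} {B'' : Type v''} {ι'' : Type w''} {σ'' : Type t''}
variable [CommRing A''] [CommRing B''] [Algebra A'' B'']
variable [Algebra A' A''] [Algebra B' B''] [Algebra A' B''] [IsScalarTower A' A'' B''] [IsScalarTower A' B' B'']
variable [Algebra A A''] [Algebra B B''] [Algebra A B''] [IsScalarTower A A'' B''] [IsScalarTower A B B'']
variable [IsScalarTower A A' A''] [IsScalarTower B B' B'']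
variable {P'' : Algebra.Presentation A'' B'' ι'' σ''}
variable (g : PresHom P' P'') (h : PresHom P P')

theorem ringHom_hom_comp (x : P.toExtension.Ring) :
    (g.hom.comp h.hom).toExtensionHom.toRingHom x = g.ringHom (h.ringHom x) :=
  Algebra.Generators.Hom.toAlgHom_comp_apply (f := h.hom) (g := g.hom) (x := x) ..

/-- composition -/
def presComp : PresHom P P'' where
  hom := g.hom.comp h.hom
  relVal s := g.relModMap (h.relVal s)
  jmap_relVal s := by
    rw [g.jmap_relModMap, h.jmap_relVal, ringHom_hom_comp]

theorem presComp_ringHom (x : P.toExtension.Ring) : (presComp g h).ringHom x = g.ringHom (h.ringHom x) :=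
  ringHom_hom_comp g h x

theorem presComp_relModMap (f : relMod P) : (presComp g h).relModMap f = g.relModMap (h.relModMap f) := by
  induction f using Finsupp.induction_linear with
  | zero => simp
  | add x y hx hy => simp only [map_add, hx, hy]
  | single s c =>
    rw [PresHom.relModMap_single, PresHom.relModMap_single, LinearMap.map_smulₛₗ, presComp_ringHom]
    rfl

theorem presComp_relKerMap (q : relKer P) : (presComp g h).relKerMap q = g.relKerMap (h.relKerMap q) :=
  Subtype.ext (presComp_relModMap g h q)

variable {M : Type m} [AddCommGroup M] [Module B'' M] [Module B' M] [Module B M]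
  [IsScalarTower B' B'' M] [IsScalarTower B B'' M] [IsScalarTower B B' M]

theorem pull0_comp (ψ : L0 P'' →ₗ[B''] M) :
    (presComp g h).pull0 M ψ = h.pull0 M (g.pull0 M ψ) := by
  refine P.cotangentSpaceBasis.ext fun i => ?_
  rw [cotangentSpaceBasis_eq]
  refine (congrArg ψ (L0map_oneD (presComp g h) (var P i))).trans ?_
  rw [presComp_ringHom]
  exact ((congrArg (g.pull0 M ψ) (L0map_oneD h (var P i))).trans
    (congrArg ψ (L0map_oneD g (h.ringHom (var P i))))).symm

theorem pull1_comp (ψ : L1 P'' →ₗ[B''] M) :
    (presComp g h).pull1 M ψ = h.pull1 M (g.pull1 M ψ) := by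
  refine LinearMap.ext fun x => ?_
  obtain ⟨f, rfl⟩ := toL1_surjective P x
  refine (congrArg ψ (L1map_toL1 (presComp g h) f)).trans ?_
  rw [presComp_relModMap]
  exact ((congrArg (g.pull1 M ψ) (L1map_toL1 h f)).trans
    (congrArg ψ (L1map_toL1 g (h.relModMap f)))).symm

theorem pull2_comp (χ : L2 P'' →ₗ[B''] M) :
    (presComp g h).pull2 M χ = h.pull2 M (g.pull2 M χ) := by
  refine LinearMap.ext fun z => ?_
  obtain ⟨q, rfl⟩ := cl_surjective P z
  refine (congrArg χ (L2map_cl (presComp g h) q)).trans ?_
  rw [presComp_relKerMap]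
  exact ((congrArg (g.pull2 M χ) (L2map_cl h q)).trans
    (congrArg χ (L2map_cl g (h.relKerMap q)))).symm

theorem T0pull_comp (x : T0 P'' M) :
    (presComp g h).T0pull M x = h.T0pull M (g.T0pull M x) :=
  Subtype.ext (pull0_comp g h x.1)

theorem T1pull_comp (x : T1 P'' M) :
    (presComp g h).T1pull M x = h.T1pull M (g.T1pull M x) := by
  obtain ⟨c, rfl⟩ := Submodule.Quotient.mk_surjective _ x
  rw [T1pull_mk, T1pull_mk, T1pull_mk]
  exact congrArg Submodule.Quotient.mk (Subtype.ext (pull1_comp g h c.1))

theorem T2pull_comp (x : T2 P'' M) :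
    (presComp g h).T2pull M x = h.T2pull M (g.T2pull M x) := by
  obtain ⟨χ, rfl⟩ := Submodule.Quotient.mk_surjective _ x
  exact congrArg Submodule.Quotient.mk (pull2_comp g h χ)

end comp

section id

variable {A : Type u} {B : Type v} {ι : Type w} {σ : Type t} [CommRing A] [CommRing B] [Algebra A B]
variable (P : Algebra.Presentation A B ι σ)

theorem id_ringHom (x : P.toExtension.Ring) : (PresHom.id P).ringHom x = x := by
  change (Algebra.Generators.Hom.id P.toGenerators).toAlgHom x = x
  rw [Algebra.Generators.Hom.toAlgHom_id]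
  rfl

theorem id_relModMap (f : relMod P) : (PresHom.id P).relModMap f = f := by
  induction f using Finsupp.induction_linear with
  | zero => simp
  | add x y hx hy => simp only [map_add, hx, hy]
  | single s c =>
    rw [PresHom.relModMap_single, id_ringHom]
    change c • Finsupp.single s 1 = _
    rw [Finsupp.smul_single, smul_eq_mul, mul_one]

variable {M : Type m} [AddCommGroup M] [Module B M]

theorem pull0_id (ψ : L0 P →ₗ[B] M) : (PresHom.id P).pull0 M ψ = ψ := by
  refine P.cotangentSpaceBasis.ext fun i => ?_
  rw [cotangentSpaceBasis_eq]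
  refine (congrArg ψ (L0map_oneD (PresHom.id P) (var P i))).trans ?_
  rw [id_ringHom]

theorem pull1_id (ψ : L1 P →ₗ[B] M) : (PresHom.id P).pull1 M ψ = ψ := by
  refine LinearMap.ext fun x => ?_
  obtain ⟨f, rfl⟩ := toL1_surjective P x
  refine (congrArg ψ (L1map_toL1 (PresHom.id P) f)).trans ?_
  rw [id_relModMap]

theorem pull2_id (χ : L2 P →ₗ[B] M) : (PresHom.id P).pull2 M χ = χ := by
  refine LinearMap.ext fun z => ?_
  obtain ⟨q, rfl⟩ := cl_surjective P z
  refine (congrArg χ (L2map_cl (PresHom.id P) q)).trans ?_
  exact congrArg χ (congrArg (cl P) (Subtype.ext (id_relModMap P q)))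

theorem T0pull_id (x : T0 P M) : (PresHom.id P).T0pull M x = x := Subtype.ext (pull0_id P x.1)

theorem T1pull_id (x : T1 P M) : (PresHom.id P).T1pull M x = x := by
  obtain ⟨c, rfl⟩ := Submodule.Quotient.mk_surjective _ x
  rw [T1pull_mk]
  exact congrArg Submodule.Quotient.mk (Subtype.ext (pull1_id P c.1))

theorem T2pull_id (x : T2 P M) : (PresHom.id P).T2pull M x = x := by
  obtain ⟨χ, rfl⟩ := Submodule.Quotient.mk_surjective _ x
  exact congrArg Submodule.Quotient.mk (pull2_id P χ)

variable {ι' : Type w'} {σ' : Type t'} (Q : Algebra.Presentation A B ι' σ')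

theorem T0pull_roundtrip (g : PresHom Q P) (h : PresHom P Q) (x : T0 P M) :
    h.T0pull M (g.T0pull M x) = x := by
  rw [← T0pull_comp, T0pull_eq (presComp g h) (PresHom.id P), T0pull_id]

theorem T1pull_roundtrip (g : PresHom Q P) (h : PresHom P Q) (x : T1 P M) :
    h.T1pull M (g.T1pull M x) = x := by
  rw [← T1pull_comp, T1pull_eq (presComp g h) (PresHom.id P), T1pull_id]

theorem T2pull_roundtrip (g : PresHom Q P) (h : PresHom P Q) (x : T2 P M) :
    h.T2pull M (g.T2pull M x) = x := by
  rw [← T2pull_comp, T2pull_eq (presComp g h) (PresHom.id P), T2pull_id]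

/-- `T⁰` does not depend on the presentation -/
def T0equiv (h : PresHom P Q) : T0 Q M ≃ₗ[B] T0 P M :=
  { h.T0pull M with
    invFun := (someHom Q P).T0pull M
    left_inv := T0pull_roundtrip Q P h (someHom Q P)
    right_inv := T0pull_roundtrip P Q (someHom Q P) h }

/-- `T¹` does not depend on the presentation -/
def T1equiv (h : PresHom P Q) : T1 Q M ≃ₗ[B] T1 P M :=
  { h.T1pull M with
    invFun := (someHom Q P).T1pull M
    left_inv := T1pull_roundtrip Q P h (someHom Q P)
    right_inv := T1pull_roundtrip P Q (someHom Q P) h }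

/-- `T²` does not depend on the presentation -/
def T2equiv (h : PresHom P Q) : T2 Q M ≃ₗ[B] T2 P M :=
  { h.T2pull M with
    invFun := (someHom Q P).T2pull M
    left_inv := T2pull_roundtrip Q P h (someHom Q P)
    right_inv := T2pull_roundtrip P Q (someHom Q P) h }

end id

end Groth.Agent.CotTLib

end
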