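import Mathlib.Algebra.Module.Basic
import Mathlib.Tactic.Abel
import Mathlib.Tactic.Module
import Mathlib.Algebra.Algebra.Basic

/-! The ring `{(a, b, u) : a - b = j u}` used to compare two morphisms of presentations. -/

universe u v

set_option linter.unusedSectionVars false

noncomputable section

namespace Groth.Agent.CotTLib

variable {R : Type u} [CommRing R] {F : Type v} [AddCommGroup F] [Module R F]

/-- triples `(a, b, u)` with `a - b = j u` -/
@[ext]
structure Twist (j : F →ₗ[R] R) (hj : ∀ x y, j x • y = j y • x) : Type (max u v) where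
  fst : R
  snd : R
  err : F
  eq : fst - snd = j err

namespace Twist

variable {j : F →ₗ[R] R} {hj : ∀ x y, j x • y = j y • x}

instance : Zero (Twist j hj) := ⟨⟨0, 0, 0, by simp⟩⟩
instance : One (Twist j hj) := ⟨⟨1, 1, 0, by simp⟩⟩
instance : Add (Twist j hj) := ⟨fun x y => ⟨x.fst + y.fst, x.snd + y.snd, x.err + y.err,
  by rw [map_add, ← x.eq, ← y.eq]; abel⟩⟩
instance : Neg (Twist j hj) := ⟨fun x => ⟨-x.fst, -x.snd, -x.err, by rw [map_neg, ← x.eq]; abel⟩⟩
instance : Mul (Twist j hj) := ⟨fun x y => ⟨x.fst * y.fst, x.snd * y.snd, x.fst • y.err + y.snd • x.err, by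
  rw [map_add, map_smul, map_smul, ← x.eq, ← y.eq, smul_eq_mul, smul_eq_mul, mul_sub, mul_sub,
    mul_comm y.snd x.fst, mul_comm y.snd x.snd]
  abel⟩⟩

@[simp] theorem zero_fst : (0 : Twist j hj).fst = 0 := rfl
@[simp] theorem zero_snd : (0 : Twist j hj).snd = 0 := rfl
@[simp] theorem zero_err : (0 : Twist j hj).err = 0 := rfl
@[simp] theorem one_fst : (1 : Twist j hj).fst = 1 := rfl
@[simp] theorem one_snd : (1 : Twist j hj).snd = 1 := rfl
@[simp] theorem one_err : (1 : Twist j hj).err = 0 := rfl
@[simp] theorem add_fst (x y : Twist j hj) : (x + y).fst = x.fst + y.fst := rfl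
@[simp] theorem add_snd (x y : Twist j hj) : (x + y).snd = x.snd + y.snd := rfl
@[simp] theorem add_err (x y : Twist j hj) : (x + y).err = x.err + y.err := rfl
@[simp] theorem neg_fst (x : Twist j hj) : (-x).fst = -x.fst := rfl
@[simp] theorem neg_snd (x : Twist j hj) : (-x).snd = -x.snd := rfl
@[simp] theorem neg_err (x : Twist j hj) : (-x).err = -x.err := rfl
@[simp] theorem mul_fst (x y : Twist j hj) : (x * y).fst = x.fst * y.fst := rfl
@[simp] theorem mul_snd (x y : Twist j hj) : (x * y).snd = x.snd * y.snd := rfl
@[simp] theorem mul_err (x y : Twist j hj) : (x * y).err = x.fst • y.err + y.snd • x.err := rfl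

instance : AddCommGroup (Twist j hj) where
  add_assoc x y z := by ext <;> simp [add_assoc]
  zero_add x := by ext <;> simp
  add_zero x := by ext <;> simp
  add_comm x y := by ext <;> simp [add_comm]
  neg_add_cancel x := by ext <;> simp
  nsmul := nsmulRec
  zsmul := zsmulRec

theorem comm' (x y : Twist j hj) : x * y = y * x := by
  have h := hj x.err y.err
  rw [← x.eq, ← y.eq, sub_smul, sub_smul] at h
  ext
  · simp [mul_comm]
  · simp [mul_comm]
  · simp only [mul_err]
    rw [sub_eq_sub_iff_add_eq_add] at h
    rw [h]

instance : CommRing (Twist j hj) :=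
  { (inferInstance : AddCommGroup (Twist j hj)) with
    mul := (· * ·)
    one := 1
    mul_comm := comm'
    one_mul := fun x => by ext <;> simp
    mul_one := fun x => by ext <;> simp
    zero_mul := fun x => by ext <;> simp
    mul_zero := fun x => by ext <;> simp
    mul_assoc := fun x y z => by ext <;> simp [mul_assoc] <;> module
    left_distrib := fun x y z => by ext <;> simp [mul_add] <;> module
    right_distrib := fun x y z => by ext <;> simp [add_mul] <;> module }

/-- the diagonal -/
def diag : R →+* Twist j hj where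
  toFun a := ⟨a, a, 0, by simp⟩
  map_one' := rfl
  map_zero' := rfl
  map_add' a b := by ext <;> simp
  map_mul' a b := by ext <;> simp

@[simp] theorem diag_fst (a : R) : (diag a : Twist j hj).fst = a := rfl
@[simp] theorem diag_snd (a : R) : (diag a : Twist j hj).snd = a := rfl
@[simp] theorem diag_err (a : R) : (diag a : Twist j hj).err = 0 := rfl

/-- first projection -/
def fstHom : Twist j hj →+* R where
  toFun := fst
  map_one' := rfl
  map_zero' := rfl
  map_add' _ _ := rfl
  map_mul' _ _ := rfl

/-- second projection -/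
def sndHom : Twist j hj →+* R where
  toFun := snd
  map_one' := rfl
  map_zero' := rfl
  map_add' _ _ := rfl
  map_mul' _ _ := rfl

end Twist

end Groth.Agent.CotTLib

end
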