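import Groth.Agent.CotTLib.Basic
import Groth.Agent.CotTLib.TwistRing

/-! Two morphisms of presentations over the same square induce the same maps on `T⁰, T¹, T²`. -/

universe u v w t u' v' w' t' m

set_option linter.unusedSectionVars false

open TensorProduct

noncomputable section

namespace Groth.Agent.CotTLib

open CotT

variable {A : Type u} {B : Type v} {ι : Type w} {σ : Type t}
variable {A' : Type u'} {B' : Type v'} {ι' : Type w'} {σ' : Type t'}
variable [CommRing A] [CommRing B] [Algebra A B] [CommRing A'] [CommRing B'] [Algebra A' B']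
variable [Algebra A A'] [Algebra B B'] [Algebra A B'] [IsScalarTower A A' B'] [IsScalarTower A B B']
variable {P : Algebra.Presentation A B ι σ} {P' : Algebra.Presentation A' B' ι' σ'}
variable (h h' : PresHom P P')

/-- constants -/
def constHom (P : Algebra.Presentation A B ι σ) : A →+* P.toExtension.Ring :=
  (MvPolynomial.C : A →+* MvPolynomial ι A)

theorem ringHom_const (a : A) : h.ringHom (constHom P a) = constHom P' (algebraMap A A' a) :=
  Algebra.Generators.Hom.toAlgHom_C h.hom a

theorem induction_poly (P : Algebra.Presentation A B ι σ) {p : P.toExtension.Ring → Prop}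
    (hC : ∀ a, p (constHom P a)) (hadd : ∀ x y, p x → p y → p (x + y))
    (hX : ∀ x i, p x → p (x * var P i)) (x : P.toExtension.Ring) : p x :=
  MvPolynomial.induction_on (motive := p) x hC hadd hX

theorem poly_hom_ext (P : Algebra.Presentation A B ι σ) {T : Type*} [Semiring T]
    {f g : P.toExtension.Ring →+* T} (hC : ∀ a, f (constHom P a) = g (constHom P a))
    (hX : ∀ i, f (var P i) = g (var P i)) : f = g :=
  MvPolynomial.ringHom_ext hC hX

theorem jmap_smul_sub_mem (x y : relMod P) : jmap P x • y - jmap P y • x ∈ trivRel P :=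
  Submodule.subset_span ⟨x, y, rfl⟩

/-- `F/F₀ → R` -/
def jbar (P : Algebra.Presentation A B ι σ) : (relMod P ⧸ trivRel P) →ₗ[P.toExtension.Ring] P.toExtension.Ring :=
  Submodule.liftQ _ (jmap P) (trivRel_le_relKer P)

theorem jbar_mk (f : relMod P) : jbar P (Submodule.Quotient.mk f) = jmap P f := rfl

theorem jbar_comm (P : Algebra.Presentation A B ι σ) (x y : relMod P ⧸ trivRel P) :
    jbar P x • y = jbar P y • x := by
  obtain ⟨x, rfl⟩ := Submodule.Quotient.mk_surjective _ x
  obtain ⟨y, rfl⟩ := Submodule.Quotient.mk_surjective _ y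
  rw [jbar_mk, jbar_mk, ← Submodule.Quotient.mk_smul, ← Submodule.Quotient.mk_smul, Submodule.Quotient.eq]
  exact jmap_smul_sub_mem x y

theorem exists_err (i : ι) : ∃ f, jmap P' f = h.ringHom (var P i) - h'.ringHom (var P i) :=
  exists_jmap_eq P' <| by
    rw [map_sub, h.algebraMap_ringHom, h'.algebraMap_ringHom, sub_self]

/-- a lift of the difference on variables -/
def err (i : ι) : relMod P' := (exists_err h h' i).choose

theorem jmap_err (i : ι) : jmap P' (err h h' i) = h.ringHom (var P i) - h'.ringHom (var P i) :=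
  (exists_err h h' i).choose_spec

/-- the twisted comparison ring map -/
def twistHom : P.toExtension.Ring →+* Twist (jbar P') (jbar_comm P') :=
  (MvPolynomial.eval₂Hom (Twist.diag.comp ((constHom P').comp (algebraMap A A')))
    (fun i => ⟨h.ringHom (var P i), h'.ringHom (var P i), Submodule.Quotient.mk (err h h' i),
      (jmap_err h h' i).symm⟩) : MvPolynomial ι A →+* Twist (jbar P') (jbar_comm P'))

theorem twistHom_var (i : ι) :
    twistHom h h' (var P i) = ⟨h.ringHom (var P i), h'.ringHom (var P i), Submodule.Quotient.mk (err h h' i),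
      (jmap_err h h' i).symm⟩ :=
  MvPolynomial.eval₂Hom_X' _ _ i

theorem twistHom_const (a : A) :
    twistHom h h' (constHom P a) = Twist.diag (constHom P' (algebraMap A A' a)) :=
  MvPolynomial.eval₂Hom_C _ _ a

theorem fst_twistHom (r : P.toExtension.Ring) : (twistHom h h' r).fst = h.ringHom r :=
  RingHom.congr_fun (poly_hom_ext P (f := Twist.fstHom.comp (twistHom h h')) (g := h.ringHom)
    (fun a => by rw [RingHom.comp_apply, twistHom_const, ringHom_const]; rfl)
    (fun i => by rw [RingHom.comp_apply, twistHom_var]; rfl)) r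

theorem snd_twistHom (r : P.toExtension.Ring) : (twistHom h h' r).snd = h'.ringHom r :=
  RingHom.congr_fun (poly_hom_ext P (f := Twist.sndHom.comp (twistHom h h')) (g := h'.ringHom)
    (fun a => by rw [RingHom.comp_apply, twistHom_const, ringHom_const]; rfl)
    (fun i => by rw [RingHom.comp_apply, twistHom_var]; rfl)) r

/-- the homotopy in degree zero, on the polynomial ring -/
def theta : P.toExtension.Ring →+ relMod P' ⧸ trivRel P' where
  toFun r := (twistHom h h' r).err
  map_zero' := by rw [map_zero]; rfl
  map_add' x y := by rw [map_add]; rfl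

theorem theta_mul (x y : P.toExtension.Ring) :
    theta h h' (x * y) = h.ringHom x • theta h h' y + h'.ringHom y • theta h h' x := by
  change (twistHom h h' (x * y)).err = _
  rw [map_mul, Twist.mul_err, fst_twistHom, snd_twistHom]
  rfl

theorem theta_var (i : ι) : theta h h' (var P i) = Submodule.Quotient.mk (err h h' i) := by
  change (twistHom h h' (var P i)).err = _
  rw [twistHom_var]

theorem theta_const (a : A) : theta h h' (constHom P a) = 0 := by
  change (twistHom h h' (constHom P a)).err = _
  rw [twistHom_const]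
  rfl

theorem jbar_theta (r : P.toExtension.Ring) :
    jbar P' (theta h h' r) = h.ringHom r - h'.ringHom r := by
  rw [← fst_twistHom h h' r, ← snd_twistHom h h' r]
  exact (twistHom h h' r).eq.symm

theorem exists_delta (s : σ) : ∃ q : relKer P',
    Submodule.Quotient.mk (q : relMod P') =
      Submodule.Quotient.mk (h.relVal s - h'.relVal s) - theta h h' (rel P s) := by
  obtain ⟨t, ht⟩ := Submodule.Quotient.mk_surjective (trivRel P') (theta h h' (rel P s))
  refine ⟨⟨h.relVal s - h'.relVal s - t, ?_⟩, ?_⟩
  · rw [relKer, LinearMap.mem_ker, map_sub, map_sub, h.jmap_relVal, h'.jmap_relVal, ← jbar_mk t, ht,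
      jbar_theta, sub_self]
  · refine Eq.trans ?_ (congrArg (fun z => Submodule.Quotient.mk (h.relVal s - h'.relVal s) - z) ht)
    exact Submodule.Quotient.mk_sub _

/-- the homotopy in degree one -/
def delta (s : σ) : relKer P' := (exists_delta h h' s).choose

theorem mk_delta (s : σ) : Submodule.Quotient.mk (delta h h' s : relMod P') =
    Submodule.Quotient.mk (h.relVal s - h'.relVal s) - theta h h' (rel P s) :=
  (exists_delta h h' s).choose_spec

/-- semilinear extension of `delta` -/
def deltaMap : relMod P →+ relKer P' where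
  toFun f := Finsupp.linearCombination P'.toExtension.Ring (delta h h')
    (f.mapRange h.ringHom (map_zero _))
  map_zero' := by simp
  map_add' f g := by rw [Finsupp.mapRange_add (map_add h.ringHom), map_add]

theorem deltaMap_single (s : σ) (c : P.toExtension.Ring) :
    deltaMap h h' (Finsupp.single s c) = h.ringHom c • delta h h' s := by
  simp [deltaMap]

theorem relModMap_sub (f : relMod P) :
    (Submodule.Quotient.mk (h.relModMap f - h'.relModMap f) : relMod P' ⧸ trivRel P') =
      Submodule.Quotient.mk (deltaMap h h' f : relMod P') + theta h h' (jmap P f) := by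
  induction f using Finsupp.induction_linear with
  | zero => simp
  | add f g hf hg =>
    rw [map_add h.relModMap, map_add h'.relModMap, add_sub_add_comm, Submodule.Quotient.mk_add, hf, hg,
      map_add (deltaMap h h'), map_add (jmap P), map_add (theta h h'), Submodule.coe_add,
      Submodule.Quotient.mk_add]
    abel
  | single s c =>
    have key : h'.ringHom (rel P s) • theta h h' c =
        (h.ringHom c - h'.ringHom c) • Submodule.Quotient.mk (h'.relVal s) := by
      rw [← jbar_theta h h', ← h'.jmap_relVal, ← jbar_mk]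
      exact jbar_comm P' _ _
    simp only [PresHom.relModMap_single, deltaMap_single, jmap_single, theta_mul, key, Submodule.coe_smul,
      Submodule.Quotient.mk_smul, mk_delta, Submodule.Quotient.mk_sub, smul_sub, sub_smul]
    abel

theorem cl_relKerMap_sub (q : relKer P) :
    cl P' (h.relKerMap q) - cl P' (h'.relKerMap q) = cl P' (deltaMap h h' q) := by
  rw [← map_sub]
  refine cl_eq_cl P' ?_
  rw [← Submodule.Quotient.eq]
  have hq := relModMap_sub h h' (q : relMod P)
  rw [show jmap P (q : relMod P) = 0 from q.2, map_zero, add_zero] at hq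
  exact hq

/-- `F/F₀ → L₁` -/
def toL1bar (P : Algebra.Presentation A B ι σ) : (relMod P ⧸ trivRel P) →ₗ[P.toExtension.Ring] L1 P :=
  Submodule.liftQ _ (toL1 P) fun y hy => one_tmul_eq_zero_of_mem_trivRel P y hy

theorem toL1bar_mk (f : relMod P) : toL1bar P (Submodule.Quotient.mk f) = toL1 P f := rfl

theorem toL1bar_smul (r : P.toExtension.Ring) (x : relMod P ⧸ trivRel P) :
    toL1bar P (r • x) = algebraMap P.toExtension.Ring B r • toL1bar P x := by
  rw [map_smul, algebraMap_smul]

theorem L1map_toL1 (f : relMod P) : h.L1map (toL1 P f) = toL1 P' (h.relModMap f) := by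
  rw [toL1_apply, PresHom.L1map_tmul, map_one, toL1_apply]

theorem L2map_cl (q : relKer P) : h.L2map (cl P q) = cl P' (h.relKerMap q) := by
  rw [cl_apply, PresHom.L2map_mk_tmul, map_one, cl_apply]

theorem L0map_oneD (r : P.toExtension.Ring) : h.L0map (oneD P r) = oneD P' (h.ringHom r) := by
  rw [oneD_apply, PresHom.L0map_apply, Algebra.Extension.CotangentSpace.map_tmul, map_one]
  rfl

theorem oneD_const (a : A) : oneD P (constHom P a) = 0 := by
  rw [oneD_apply, show constHom P a = algebraMap A P.toExtension.Ring a from rfl, Derivation.map_algebraMap,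
    TensorProduct.tmul_zero]

theorem cotangentSpaceBasis_eq (i : ι) : P.cotangentSpaceBasis i = oneD P (var P i) :=
  Algebra.Generators.cotangentSpaceBasis_apply _ i

section functionals

variable {M : Type m} [AddCommGroup M] [Module B' M] [Module B M] [IsScalarTower B B' M]

theorem ringHom_smul (r : P.toExtension.Ring) (x : M) :
    algebraMap P'.toExtension.Ring B' (h.ringHom r) • x = algebraMap P.toExtension.Ring B r • x := by
  rw [h.algebraMap_ringHom, algebraMap_smul]

/-- degree zero homotopy on functionals -/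
def kappa0 (ψ : L1 P' →ₗ[B'] M) : L0 P →ₗ[B] M :=
  P.cotangentSpaceBasis.constr ℕ fun i => ψ (toL1 P' (err h h' i))

theorem kappa0_oneD (ψ : L1 P' →ₗ[B'] M) (r : P.toExtension.Ring) :
    kappa0 h h' ψ (oneD P r) = ψ (toL1bar P' (theta h h' r)) := by
  induction r using induction_poly P with
  | hC a => rw [oneD_const, theta_const, map_zero, map_zero, map_zero]
  | hadd x y hx hy => simp only [map_add, hx, hy]
  | hX x i hx =>
    have hi : kappa0 h h' ψ (oneD P (var P i)) = ψ (toL1bar P' (theta h h' (var P i))) := by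
      rw [theta_var, toL1bar_mk, kappa0, ← cotangentSpaceBasis_eq, Module.Basis.constr_basis]
    rw [oneD_mul, theta_mul, map_add, map_smul, map_smul, hx, hi, map_add, map_add, toL1bar_smul,
      toL1bar_smul, map_smul, map_smul, ringHom_smul, ringHom_smul]

/-- degree one homotopy on functionals -/
def kappa1 (χ : L2 P' →ₗ[B'] M) : L1 P →ₗ[B] M :=
  (L1basis P).constr ℕ fun s => χ (cl P' (delta h h' s))

theorem kappa1_toL1 (χ : L2 P' →ₗ[B'] M) (f : relMod P) :
    kappa1 h h' χ (toL1 P f) = χ (cl P' (deltaMap h h' f)) := by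
  induction f using Finsupp.induction_linear with
  | zero => simp
  | add f g hf hg => simp only [map_add, hf, hg]
  | single s c =>
    rw [toL1_single, map_smul, kappa1, Module.Basis.constr_basis, deltaMap_single, cl_smul, map_smul,
      ringHom_smul]

theorem pull0_sub (ψ : L0 P' →ₗ[B'] M) :
    h.pull0 M ψ - h'.pull0 M ψ = kappa0 h h' (d1Star P' M ψ) := by
  refine P.cotangentSpaceBasis.ext fun i => ?_
  rw [kappa0, Module.Basis.constr_basis, LinearMap.sub_apply, PresHom.pull0_apply, PresHom.pull0_apply,
    cotangentSpaceBasis_eq, L0map_oneD, L0map_oneD, d1Star_apply, LinearMap.comp_apply, d1_toL1, jmap_err,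
    ← map_sub, ← map_sub]

theorem pull1_sub (ψ : L1 P' →ₗ[B'] M) :
    h.pull1 M ψ - h'.pull1 M ψ = kappa1 h h' (d2Star P' M ψ) + d1Star P M (kappa0 h h' ψ) := by
  refine LinearMap.ext fun x => ?_
  obtain ⟨f, rfl⟩ := toL1_surjective P x
  rw [LinearMap.sub_apply, PresHom.pull1_apply, PresHom.pull1_apply, L1map_toL1, L1map_toL1, LinearMap.add_apply,
    kappa1_toL1, d1Star_apply, LinearMap.comp_apply, d1_toL1, kappa0_oneD, d2Star_apply, LinearMap.comp_apply,
    d2_cl, ← map_sub, ← map_sub, ← toL1bar_mk (P := P'), relModMap_sub, map_add, map_add, toL1bar_mk]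

theorem pull2_sub (χ : L2 P' →ₗ[B'] M) :
    h.pull2 M χ - h'.pull2 M χ = d2Star P M (kappa1 h h' χ) := by
  refine LinearMap.ext fun z => ?_
  obtain ⟨q, rfl⟩ := cl_surjective P z
  have e1 : h.pull2 M χ (cl P q) = χ (cl P' (h.relKerMap q)) := congrArg χ (L2map_cl h q)
  have e2 : h'.pull2 M χ (cl P q) = χ (cl P' (h'.relKerMap q)) := congrArg χ (L2map_cl h' q)
  have e3 : d2Star P M (kappa1 h h' χ) (cl P q) = χ (cl P' (deltaMap h h' q)) :=
    (congrArg (kappa1 h h' χ) (d2_cl P q)).trans (kappa1_toL1 h h' χ q.1)
  exact ((congrArg₂ (fun a b => a - b) e1 e2).trans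
    ((map_sub χ _ _).symm.trans (congrArg χ (cl_relKerMap_sub h h' q)))).trans e3.symm

theorem T0pull_eq : h.T0pull M = h'.T0pull M := by
  refine LinearMap.ext fun ψ => Subtype.ext (sub_eq_zero.1 ?_)
  change h.pull0 M ψ.1 - h'.pull0 M ψ.1 = 0
  rw [pull0_sub, show d1Star P' M ψ.1 = 0 from ψ.2, kappa0]
  refine P.cotangentSpaceBasis.ext fun i => ?_
  rw [Module.Basis.constr_basis, LinearMap.zero_apply, LinearMap.zero_apply]

theorem T1pull_mk (c : cocycles1 P' M) :
    h.T1pull M (Submodule.Quotient.mk c) = Submodule.Quotient.mk (h.cocycles1Pull M c) := rfl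

theorem T2pull_mk (χ : L2 P' →ₗ[B'] M) :
    h.T2pull M (Submodule.Quotient.mk χ) = Submodule.Quotient.mk (h.pull2 M χ) := rfl

theorem T1pull_eq : h.T1pull M = h'.T1pull M := by
  refine LinearMap.ext fun x => ?_
  obtain ⟨c, rfl⟩ := Submodule.Quotient.mk_surjective _ x
  rw [T1pull_mk, T1pull_mk, Submodule.Quotient.eq]
  refine ⟨kappa0 h h' c.1, ?_⟩
  change d1Star P M (kappa0 h h' c.1) = h.pull1 M c.1 - h'.pull1 M c.1
  rw [pull1_sub, show d2Star P' M c.1 = 0 from c.2]
  have h0 : kappa1 h h' (0 : L2 P' →ₗ[B'] M) = 0 := (L1basis P).ext fun s => by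
    rw [kappa1, Module.Basis.constr_basis]; rfl
  rw [h0, zero_add]

theorem T2pull_eq : h.T2pull M = h'.T2pull M := by
  refine LinearMap.ext fun x => ?_
  obtain ⟨χ, rfl⟩ := Submodule.Quotient.mk_surjective _ x
  exact (T2pull_mk h χ).trans (((Submodule.Quotient.eq (LinearMap.range (d2Star P M))).2
    ⟨kappa1 h h' χ, (pull2_sub h h' χ).symm⟩).trans (T2pull_mk h' χ).symm)

end functionals

end Groth.Agent.CotTLib

end
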