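import Groth.Agent.CotTLib.Basic
import Groth.Agent.CotTLib.Snake

/-! Long exact sequence of `Tⁱ` in the module. -/

universe u v w t m m'

set_option linter.unusedSectionVars false

noncomputable section

namespace Groth.Agent.CotTLib

open CotT

variable {B : Type v} [CommRing B]

/-- postcomposition -/
abbrev postc (L : Type*) [AddCommGroup L] [Module B L] {M N : Type*} [AddCommGroup M] [Module B M]
    [AddCommGroup N] [Module B N] (f : M →ₗ[B] N) : (L →ₗ[B] M) →ₗ[B] (L →ₗ[B] N) :=
  LinearMap.compRight B f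

theorem llcomp_exact {L : Type*} [AddCommGroup L] [Module B L] {M' M M'' : Type m}
    [AddCommGroup M'] [Module B M'] [AddCommGroup M] [Module B M] [AddCommGroup M''] [Module B M'']
    {f : M' →ₗ[B] M} {g : M →ₗ[B] M''} (hf : Function.Injective f) (hfg : Function.Exact f g) :
    Function.Injective (postc L f) ∧
      Function.Exact (postc L f) (postc L g) := by
  refine ⟨fun φ φ' h => LinearMap.ext fun x => hf (LinearMap.congr_fun h x), fun φ => ⟨fun h => ?_, ?_⟩⟩
  · have hx : ∀ x, φ x ∈ LinearMap.range f := fun x => (hfg _).1 (LinearMap.congr_fun h x)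
    refine ⟨(LinearEquiv.ofInjective f hf).symm.toLinearMap ∘ₗ φ.codRestrict _ hx, LinearMap.ext fun x => ?_⟩
    change f ((LinearEquiv.ofInjective f hf).symm (φ.codRestrict _ hx x)) = φ x
    exact congrArg Subtype.val ((LinearEquiv.ofInjective f hf).apply_symm_apply (φ.codRestrict _ hx x))
  · rintro ⟨ψ, rfl⟩
    exact LinearMap.ext fun x => (hfg _).2 ⟨ψ x, rfl⟩

theorem llcomp_surjective {L : Type*} [AddCommGroup L] [Module B L] {κ : Type*} (b : Module.Basis κ B L)
    {M M'' : Type m} [AddCommGroup M] [Module B M] [AddCommGroup M''] [Module B M''] {g : M →ₗ[B] M''}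
    (hg : Function.Surjective g) : Function.Surjective (postc L g) := fun φ => by
  choose s hs using fun k => hg (φ (b k))
  refine ⟨b.constr ℕ s, b.ext fun k => ?_⟩
  simp [hs]

variable {A : Type u} {ι : Type w} {σ : Type t} [CommRing A] [Algebra A B]
variable (P : Algebra.Presentation A B ι σ)

theorem les {M' M M'' : Type m}
    [AddCommGroup M'] [Module B M'] [AddCommGroup M] [Module B M] [AddCommGroup M''] [Module B M'']
    (f : M' →ₗ[B] M) (g : M →ₗ[B] M'') (hf : Function.Injective f) (hg : Function.Surjective g)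
    (hfg : Function.Exact f g) :
    Function.Injective (T0map P f) ∧ Function.Exact (T0map P f) (T0map P g) ∧
      Function.Exact (T1map P f) (T1map P g) ∧ Function.Exact (T2map P f) (T2map P g) ∧
      ∃ (δ₀ : T0 P M'' →ₗ[B] T1 P M') (δ₁ : T1 P M'' →ₗ[B] T2 P M'),
        Function.Exact (T0map P g) δ₀ ∧ Function.Exact δ₀ (T1map P f) ∧
        Function.Exact (T1map P g) δ₁ ∧ Function.Exact δ₁ (T2map P f) := by
  have hses : IsSES (d1Star P M') (d2Star P M') (d1Star P M) (d2Star P M) (d1Star P M'') (d2Star P M'')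
      (postc (L0 P) f) (postc (L1 P) f) (postc (L2 P) f)
      (postc (L0 P) g) (postc (L1 P) g) (postc (L2 P) g) :=
    { hb := fun x => LinearMap.congr_fun (d2Star_comp_d1Star P M) x
      ci₀ := fun _ => rfl
      ci₁ := fun _ => rfl
      cp₀ := fun _ => rfl
      cp₁ := fun _ => rfl
      inj₀ := (llcomp_exact hf hfg).1
      inj₁ := (llcomp_exact hf hfg).1
      inj₂ := (llcomp_exact hf hfg).1
      ex₀ := (llcomp_exact hf hfg).2
      ex₁ := (llcomp_exact hf hfg).2
      ex₂ := (llcomp_exact hf hfg).2
      surj₀ := llcomp_surjective P.cotangentSpaceBasis hg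
      surj₁ := llcomp_surjective (L1basis P) hg }
  exact hses.nine_term (coboundaries1 P M').mkQ (coboundaries1 P M).mkQ (coboundaries1 P M'').mkQ
    (LinearMap.range (d2Star P M')).mkQ (LinearMap.range (d2Star P M)).mkQ (LinearMap.range (d2Star P M'')).mkQ
    (Submodule.mkQ_surjective _) (Submodule.mkQ_surjective _) (Submodule.mkQ_surjective _)
    (Submodule.mkQ_surjective _) (Submodule.mkQ_surjective _)
    (fun z => Submodule.Quotient.mk_eq_zero _) (fun z => Submodule.Quotient.mk_eq_zero _)
    (fun z => Submodule.Quotient.mk_eq_zero _) (fun z => Submodule.Quotient.mk_eq_zero _)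
    (fun z => Submodule.Quotient.mk_eq_zero _) (fun z => Submodule.Quotient.mk_eq_zero _)
    (T0map P f) (T0map P g) (T1map P f) (T1map P g) (T2map P f) (T2map P g)
    (fun _ => rfl) (fun _ => rfl)
    (fun _ _ h => congrArg Submodule.Quotient.mk (Subtype.ext h.symm))
    (fun _ _ h => congrArg Submodule.Quotient.mk (Subtype.ext h.symm))
    (fun _ => rfl) (fun _ => rfl)

end Groth.Agent.CotTLib

end
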