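import Groth.Agent.CotTLib.Special
import Groth.Agent.RegLoc6.Basic
import Mathlib.RingTheory.KrullDimension.NonZeroDivisors

/-! Surjections of regular local rings; relations among generators of their kernels. -/

universe u v

set_option linter.unusedSectionVars false

noncomputable section

namespace Groth.Agent.CotTLib

open IsLocalRing

theorem regSurj_eq_bot {R : Type u} {S : Type u} [CommRing R] [CommRing S] [IsRegularLocalRing R]
    [IsRegularLocalRing S] (π : R →+* S) (hπ : Function.Surjective π)
    (hle : RingHom.ker π ≤ maximalIdeal R ^ 2) : RingHom.ker π = ⊥ := by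
  have := RegLoc6.isDomain_of_isRegularLocalRing R
  by_contra hne
  obtain ⟨x, hx, hx0⟩ := Submodule.exists_mem_ne_zero_of_ne_bot hne
  have : IsLocalHom π := hπ.isLocalHom
  have h1 : ringKrullDim S + 1 ≤ ringKrullDim R := by
    refine le_trans (add_le_add_left ?_ 1) (ringKrullDim_quotient_succ_le_of_nonZeroDivisor
      (mem_nonZeroDivisors_of_ne_zero hx0))
    exact ringKrullDim_le_of_surjective (Ideal.Quotient.lift (Ideal.span {x}) π fun a ha => by
        obtain ⟨b, rfl⟩ := Ideal.mem_span_singleton.1 ha
        rw [map_mul, show π x = 0 from hx, zero_mul])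
      (Ideal.Quotient.lift_surjective_of_surjective _ _ hπ)
  have hR := (isRegularLocalRing_iff R).1 ‹_›
  have hS := (isRegularLocalRing_iff S).1 ‹_›
  have hmax : (maximalIdeal R).map π = maximalIdeal S := IsLocalRing.map_maximalIdeal_of_surjective π hπ
  have hfg := (maximalIdeal S).fg_of_isNoetherianRing
  have hfin := Submodule.FG.finite_generators hfg
  have hlift : ∀ y ∈ (maximalIdeal S).generators, ∃ z ∈ maximalIdeal R, π z = y := fun y hy => by
    have : y ∈ (maximalIdeal R).map π := by
      rw [hmax, ← (maximalIdeal S).span_generators]; exact Submodule.subset_span hy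
    exact (Ideal.mem_map_iff_of_surjective π hπ).1 this
  choose z hz hzy using hlift
  let G : Set R := Set.range fun y : (maximalIdeal S).generators => z y.1 y.2
  have hGfin : G.Finite := by
    have := hfin.to_subtype
    exact Set.finite_range _
  have hGle : Ideal.span G ≤ maximalIdeal R := Ideal.span_le.2 (by rintro _ ⟨y, rfl⟩; exact hz y.1 y.2)
  have hsup : maximalIdeal R ≤ Ideal.span G ⊔ maximalIdeal R • maximalIdeal R := fun a ha => by
    have h2 : π a ∈ (Ideal.span G).map π := by
      rw [Ideal.map_span]
      have h3 : π a ∈ Ideal.span (maximalIdeal S).generators := by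
        rw [Ideal.span, (maximalIdeal S).span_generators, ← hmax]
        exact Ideal.mem_map_of_mem π ha
      refine Ideal.span_mono (fun y hy => ?_) h3
      exact ⟨_, ⟨⟨y, hy⟩, rfl⟩, hzy y hy⟩
    obtain ⟨b, hb, hab⟩ := (Ideal.mem_map_iff_of_surjective π hπ).1 h2
    rw [← add_sub_cancel b a, smul_eq_mul, ← pow_two]
    exact Submodule.add_mem_sup hb (hle (by rw [RingHom.mem_ker, map_sub, hab, sub_self]))
  have hGeq : Ideal.span G = maximalIdeal R :=
    le_antisymm hGle (Submodule.le_of_le_smul_of_le_jacobson_bot (maximalIdeal R).fg_of_isNoetherianRing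
      (IsLocalRing.maximalIdeal_le_jacobson _) hsup)
  have hrank : (maximalIdeal R).spanFinrank ≤ (maximalIdeal S).spanFinrank := by
    calc (maximalIdeal R).spanFinrank = (Submodule.span R G).spanFinrank := by rw [← hGeq]
      _ ≤ G.ncard := Submodule.spanFinrank_span_le_ncard_of_finite hGfin
      _ = Nat.card G := (Nat.card_coe_set_eq G).symm
      _ ≤ Nat.card (maximalIdeal S).generators := by
        have := hfin.to_subtype
        exact Finite.card_range_le _
      _ = (maximalIdeal S).spanFinrank := by rw [Nat.card_coe_set_eq, Submodule.FG.generators_ncard hfg]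
  rw [← hR, ← hS] at h1
  have h2 : (maximalIdeal S).spanFinrank + 1 ≤ (maximalIdeal R).spanFinrank := by exact_mod_cast h1
  omega

/-- elements of the kernel lying in `𝔪²` lie in `𝔪 · ker`, and the kernel is generated by a regular sequence -/
theorem regSurj : ∀ (n : ℕ) (R S : Type u) [CommRing R] [CommRing S] [IsRegularLocalRing R]
    [IsRegularLocalRing S] (π : R →+* S), Function.Surjective π → (maximalIdeal R).spanFinrank ≤ n →
    (RingHom.ker π ⊓ maximalIdeal R ^ 2 ≤ maximalIdeal R * RingHom.ker π) ∧
    ∃ rs : List R, Ideal.ofList rs = RingHom.ker π ∧ RingTheory.Sequence.IsWeaklyRegular R rs := by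
  intro n
  induction n with
  | zero =>
    intro R S _ _ _ _ π hπ hn
    have h0 : RingHom.ker π = ⊥ := by
      refine regSurj_eq_bot π hπ ?_
      have hf := RegLoc6.isField_of_spanFinrank_eq_zero (R := R) (Nat.le_zero.1 hn)
      intro x hx
      by_cases h : x = 0
      · simp [h]
      · obtain ⟨y, hy⟩ := hf.mul_inv_cancel h
        have h1 := congrArg π hy
        rw [map_mul, show π x = 0 from hx, zero_mul, map_one] at h1
        exact absurd h1 zero_ne_one
    exact ⟨by rw [h0]; simp, [], by simp [h0], RingTheory.Sequence.IsWeaklyRegular.nil R R⟩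
  | succ n ih =>
    intro R S _ _ _ _ π hπ hn
    by_cases hle : RingHom.ker π ≤ maximalIdeal R ^ 2
    · have h0 := regSurj_eq_bot π hπ hle
      exact ⟨by rw [h0]; simp, [], by simp [h0], RingTheory.Sequence.IsWeaklyRegular.nil R R⟩
    obtain ⟨x, hxker, hx2⟩ := SetLike.not_le_iff_exists.1 hle
    have hxm : x ∈ maximalIdeal R := IsLocalRing.le_maximalIdeal (RingHom.ker_ne_top π) hxker
    have := RegLoc6.isLocalRing_quot hxm
    have := (RegLoc6.isRegularLocalRing_quot_and hxm hx2).1
    let π' : R ⧸ Ideal.span {x} →+* S := Ideal.Quotient.lift _ π fun a ha => by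
      obtain ⟨b, rfl⟩ := Ideal.mem_span_singleton.1 ha
      rw [map_mul, show π x = 0 from hxker, zero_mul]
    have hπ' : Function.Surjective π' := Ideal.Quotient.lift_surjective_of_surjective _ _ hπ
    have hn' : (maximalIdeal (R ⧸ Ideal.span {x})).spanFinrank ≤ n := by
      have := RegLoc6.spanFinrank_quot_le hxm hx2
      omega
    obtain ⟨h1, rs, hrs, hreg⟩ := ih (R ⧸ Ideal.span {x}) S π' hπ' hn'
    let q : R →+* R ⧸ Ideal.span {x} := Ideal.Quotient.mk _
    have hq : Function.Surjective q := Ideal.Quotient.mk_surjective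
    have hmq : (maximalIdeal R).map q = maximalIdeal (R ⧸ Ideal.span {x}) :=
      RegLoc6.map_maximalIdeal_quot _
    have hkq : (RingHom.ker π).map q = RingHom.ker π' := by
      refine le_antisymm (Ideal.map_le_iff_le_comap.2 fun a ha => ha) fun a ha => ?_
      obtain ⟨a, rfl⟩ := hq a
      exact Ideal.mem_map_of_mem q (show a ∈ RingHom.ker π from ha)
    refine ⟨fun f ⟨hf, hf2⟩ => ?_, ?_⟩
    · have h2 : q f ∈ (maximalIdeal R * RingHom.ker π).map q := by
        rw [Ideal.map_mul, hmq, hkq]
        refine h1 ⟨hf, ?_⟩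
        rw [← hmq, ← Ideal.map_pow]
        exact Ideal.mem_map_of_mem q hf2
      obtain ⟨g, hg, hfg⟩ := (Ideal.mem_map_iff_of_surjective q hq).1 h2
      have h3 : f - g ∈ Ideal.span {x} := Ideal.Quotient.eq.1 hfg.symm
      obtain ⟨a, ha⟩ := Ideal.mem_span_singleton.1 h3
      have hg2 : g ∈ maximalIdeal R ^ 2 := by
        rw [pow_two]
        exact Ideal.mul_mono le_rfl (IsLocalRing.le_maximalIdeal (RingHom.ker_ne_top π)) hg
      have ham : a ∈ maximalIdeal R := by
        by_contra hna
        obtain ⟨u, rfl⟩ : IsUnit a := not_not.1 hna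
        have h4 : x * u ∈ maximalIdeal R ^ 2 := ha ▸ sub_mem hf2 hg2
        exact hx2 ((Ideal.mul_unit_mem_iff_mem _ u.isUnit).1 h4)
      rw [← sub_add_cancel f g, ha, mul_comm x a]
      exact add_mem (Ideal.mul_mem_mul ham hxker) hg
    · choose lift hlift using hq
      refine ⟨x :: rs.map lift, ?_, ?_⟩
      · rw [Ideal.ofList_cons]
        refine le_antisymm (sup_le ((Ideal.span_singleton_le_iff_mem _).2 hxker) (Ideal.span_le.2 ?_)) fun a ha => ?_
        · intro y hy
          obtain ⟨y, hy', rfl⟩ := List.mem_map.1 hy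
          have h5 : y ∈ RingHom.ker π' := by rw [← hrs]; exact Ideal.subset_span hy'
          rw [← hlift y] at h5
          exact h5
        · have h6 : q a ∈ RingHom.ker π' := ha
          rw [← hrs, show rs = (rs.map lift).map q by
              rw [List.map_map]; exact (List.map_id'' hlift rs).symm, ← Ideal.map_ofList] at h6
          obtain ⟨b, hb, hab⟩ := (Ideal.mem_map_iff_of_surjective q Ideal.Quotient.mk_surjective).1 h6
          rw [← sub_add_cancel a b]
          exact add_mem (Submodule.mem_sup_left (Ideal.Quotient.eq.1 hab.symm)) (Submodule.mem_sup_right hb)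
      · refine RingTheory.Sequence.IsWeaklyRegular.cons (RegLoc6.isSMulRegular_of_notMem_sq hx2) ?_
        exact ((QuotSMulTop.equivQuotTensor x R).trans (TensorProduct.rid R _)).isWeaklyRegular_congr _ |>.2
          ((RingTheory.Sequence.isWeaklyRegular_map_algebraMap_iff _ _ _).1 (by
            rw [show rs = (rs.map lift).map (algebraMap R (R ⧸ Ideal.span {x})) by
              rw [List.map_map]; exact (List.map_id'' hlift rs).symm] at hreg
            exact hreg))

/-- trivial relations -/
def triv {R : Type u} [CommRing R] {σ : Type v} (f : σ → R) : Submodule R (σ →₀ R) :=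
  Submodule.span R {y | ∃ c d : σ →₀ R,
    y = Finsupp.linearCombination R f c • d - Finsupp.linearCombination R f d • c}

theorem smul_mem_triv {R : Type u} [CommRing R] {σ : Type v} (f : σ → R) {r : R}
    (hr : r ∈ Ideal.span (Set.range f)) {q : σ →₀ R} (hq : Finsupp.linearCombination R f q = 0) :
    r • q ∈ triv f := by
  rw [Ideal.span, Finsupp.mem_span_range_iff_exists_finsupp] at hr
  obtain ⟨c, rfl⟩ := hr
  refine Submodule.subset_span ⟨c, q, ?_⟩
  rw [hq, zero_smul, sub_zero]
  rfl

/-- relations with coefficients in the ideal are trivial, if the ideal is generated by a regular sequence -/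
theorem mem_triv_of_regular {R : Type u} [CommRing R] {σ : Type v} (f : σ → R) {r : ℕ} (x : Fin r → R)
    (hx : ∀ k : Fin r, ∀ y : R, y * x k ∈ Ideal.span (x '' {j | j < k}) → y ∈ Ideal.span (x '' {j | j < k}))
    (hspan : Ideal.span (Set.range f) = Ideal.span (Set.range x)) (q : σ →₀ R)
    (hq : Finsupp.linearCombination R f q = 0) (hqI : ∀ s, q s ∈ Ideal.span (Set.range f)) : q ∈ triv f := by
  have ha : ∀ s, ∃ c : Fin r →₀ R, Finsupp.linearCombination R x c = f s := fun s => by
    have h : f s ∈ Submodule.span R (Set.range x) := hspan.le (Ideal.subset_span ⟨s, rfl⟩)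
    exact (Finsupp.mem_span_range_iff_exists_finsupp.1 h).imp fun c hc => hc
  have hb : ∀ j, ∃ c : σ →₀ R, Finsupp.linearCombination R f c = x j := fun j => by
    have h : x j ∈ Submodule.span R (Set.range f) := hspan.ge (Ideal.subset_span ⟨j, rfl⟩)
    exact (Finsupp.mem_span_range_iff_exists_finsupp.1 h).imp fun c hc => hc
  choose a ha using ha
  choose b hb using hb
  let α := Finsupp.linearCombination R a
  let β := Finsupp.linearCombination R b
  have hα : ∀ v, Finsupp.linearCombination R x (α v) = Finsupp.linearCombination R f v := by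
    intro v
    induction v using Finsupp.induction_linear with
    | zero => simp
    | add v w hv hw => simp [hv, hw]
    | single s c => simp [α, ha]
  have hβ : ∀ v, Finsupp.linearCombination R f (β v) = Finsupp.linearCombination R x v := by
    intro v
    induction v using Finsupp.induction_linear with
    | zero => simp
    | add v w hv hw => simp [hv, hw]
    | single s c => simp [β, hb]
  have h1 : α q ∈ koszul x := mem_koszul_of_regular x hx _ ((hα q).trans hq)
  have h2 : β (α q) ∈ triv f := by
    have hle : (koszul x).map β ≤ triv f := by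
      rw [koszul, Submodule.map_span_le]
      rintro _ ⟨c, d, rfl⟩
      refine Submodule.subset_span ⟨β c, β d, ?_⟩
      rw [map_sub, map_smul, map_smul, hβ, hβ]
    exact hle (Submodule.mem_map_of_mem h1)
  have h3 : q - β (α q) ∈ triv f := by
    rw [show q - β (α q) = q.sum fun s c => Finsupp.single s c - β (α (Finsupp.single s c)) by
      rw [Finsupp.sum_sub, Finsupp.sum_single, ← map_finsuppSum, ← map_finsuppSum, Finsupp.sum_single]]
    refine Submodule.sum_mem _ fun s _ => ?_
    have he : Finsupp.single s (q s) - β (α (Finsupp.single s (q s))) =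
        q s • (Finsupp.single s 1 - β (α (Finsupp.single s 1))) := by
      rw [smul_sub, ← map_smul, ← map_smul, Finsupp.smul_single, smul_eq_mul, mul_one]
    simp only [he]
    refine smul_mem_triv f (hqI s) ?_
    rw [map_sub, hβ, hα, sub_self]
  exact sub_add_cancel q (β (α q)) ▸ add_mem h3 h2

theorem regular_of_isWeaklyRegular {R : Type u} [CommRing R] (rs : List R)
    (h : RingTheory.Sequence.IsWeaklyRegular R rs) (k : Fin rs.length) (y : R)
    (hy : y * rs.get k ∈ Ideal.span (rs.get '' {j | j < k})) : y ∈ Ideal.span (rs.get '' {j | j < k}) := by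
  have hspan : Ideal.span (rs.get '' {j | j < k}) = Ideal.ofList (rs.take k) := by
    refine le_antisymm (Ideal.span_le.2 ?_) (Ideal.span_le.2 ?_)
    · rintro _ ⟨j, hj, rfl⟩
      exact Ideal.subset_span (List.mem_take_iff_getElem.2 ⟨j, lt_min (Fin.lt_def.1 hj) j.2, rfl⟩)
    · intro z hz
      obtain ⟨j, hj, rfl⟩ := List.mem_take_iff_getElem.1 hz
      exact Ideal.subset_span ⟨⟨j, (lt_min_iff.1 hj).2⟩, Fin.lt_def.2 (lt_min_iff.1 hj).1, rfl⟩
  rw [hspan] at hy ⊢
  have h1 := h.regular_mod_prev k k.2
  have h2 : Submodule.Quotient.mk y = (0 : R ⧸ Ideal.ofList (rs.take k) • (⊤ : Submodule R R)) := by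
    refine h1 ?_
    dsimp only
    rw [smul_zero, ← Submodule.Quotient.mk_smul, Submodule.Quotient.mk_eq_zero, smul_eq_mul, smul_eq_mul,
      Ideal.mul_top, mul_comm]
    exact hy
  rwa [Submodule.Quotient.mk_eq_zero, smul_eq_mul, Ideal.mul_top] at h2

theorem mem_triv_of_regSurj {R S : Type u} [CommRing R] [CommRing S] [IsRegularLocalRing R]
    [IsRegularLocalRing S] (π : R →+* S) (hπ : Function.Surjective π) {σ : Type v} (f : σ → R)
    (hf : Ideal.span (Set.range f) = RingHom.ker π) (q : σ →₀ R)
    (hq : Finsupp.linearCombination R f q = 0) (hqI : ∀ s, π (q s) = 0) : q ∈ triv f := by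
  obtain ⟨-, rs, hrs, hreg⟩ := regSurj _ R S π hπ le_rfl
  refine mem_triv_of_regular f rs.get (regular_of_isWeaklyRegular rs hreg) ?_ q hq fun s => hf.symm ▸ hqI s
  rw [hf, ← hrs, Ideal.ofList, Set.range_list_get]

end Groth.Agent.CotTLib

end
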