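import Groth.Agent.CotTLib.SmoothField
import Groth.Agent.CotTLib.Transitivity

/-! Vanishing of `T¹` and `T²` for smooth algebras and for localizations. -/

universe u v w t m

set_option linter.unusedSectionVars false

noncomputable section

open TensorProduct

namespace Groth.Agent.CotTLib

open CotT

section general

variable {A : Type u} {B : Type v} {ι : Type w} {σ : Type t} [CommRing A] [CommRing B] [Algebra A B]
variable (P : Algebra.Presentation A B ι σ)

theorem subsingleton_T1_of_split {M : Type m} [AddCommGroup M] [Module B M]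
    (l : P.toExtension.CotangentSpace →ₗ[B] P.toExtension.Cotangent)
    (hl : l ∘ₗ P.toExtension.cotangentComplex = LinearMap.id) : Subsingleton (T1 P M) := by
  refine subsingleton_of_forall_eq 0 fun x => ?_
  obtain ⟨φ, rfl⟩ := homToT1_surjective P M x
  rw [← LinearMap.mem_ker, ker_homToT1]
  exact ⟨φ ∘ₗ l, by rw [LinearMap.lcomp_apply', LinearMap.comp_assoc, hl, LinearMap.comp_id]⟩

theorem L1basis_repr_toL1 (g : relMod P) (s : σ) :
    (L1basis P).repr (toL1 P g) s = algebraMap P.toExtension.Ring B (g s) := by
  induction g using Finsupp.induction_linear with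
  | zero => simp
  | add a b ha hb => simp [ha, hb]
  | single s' c =>
    rw [toL1_single, map_smul, Module.Basis.repr_self, Finsupp.smul_single, smul_eq_mul, mul_one]
    rcases eq_or_ne s' s with rfl | hne
    · simp
    · simp [Finsupp.single_eq_of_ne hne.symm]

theorem subsingleton_T2_of_split {M : Type m} [AddCommGroup M] [Module B M]
    (l : P.toExtension.CotangentSpace →ₗ[B] P.toExtension.Cotangent)
    (hl : l ∘ₗ P.toExtension.cotangentComplex = LinearMap.id)
    (hq : ∀ q : relKer P, toL1 P (q : relMod P) = 0 → (q : relMod P) ∈ trivRel P) :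
    Subsingleton (T2 P M) := by
  refine subsingleton_of_forall_eq 0 fun x => ?_
  obtain ⟨χ, rfl⟩ := Submodule.Quotient.mk_surjective _ x
  rw [Submodule.Quotient.mk_eq_zero]
  have : Module.Free B P.toExtension.CotangentSpace := Module.Free.of_basis P.cotangentSpaceBasis
  have : Module.Projective B P.toExtension.Cotangent := Module.Projective.of_split _ l hl
  obtain ⟨sct, hsct⟩ := Module.projective_lifting_property (toCot P) LinearMap.id (toCot_surjective P)
  have hinj : Function.Injective (d2 P) := (injective_iff_map_eq_zero _).2 fun z hz => by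
    obtain ⟨q, rfl⟩ := cl_surjective P z
    rw [d2_cl] at hz
    exact cl_eq_zero P (hq q hz)
  let π : L1 P →ₗ[B] LinearMap.range (d2 P) :=
    (LinearMap.id - sct ∘ₗ toCot P).codRestrict _ fun x => by
      rw [← ker_toCot, LinearMap.mem_ker, LinearMap.sub_apply, map_sub, LinearMap.comp_apply]
      exact sub_eq_zero.2 (LinearMap.congr_fun hsct (toCot P x)).symm
  let e := LinearEquiv.ofInjective (d2 P) hinj
  refine ⟨χ ∘ₗ e.symm.toLinearMap ∘ₗ π, LinearMap.ext fun z => ?_⟩
  change χ (e.symm (π (d2 P z))) = χ z
  have h0 : toCot P (d2 P z) = 0 := LinearMap.congr_fun (toCot_comp_d2 P) z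
  have h1 : π (d2 P z) = e z := Subtype.ext (by
    change d2 P z - sct (toCot P (d2 P z)) = d2 P z
    rw [h0, map_zero, sub_zero])
  rw [h1, LinearEquiv.symm_apply_apply]

end general

theorem subsingleton_T1_canon_iff (A B : Type u) [CommRing A] [CommRing B] [Algebra A B] :
    (∀ (M : Type u) [AddCommGroup M] [Module B M], Subsingleton (T1 (canon A B) M)) ↔
      Algebra.FormallySmooth A B := by
  have : Algebra.FormallySmooth A (canon A B).toExtension.Ring :=
    inferInstanceAs (Algebra.FormallySmooth A (MvPolynomial B A))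
  rw [(canon A B).toExtension.formallySmooth_iff_split_injection]
  constructor
  · intro h
    have hid : homToT1 (canon A B) (canon A B).toExtension.Cotangent LinearMap.id = 0 :=
      @Subsingleton.elim _ (h _) _ _
    rw [← LinearMap.mem_ker, ker_homToT1] at hid
    exact hid
  · rintro ⟨l, hl⟩ M _ _
    exact subsingleton_T1_of_split (canon A B) l hl

section localTriv

variable {R : Type u} [CommRing R] {σ : Type v} (f : σ → R)

theorem exists_smul_mem_triv (p : Ideal R) [p.IsPrime] {Rp : Type u} [CommRing Rp] [Algebra R Rp]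
    [IsLocalization.AtPrime Rp p] (q : σ →₀ R)
    (h : q.mapRange (algebraMap R Rp) (map_zero _) ∈ triv (algebraMap R Rp ∘ f)) :
    ∃ s : R, s ∉ p ∧ s • q ∈ triv f := by
  classical
  let μ : (σ →₀ R) → (σ →₀ Rp) := fun z => z.mapRange (algebraMap R Rp) (map_zero _)
  have hμs : ∀ (r : R) z, μ (r • z) = algebraMap R Rp r • μ z := fun r z => by
    ext; simp [μ, Finsupp.mapRange_apply, Algebra.smul_def]
  have hμa : ∀ z z', μ (z + z') = μ z + μ z' := fun z z' => Finsupp.mapRange_add (map_add _) _ _
  have hμsub : ∀ z z', μ (z - z') = μ z - μ z' := fun z z' => Finsupp.mapRange_sub (map_sub _) _ _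
  have hμlc : ∀ z, algebraMap R Rp (Finsupp.linearCombination R f z) =
      Finsupp.linearCombination Rp (algebraMap R Rp ∘ f) (μ z) := fun z => by
    induction z using Finsupp.induction_linear with
    | zero => simp [μ]
    | add a b ha hb => rw [map_add, map_add, ha, hb, hμa, map_add]
    | single i c => simp [μ]
  have clear_denom : ∀ z : σ →₀ Rp, ∃ s ∈ p.primeCompl, ∃ z₀, μ z₀ = algebraMap R Rp s • z := by
    intro z
    induction z using Finsupp.induction_linear with
    | zero => exact ⟨1, one_mem _, 0, by simp [μ]⟩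
    | add a b ha hb =>
      obtain ⟨s, hs, a₀, ha⟩ := ha
      obtain ⟨s', hs', b₀, hb⟩ := hb
      refine ⟨s * s', mul_mem hs hs', s' • a₀ + s • b₀, ?_⟩
      rw [hμa, hμs, hμs, ha, hb, smul_smul, smul_smul, map_mul, smul_add,
        mul_comm (algebraMap R Rp s') (algebraMap R Rp s)]
    | single i c =>
      obtain ⟨a, s, rfl⟩ := IsLocalization.exists_mk'_eq p.primeCompl c
      refine ⟨s, s.2, Finsupp.single i a, ?_⟩
      simp [μ, IsLocalization.mk'_spec']
  have key : ∀ z ∈ triv (algebraMap R Rp ∘ f),
      ∃ s ∈ p.primeCompl, ∃ y ∈ triv f, μ y = algebraMap R Rp s • z := by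
    intro z hz
    induction hz using Submodule.span_induction with
    | mem x hx =>
      obtain ⟨c, d, rfl⟩ := hx
      obtain ⟨s, hs, c₀, hc⟩ := clear_denom c
      obtain ⟨s', hs', d₀, hd⟩ := clear_denom d
      refine ⟨s * s', mul_mem hs hs', _, Submodule.subset_span ⟨c₀, d₀, rfl⟩, ?_⟩
      rw [hμsub, hμs, hμs, hμlc, hμlc, hc, hd, map_smul, map_smul, map_mul, smul_eq_mul, smul_eq_mul]
      simp only [smul_sub, smul_smul]
      congr 2 <;> ring
    | zero => exact ⟨1, one_mem _, 0, zero_mem _, by simp [μ]⟩
    | add a b _ _ ha hb =>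
      obtain ⟨s, hs, y, hy, ha⟩ := ha
      obtain ⟨s', hs', y', hy', hb⟩ := hb
      refine ⟨s * s', mul_mem hs hs', s' • y + s • y',
        add_mem (Submodule.smul_mem _ _ hy) (Submodule.smul_mem _ _ hy'), ?_⟩
      rw [hμa, hμs, hμs, ha, hb, smul_smul, smul_smul, map_mul, smul_add,
        mul_comm (algebraMap R Rp s') (algebraMap R Rp s)]
    | smul c a _ ha =>
      obtain ⟨s, hs, y, hy, ha⟩ := ha
      obtain ⟨b, s', rfl⟩ := IsLocalization.exists_mk'_eq p.primeCompl c
      refine ⟨s' * s, mul_mem s'.2 hs, b • y, Submodule.smul_mem _ _ hy, ?_⟩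
      rw [hμs, ha, smul_smul, smul_smul, map_mul]
      congr 1
      rw [mul_right_comm, IsLocalization.mk'_spec']
  obtain ⟨s, hs, y, hy, hyq⟩ := key _ h
  rw [← hμs] at hyq
  have hzero : ∀ i ∈ (s • q - y).support, ∃ t ∈ p.primeCompl, t * (s • q - y) i = 0 := fun i _ => by
    have h1 : algebraMap R Rp ((s • q - y) i) = 0 := by
      have h2 : algebraMap R Rp (y i) = algebraMap R Rp ((s • q) i) := DFunLike.congr_fun hyq i
      rw [Finsupp.sub_apply, map_sub, h2, sub_self]
    obtain ⟨t, ht⟩ := (IsLocalization.map_eq_zero_iff p.primeCompl Rp _).1 h1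
    exact ⟨t, t.2, ht⟩
  choose t ht htz using hzero
  refine ⟨(∏ i ∈ (s • q - y).support.attach, t i.1 i.2) * s,
    (mul_mem (prod_mem fun i _ => ht i.1 i.2) hs : _ ∈ p.primeCompl), ?_⟩
  have hz : (∏ i ∈ (s • q - y).support.attach, t i.1 i.2) • (s • q - y) = 0 := by
    refine Finsupp.ext fun i => ?_
    rw [Finsupp.smul_apply, Finsupp.zero_apply, smul_eq_mul]
    by_cases hi : i ∈ (s • q - y).support
    · rw [← Finset.mul_prod_erase _ _ (Finset.mem_attach _ ⟨i, hi⟩), mul_right_comm, htz i hi, zero_mul]
    · rw [Finsupp.notMem_support_iff.1 hi, mul_zero]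
  rw [smul_sub, sub_eq_zero] at hz
  rw [mul_smul, hz]
  exact Submodule.smul_mem _ _ hy

end localTriv

theorem mem_triv_of_regularRing {R B : Type u} [CommRing R] [CommRing B] [IsRegularRing R] (π : R →+* B)
    (hπ : Function.Surjective π) {σ : Type v} (f : σ → R) (hf : Ideal.span (Set.range f) = RingHom.ker π)
    (hreg : ∀ (m : Ideal B) [m.IsMaximal], IsRegularLocalRing (Localization.AtPrime m)) (q : σ →₀ R)
    (hq : Finsupp.linearCombination R f q = 0) (hqI : ∀ s, π (q s) = 0) : q ∈ triv f := by
  let J : Ideal R := (triv f).comap (LinearMap.toSpanSingleton R (σ →₀ R) q)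
  suffices h1 : J = ⊤ by
    have : (1 : R) ∈ J := by rw [h1]; trivial
    simpa [J] using this
  by_contra hne
  obtain ⟨p, hp, hJp⟩ := Ideal.exists_le_maximal J hne
  have hker : RingHom.ker π ≤ p := fun r hr => hJp (smul_mem_triv f (hf.ge hr) hq)
  let m : Ideal B := p.map π
  have hmcomap : m.comap π = p := by
    rw [Ideal.comap_map_of_surjective _ hπ, ← RingHom.ker_eq_comap_bot, sup_eq_left.2 hker]
  have hm : m.IsMaximal := by
    refine (Ideal.map_eq_top_or_isMaximal_of_surjective _ hπ hp).resolve_left fun h => hp.ne_top ?_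
    rw [← hmcomap, show m = ⊤ from h, Ideal.comap_top]
  have : IsRegularLocalRing (Localization.AtPrime p) := IsRegularRing.isRegularLocalRing_localization p
  have := hreg m
  let ρ : Localization.AtPrime p →+* Localization.AtPrime m :=
    Localization.localRingHom p m π hmcomap.symm
  have hρ : Function.Surjective ρ := by
    intro z
    obtain ⟨b, s, rfl⟩ := IsLocalization.exists_mk'_eq m.primeCompl z
    obtain ⟨b, rfl⟩ := hπ b
    obtain ⟨s₀, hs₀⟩ := hπ s.1
    have hs₀p : s₀ ∈ p.primeCompl := fun hmem => s.2 (hs₀ ▸ Ideal.mem_map_of_mem _ hmem)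
    refine ⟨IsLocalization.mk' _ b (⟨s₀, hs₀p⟩ : p.primeCompl), ?_⟩
    rw [Localization.localRingHom_mk']
    congr 1
    exact Subtype.ext hs₀
  let al := algebraMap R (Localization.AtPrime p)
  have hspan : Ideal.span (Set.range (al ∘ f)) = RingHom.ker ρ := by
    refine le_antisymm (Ideal.span_le.2 ?_) fun z hz => ?_
    · rintro _ ⟨i, rfl⟩
      rw [SetLike.mem_coe, RingHom.mem_ker, Function.comp_apply, Localization.localRingHom_to_map,
        show π (f i) = 0 from hf.le (Ideal.subset_span ⟨i, rfl⟩), map_zero]
    · obtain ⟨a, t, rfl⟩ := IsLocalization.exists_mk'_eq p.primeCompl z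
      rw [RingHom.mem_ker, Localization.localRingHom_mk', IsLocalization.mk'_eq_zero_iff] at hz
      obtain ⟨c, hc⟩ := hz
      obtain ⟨c₀, hc₀⟩ := hπ c.1
      have hc₀p : c₀ ∈ p.primeCompl := fun hmem => c.2 (hc₀ ▸ Ideal.mem_map_of_mem _ hmem)
      have hmem : c₀ * a ∈ Ideal.span (Set.range f) := by
        rw [hf, RingHom.mem_ker, map_mul, hc₀]; exact hc
      have h5 : al (c₀ * a) ∈ Ideal.span (Set.range (al ∘ f)) := by
        rw [Set.range_comp, ← Ideal.map_span]
        exact Ideal.mem_map_of_mem _ hmem
      rw [map_mul] at h5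
      rw [IsLocalization.mk'_eq_mul_mk'_one]
      exact Ideal.mul_mem_right _ _
        ((Ideal.unit_mul_mem_iff_mem _ (IsLocalization.map_units (Localization.AtPrime p) (⟨c₀, hc₀p⟩ : p.primeCompl))).1 h5)
  have hlc : Finsupp.linearCombination (Localization.AtPrime p) (al ∘ f) (q.mapRange al (map_zero _)) = 0 := by
    have h6 : ∀ g : σ →₀ R, Finsupp.linearCombination (Localization.AtPrime p) (al ∘ f)
        (g.mapRange al (map_zero _)) = al (Finsupp.linearCombination R f g) := fun g => by
      induction g using Finsupp.induction_linear with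
      | zero => simp
      | add a b ha hb => rw [Finsupp.mapRange_add (map_add _), map_add, map_add, map_add, ha, hb]
      | single i c => simp
    rw [h6, hq, map_zero]
  obtain ⟨s, hs, hsq⟩ := exists_smul_mem_triv f p (Rp := Localization.AtPrime p) q
    (mem_triv_of_regSurj ρ hρ _ hspan _ hlc fun i => by
      rw [Finsupp.mapRange_apply, Localization.localRingHom_to_map, hqI, map_zero])
  exact hs (hJp hsq)

theorem T2_subsingleton_of_regular {k B : Type u} [Field k] [CommRing B] [Algebra k B] [Algebra.FiniteType k B]
    (hreg : ∀ (m : Ideal B) [m.IsMaximal], IsRegularLocalRing (Localization.AtPrime m))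
    (hsm : Algebra.FormallySmooth k B) (M : Type u) [AddCommGroup M] [Module B M] :
    Subsingleton (T2 (canon k B) M) := by
  obtain ⟨n, φ, hφ⟩ := Algebra.FiniteType.iff_quotient_mvPolynomial''.1 ‹Algebra.FiniteType k B›
  let val : Fin n → B := fun i => φ (MvPolynomial.X i)
  have hval : ∀ p, MvPolynomial.aeval val p = φ p := fun p =>
    (DFunLike.congr_fun (MvPolynomial.aeval_unique φ) p).symm
  let G : Algebra.Generators k B (Fin n) :=
    Algebra.Generators.ofSurjective val fun b => by
      obtain ⟨p, rfl⟩ := hφ b
      exact ⟨p, hval p⟩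
  let P : Algebra.Presentation k B (Fin n) G.ker :=
    { toGenerators := G
      relation := Subtype.val
      span_range_relation_eq_ker := (congrArg Ideal.span Subtype.range_val).trans (Ideal.span_eq _) }
  have hR : Function.Surjective (algebraMap P.toExtension.Ring B) := algebraMap_surjective P
  have : Algebra.FormallySmooth k P.toExtension.Ring :=
    inferInstanceAs (Algebra.FormallySmooth k (MvPolynomial (Fin n) k))
  have : IsRegularRing P.toExtension.Ring := inferInstanceAs (IsRegularRing (MvPolynomial (Fin n) k))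
  obtain ⟨l, hl⟩ := P.toExtension.formallySmooth_iff_split_injection.1 hsm
  refine (T2equiv (M := M) P (canon k B) (someHom _ _)).toEquiv.subsingleton_congr.2
    (subsingleton_T2_of_split P l hl fun q hq => ?_)
  have hcoef : ∀ s, algebraMap P.toExtension.Ring B (q.1 s) = 0 := fun s => by
    rw [← L1basis_repr_toL1, hq, map_zero]
    rfl
  refine mem_triv_of_regularRing (algebraMap P.toExtension.Ring B) hR (rel P) ?_ hreg q.1 q.2 hcoef
  exact P.span_range_relation_eq_ker.trans rfl

section localization

variable {R : Type u} [CommRing R] (S : Submonoid R) (L : Type u) [CommRing L] [Algebra R L] [IsLocalization S L]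

/-- `L = R[y_s]/(s y_s - 1)` -/
def locPres : Algebra.Presentation R L S S :=
  { toGenerators := Algebra.Generators.ofSurjective (fun s : S => IsLocalization.mk' L 1 s) fun z => by
      obtain ⟨b, s, rfl⟩ := IsLocalization.exists_mk'_eq S z
      exact ⟨MvPolynomial.C b * MvPolynomial.X s, by
        rw [map_mul, MvPolynomial.aeval_C, MvPolynomial.aeval_X]
        exact (IsLocalization.mk'_eq_mul_mk'_one b s).symm⟩
    relation := fun s => MvPolynomial.C (s : R) * MvPolynomial.X s - 1
    span_range_relation_eq_ker := by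
      rw [Algebra.Generators.ker_eq_ker_aeval_val]
      let J : Ideal (MvPolynomial S R) :=
        Ideal.span (Set.range fun s : S => MvPolynomial.C (s : R) * MvPolynomial.X s - 1)
      let val : S → L := fun s => IsLocalization.mk' L 1 s
      change J = RingHom.ker (MvPolynomial.aeval val)
      refine le_antisymm (Ideal.span_le.2 ?_) fun x hx => ?_
      · rintro _ ⟨s, rfl⟩
        rw [SetLike.mem_coe, RingHom.mem_ker, map_sub, map_mul, map_one, MvPolynomial.aeval_C,
          MvPolynomial.aeval_X, IsLocalization.mk'_spec', map_one, sub_self]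
      · let g : R →+* MvPolynomial S R ⧸ J := (Ideal.Quotient.mk J).comp MvPolynomial.C
        have hinv : ∀ s : S, g s * Ideal.Quotient.mk J (MvPolynomial.X s) = 1 := fun s => by
          rw [RingHom.comp_apply, ← map_mul, ← map_one (Ideal.Quotient.mk J), Ideal.Quotient.eq]
          exact Ideal.subset_span ⟨s, rfl⟩
        have hg : ∀ s : S, IsUnit (g s) := fun s => IsUnit.of_mul_eq_one _ (hinv s)
        let lift : L →+* MvPolynomial S R ⧸ J := IsLocalization.lift hg
        have hcomp : ∀ p, lift (MvPolynomial.aeval val p) = Ideal.Quotient.mk J p := fun p => by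
          refine RingHom.congr_fun (MvPolynomial.ringHom_ext (f := lift.comp (MvPolynomial.aeval val).toRingHom)
            (g := Ideal.Quotient.mk J) (fun r => ?_) (fun s => ?_)) p
          · change lift (MvPolynomial.aeval val (MvPolynomial.C r)) = _
            rw [MvPolynomial.aeval_C]
            exact IsLocalization.lift_eq hg r
          · change lift (MvPolynomial.aeval val (MvPolynomial.X s)) = _
            rw [MvPolynomial.aeval_X]
            refine (hg s).mul_left_cancel ?_
            refine Eq.trans ?_ (hinv s).symm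
            rw [show g (s : R) = lift (algebraMap R L s) from (IsLocalization.lift_eq hg (s : R)).symm, ← map_mul,
              IsLocalization.mk'_spec', map_one, map_one]
        rw [← Ideal.Quotient.eq_zero_iff_mem, ← hcomp, show MvPolynomial.aeval val x = 0 from hx, map_zero] }

theorem rel_locPres (s : S) : rel (locPres S L) s = constHom (locPres S L) s * var (locPres S L) s - 1 := rfl

theorem mem_span_of_mul_rel_mem (F : Finset S) (k : S) (hk : k ∉ F) (c : MvPolynomial S R)
    (hc : c * (MvPolynomial.C (k : R) * MvPolynomial.X k - 1) ∈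
      Ideal.span ((fun s : S => MvPolynomial.C (s : R) * MvPolynomial.X s - 1) '' ↑F)) :
    c ∈ Ideal.span ((fun s : S => MvPolynomial.C (s : R) * MvPolynomial.X s - 1) '' ↑F) := by
  classical
  let J := Ideal.span ((fun s : S => MvPolynomial.C (s : R) * MvPolynomial.X s - 1) '' (↑F : Set S))
  let mkJ : MvPolynomial S R →+* MvPolynomial S R ⧸ J := Ideal.Quotient.mk J
  let ψ : MvPolynomial S R →+* Polynomial (MvPolynomial S R ⧸ J) :=
    MvPolynomial.eval₂Hom ((Polynomial.C).comp (mkJ.comp MvPolynomial.C))
      (fun i => if i = k then Polynomial.X else Polynomial.C (mkJ (MvPolynomial.X i)))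
  have hev : ∀ p, (ψ p).eval (mkJ (MvPolynomial.X k)) = mkJ p := fun p => by
    refine RingHom.congr_fun (MvPolynomial.ringHom_ext
      (f := (Polynomial.evalRingHom (mkJ (MvPolynomial.X k))).comp ψ) (g := mkJ) (fun r => ?_) (fun i => ?_)) p
    · simp [ψ]
    · by_cases hi : i = k <;> simp [ψ, hi]
  have hJ : ∀ p ∈ J, ψ p = 0 := by
    intro p hp
    induction hp using Submodule.span_induction with
    | mem x hx =>
      obtain ⟨s, hs, rfl⟩ := hx
      have hne : s ≠ k := fun e => hk (e ▸ hs)
      have h0 : mkJ (MvPolynomial.C (s : R) * MvPolynomial.X s - 1) = 0 :=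
        Ideal.Quotient.eq_zero_iff_mem.2 (Ideal.subset_span ⟨s, hs, rfl⟩)
      rw [map_sub, map_mul, map_one] at h0
      simp only [map_sub, map_mul, map_one, ψ, MvPolynomial.eval₂Hom_C, MvPolynomial.eval₂Hom_X', if_neg hne,
        RingHom.comp_apply]
      rw [← map_mul, ← map_one Polynomial.C, ← map_sub, h0, map_zero]
    | zero => exact map_zero _
    | add a b _ _ ha hb => rw [map_add, ha, hb, add_zero]
    | smul a b _ hb => rw [smul_eq_mul, map_mul, hb, mul_zero]
  have h1 := hJ _ hc
  simp only [map_mul, map_sub, map_one, ψ, MvPolynomial.eval₂Hom_C, MvPolynomial.eval₂Hom_X', if_pos,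
    RingHom.comp_apply] at h1
  have hreg : ∀ (g : Polynomial (MvPolynomial S R ⧸ J)) (a : MvPolynomial S R ⧸ J),
      g * (Polynomial.C a * Polynomial.X - 1) = 0 → g = 0 := by
    intro g a hg
    refine Polynomial.ext fun n => ?_
    induction n with
    | zero =>
      have := congrArg (fun p => Polynomial.coeff p 0) hg
      simpa [mul_sub, ← mul_assoc] using this
    | succ n ih =>
      have := congrArg (fun p => Polynomial.coeff p (n + 1)) hg
      simpa [mul_sub, ← mul_assoc, Polynomial.coeff_mul_X, ih] using this
  have h2 := hreg _ _ h1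
  have h3 := hev c
  rw [show ψ c = 0 from h2, Polynomial.eval_zero] at h3
  exact Ideal.Quotient.eq_zero_iff_mem.1 h3.symm

theorem relKer_le_trivRel_loc : relKer (locPres S L) ≤ trivRel (locPres S L) := by
  classical
  suffices h : ∀ (F : Finset S) (q : relMod (locPres S L)), q.support ⊆ F → jmap (locPres S L) q = 0 →
      q ∈ trivRel (locPres S L) from fun q hq => h q.support q Finset.Subset.rfl hq
  intro F
  induction F using Finset.induction_on with
  | empty =>
    intro q hq _
    rw [Finsupp.support_eq_empty.1 (Finset.subset_empty.1 hq)]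
    exact zero_mem _
  | @insert k F hk ih =>
    intro q hq hq0
    have hqk : q k * rel (locPres S L) k =
        jmap (locPres S L) (Finsupp.single k (q k) - q) := by rw [map_sub, hq0, sub_zero, jmap_single]
    have hmem : q k * rel (locPres S L) k ∈ Ideal.span (rel (locPres S L) '' (↑F : Set S)) := by
      rw [hqk, jmap, Ideal.span, Finsupp.mem_span_image_iff_linearCombination]
      refine ⟨_, fun i hi => ?_, rfl⟩
      rw [Finset.mem_coe, Finsupp.mem_support_iff] at hi
      by_contra hiF
      rcases eq_or_ne i k with rfl | hne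
      · simp at hi
      · have hni : i ∉ q.support := fun h => by
          rcases Finset.mem_insert.1 (hq h) with e | e
          exacts [hne e, hiF e]
        rw [Finsupp.sub_apply, Finsupp.single_eq_of_ne hne, Finsupp.notMem_support_iff.1 hni, sub_zero] at hi
        exact hi rfl
    have hd := mem_span_of_mul_rel_mem S F k hk (q k) hmem
    change q k ∈ Ideal.span (rel (locPres S L) '' (↑F : Set S)) at hd
    rw [Ideal.span, Finsupp.mem_span_image_iff_linearCombination] at hd
    obtain ⟨d, hdsupp, hd⟩ := hd
    let y : relMod (locPres S L) :=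
      jmap (locPres S L) d • Finsupp.single k 1 - jmap (locPres S L) (Finsupp.single k 1) • d
    have hy : y ∈ trivRel (locPres S L) := jmap_smul_sub_mem _ _
    refine sub_add_cancel q y ▸ add_mem (ih _ (fun i hi => ?_) ?_) hy
    · rw [Finsupp.mem_support_iff] at hi
      by_contra hiF
      have hdi : d i = 0 := by
        by_contra hne
        exact hiF (Finset.mem_coe.1 (hdsupp (Finsupp.mem_support_iff.2 hne)))
      rw [Finsupp.sub_apply, Finsupp.sub_apply, Finsupp.smul_apply, Finsupp.smul_apply, hdi, smul_zero,
        sub_zero, smul_eq_mul] at hi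
      rcases eq_or_ne i k with rfl | hne
      · rw [Finsupp.single_eq_same, mul_one, show jmap (locPres S L) d = q i from hd, sub_self] at hi
        exact hi rfl
      · have hni : i ∉ q.support := fun h => by
          rcases Finset.mem_insert.1 (hq h) with e | e
          exacts [hne e, hiF e]
        rw [Finsupp.single_eq_of_ne hne, mul_zero, Finsupp.notMem_support_iff.1 hni, sub_zero] at hi
        exact hi rfl
    · rw [map_sub, hq0, show jmap (locPres S L) y = 0 from trivRel_le_relKer _ hy, sub_zero]

theorem subsingleton_T2_localization (R : Type u) [CommRing R] (S : Submonoid R) (L : Type u) [CommRing L] [Algebra R L]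
    [IsLocalization S L] (M : Type m) [AddCommGroup M] [Module L M] :
    Subsingleton (T2 (canon R L) M) :=
  (T2equiv (M := M) (locPres S L) (canon R L) (someHom _ _)).toEquiv.subsingleton_congr.2
    (subsingleton_T2_of_relKer_le _ (relKer_le_trivRel_loc S L))

end localization

theorem subsingleton_T2_trans (A B C : Type u) [CommRing A] [CommRing B] [CommRing C] [Algebra A B] [Algebra B C]
    [Algebra A C] [IsScalarTower A B C] (M : Type u) [AddCommGroup M] [Module C M] [Module B M] [IsScalarTower B C M]
    (h1 : Subsingleton (T2 (canon A B) M)) (h2 : Subsingleton (T2 (canon B C) M)) :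
    Subsingleton (T2 (canon A C) M) := by
  obtain ⟨-, -, -, hex, -⟩ := transitivity_any (canon B C) (canon A B) M (canon A C)
    (canonHom A B A C) (canonHom A C B C)
  refine subsingleton_of_forall_eq 0 fun x => ?_
  obtain ⟨y, rfl⟩ := (hex x).1 (Subsingleton.elim _ _)
  rw [Subsingleton.elim y 0, map_zero]

end Groth.Agent.CotTLib

end
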