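import Groth.Agent.CotTLib.Away
import Groth.Agent.CotTLib.SmoothVanish

/-! A rigid singular algebra has no smoothing: lifting maps along `t`-adic thickenings. -/

universe u w w'

set_option linter.unusedSectionVars false

noncomputable section

namespace Groth.Agent.CotTLib

open CotT

section hom

variable {k R S : Type u} [CommRing k] [CommRing R] [CommRing S] [Algebra k R] [Algebra k S]

/-- subtracting a derivation with values in a square-zero ideal from a homomorphism -/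
theorem exists_hom_sub (g : R →ₐ[k] S) (J : Ideal S) (hJ : ∀ x ∈ J, ∀ y ∈ J, x * y = 0) (E : R →ₗ[k] S)
    (hEJ : ∀ r, E r ∈ J) (hE : ∀ x y, E (x * y) = g x * E y + g y * E x) :
    ∃ g' : R →ₐ[k] S, ∀ r, g' r = g r - E r := by
  have h1 : E 1 = 0 := by
    have h := hE 1 1
    simp only [mul_one, map_one g, one_mul] at h
    exact left_eq_add.1 h
  refine ⟨AlgHom.ofLinearMap (g.toLinearMap - E) ?_ fun x y => ?_, fun r => rfl⟩
  · rw [LinearMap.sub_apply, h1, sub_zero]
    exact map_one g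
  · simp only [LinearMap.sub_apply, AlgHom.toLinearMap_apply, map_mul, hE]
    linear_combination -(hJ _ (hEJ x) _ (hEJ y))

end hom

section deriv

variable {A B : Type u} [CommRing A] [CommRing B] [Algebra A B] {ι : Type w} {σ : Type w'} (P : Algebra.Presentation A B ι σ)

/-- `c • (I/I² → E)` extends to a derivation, if `c • id` factors through the cotangent space -/
theorem exists_derivation_of_split {E : Type u} [CommRing E] [Algebra A E] (J : Ideal E)
    (hJ : ∀ x ∈ J, ∀ y ∈ J, x * y = 0) (ρ : P.toExtension.Ring →ₐ[A] E)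
    (hρ : ∀ r, algebraMap P.toExtension.Ring B r = 0 → ρ r ∈ J) (c : P.toExtension.Ring)
    (l : P.toExtension.CotangentSpace →ₗ[B] P.toExtension.Cotangent)
    (hl : l ∘ₗ P.toExtension.cotangentComplex = algebraMap P.toExtension.Ring B c • LinearMap.id) :
    ∃ D : P.toExtension.Ring →ₗ[A] E, (∀ r, D r ∈ J) ∧ (∀ x y, D (x * y) = ρ x * D y + ρ y * D x) ∧
      ∀ r, algebraMap P.toExtension.Ring B r = 0 → D r = ρ c * ρ r := by
  let raw : P.toExtension.ker →+ E :=
    { toFun := fun i => ρ i.1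
      map_zero' := map_zero ρ
      map_add' := fun i j => map_add ρ i.1 j.1 }
  have hwd : ∀ i j : P.toExtension.ker, Algebra.Extension.Cotangent.mk i = Algebra.Extension.Cotangent.mk j →
      ρ i.1 = ρ j.1 := fun i j h => by
    have h2 : (i - j : P.toExtension.ker).1 ∈ P.toExtension.ker ^ 2 := by
      rw [← Algebra.Extension.Cotangent.mk_eq_zero_iff, map_sub, h, sub_self]
    have h3 : ∀ z ∈ P.toExtension.ker ^ 2, ρ z = 0 := fun z hz => by
      rw [pow_two] at hz
      refine Submodule.mul_induction_on hz (fun a ha b hb => ?_) fun a b ha hb => ?_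
      · rw [map_mul]
        exact hJ _ (hρ a ha) _ (hρ b hb)
      · rw [map_add, ha, hb, add_zero]
    have h4 := h3 _ h2
    rw [AddSubgroupClass.coe_sub, map_sub, sub_eq_zero] at h4
    exact h4
  choose lift hlift using Algebra.Extension.Cotangent.mk_surjective (P := P.toExtension)
  let Φ : P.toExtension.Cotangent →+ E :=
    { toFun := fun x => ρ (lift x).1
      map_zero' := (hwd _ 0 (by rw [hlift, map_zero])).trans (map_zero ρ)
      map_add' := fun x y => (hwd _ (lift x + lift y) (by rw [hlift, map_add, hlift, hlift])).trans (map_add ρ _ _) }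
  have hΦ : ∀ i, Φ (Algebra.Extension.Cotangent.mk i) = ρ i.1 := fun i => hwd _ i (hlift _)
  have hΦJ : ∀ x, Φ x ∈ J := fun x => hρ _ (lift x).2
  have hΦs : ∀ (r : P.toExtension.Ring) x, Φ (algebraMap P.toExtension.Ring B r • x) = ρ r * Φ x := fun r x => by
    obtain ⟨i, rfl⟩ := Algebra.Extension.Cotangent.mk_surjective x
    rw [algebraMap_smul, ← map_smul, hΦ, hΦ]
    exact map_mul ρ r i.1
  refine ⟨{ toFun := fun r => Φ (l (oneD P r))
            map_add' := fun x y => by rw [map_add, map_add, map_add]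
            map_smul' := fun a x => by
              rw [RingHom.id_apply, map_smul, LinearMap.map_smul_of_tower,
                ← IsScalarTower.algebraMap_smul P.toExtension.Ring a (l (oneD P x)),
                ← algebraMap_smul B (algebraMap A P.toExtension.Ring a) (l (oneD P x)), hΦs,
                AlgHom.commutes, Algebra.smul_def] },
    fun r => hΦJ _, fun x y => ?_, fun r hr => ?_⟩
  · change Φ (l (oneD P (x * y))) = ρ x * Φ (l (oneD P y)) + ρ y * Φ (l (oneD P x))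
    rw [oneD_mul, map_add, map_smul, map_smul, map_add, hΦs, hΦs]
  · change Φ (l (oneD P r)) = _
    have h1 : oneD P r = P.toExtension.cotangentComplex (Algebra.Extension.Cotangent.mk ⟨r, hr⟩) := rfl
    rw [h1, ← LinearMap.comp_apply, hl, LinearMap.smul_apply, LinearMap.id_apply, hΦs, hΦ]

/-- rigidity: semilinear maps on the ideal extend to derivations -/
theorem exists_derivation_of_T1 (h : Subsingleton (T1 (canon A B) B)) (δ : P.toExtension.Ring → B)
    (hadd : ∀ i j, algebraMap P.toExtension.Ring B i = 0 → algebraMap P.toExtension.Ring B j = 0 →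
      δ (i + j) = δ i + δ j)
    (hmul : ∀ r i, algebraMap P.toExtension.Ring B i = 0 → δ (r * i) = algebraMap P.toExtension.Ring B r * δ i) :
    ∃ E : P.toExtension.Ring →ₗ[A] B,
      (∀ x y, E (x * y) = algebraMap P.toExtension.Ring B x * E y + algebraMap P.toExtension.Ring B y * E x) ∧
      ∀ i, algebraMap P.toExtension.Ring B i = 0 → E i = δ i := by
  have hδ0 : δ 0 = 0 := by
    have h0 := hadd 0 0 (map_zero _) (map_zero _)
    rw [add_zero] at h0
    exact left_eq_add.1 h0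
  have hsq : ∀ z ∈ P.toExtension.ker ^ 2, algebraMap P.toExtension.Ring B z = 0 ∧ δ z = 0 := by
    intro z hz
    rw [pow_two] at hz
    refine Submodule.mul_induction_on hz (fun a ha b hb => ?_) fun a b ha hb => ?_
    · have ha' : algebraMap P.toExtension.Ring B a = 0 := ha
      exact ⟨by rw [map_mul, ha', zero_mul], by rw [hmul a b hb, ha', zero_mul]⟩
    · exact ⟨by rw [map_add, ha.1, hb.1, add_zero], by rw [hadd a b ha.1 hb.1, ha.2, hb.2, add_zero]⟩
  choose lift hlift using Algebra.Extension.Cotangent.mk_surjective (P := P.toExtension)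
  have hwd : ∀ i j : P.toExtension.ker, Algebra.Extension.Cotangent.mk i = Algebra.Extension.Cotangent.mk j →
      δ i.1 = δ j.1 := fun i j h => by
    have h2 : (i - j : P.toExtension.ker).1 ∈ P.toExtension.ker ^ 2 := by
      rw [← Algebra.Extension.Cotangent.mk_eq_zero_iff, map_sub, h, sub_self]
    have h3 := hadd (i - j : P.toExtension.ker).1 j.1 (hsq _ h2).1 j.2
    rw [(hsq _ h2).2, zero_add] at h3
    rw [← h3]
    exact congrArg δ (sub_add_cancel i.1 j.1).symm
  let φ : P.toExtension.Cotangent →ₗ[B] B :=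
    { toFun := fun x => δ (lift x).1
      map_add' := fun x y => (hwd _ (lift x + lift y) (by rw [hlift, map_add, hlift, hlift])).trans
        (hadd _ _ (lift x).2 (lift y).2)
      map_smul' := fun b x => by
        obtain ⟨r, rfl⟩ := algebraMap_surjective P b
        rw [RingHom.id_apply, smul_eq_mul, ← hmul r _ (lift x).2]
        exact hwd _ (r • lift x) (by rw [hlift, map_smul, hlift, algebraMap_smul]) }
  have hsub : Subsingleton (T1 P B) :=
    (T1equiv (M := B) P (canon A B) (someHom _ _)).toEquiv.subsingleton_congr.1 h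
  have h0 : homToT1 P B φ = 0 := @Subsingleton.elim _ hsub _ _
  rw [← LinearMap.mem_ker, ker_homToT1] at h0
  obtain ⟨ψ, hψ⟩ := h0
  refine ⟨(ψ.restrictScalars A).comp (oneD P), fun x y => ?_, fun i hi => ?_⟩
  · change ψ (oneD P (x * y)) = _ * ψ (oneD P y) + _ * ψ (oneD P x)
    rw [oneD_mul, map_add, map_smul, map_smul, smul_eq_mul, smul_eq_mul]
  · have h1 : oneD P i = P.toExtension.cotangentComplex (Algebra.Extension.Cotangent.mk ⟨i, hi⟩) := rfl
    change ψ (oneD P i) = δ i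
    rw [h1]
    exact (LinearMap.congr_fun hψ _).trans (hwd _ ⟨i, hi⟩ (hlift _))

end deriv

theorem C_pow_dvd_of_coeff {R : Type u} [CommRing R] (I : Ideal R) (p q : Polynomial R) (n : ℕ)
    (hp : ∀ j ≤ n, p.coeff j ∈ I) (hq : ∀ j ≤ n, q.coeff j ∈ I) : (p * q).coeff n ∈ I ^ 2 := by
  rw [Polynomial.coeff_mul, pow_two]
  refine Submodule.sum_mem _ fun x hx => Ideal.mul_mem_mul (hp _ ?_) (hq _ ?_)
  · have := Finset.mem_antidiagonal.1 hx; omega
  · have := Finset.mem_antidiagonal.1 hx; omega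

variable {k : Type u} [Field k] [IsAlgClosed k] {A B B₀ : Type u} [CommRing A] [CommRing B] [CommRing B₀]
  [IsDomain A] [Algebra k A] [Algebra.FiniteType k A] [Algebra k B₀] [Algebra A B] [Algebra k B]
  [IsScalarTower k A B]

theorem exists_C_add_mul {t : A} (ht : (Ideal.span {t}).IsMaximal) (a : A) :
    ∃ (c : k) (a' : A), a = algebraMap k A c + t * a' := by
  let : Field (A ⧸ Ideal.span {t}) := Ideal.Quotient.field _
  have hfin : Module.Finite k (A ⧸ Ideal.span {t}) := finite_of_finite_type_of_isJacobsonRing k _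
  obtain ⟨c, hc⟩ := (IsAlgClosed.algebraMap_bijective_of_isIntegral (k := k) (K := A ⧸ Ideal.span {t})).2
    (Ideal.Quotient.mk _ a)
  have h : a - algebraMap k A c ∈ Ideal.span {t} := Ideal.Quotient.eq.1 hc.symm
  obtain ⟨a', ha'⟩ := Ideal.mem_span_singleton.1 h
  exact ⟨c, a', by rw [← ha']; ring⟩

theorem exists_lift_fibre {m : ℕ} (τ : B) (hreg : ∀ b : B, τ * b = 0 → b = 0) (q : B →ₐ[k] B₀)
    (hq : Function.Surjective q) (hqker : ∀ b, q b = 0 → ∃ b', b = τ * b') (hqτ : q τ = 0) (v : Fin m → B)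
    (hπ₀ : Function.Surjective (MvPolynomial.aeval fun i => q (v i) : MvPolynomial (Fin m) k →ₐ[k] B₀))
    (hrigid : Subsingleton (T1 (canon k B₀) B₀)) (j : ℕ) :
    ∃ θ : Fin m → B, (∀ i, q (θ i) = q (v i)) ∧
      ∀ f : MvPolynomial (Fin m) k, MvPolynomial.aeval (fun i => q (v i)) f = 0 →
        ∃ b, MvPolynomial.aeval θ f = τ ^ (j + 1) * b := by
  let R₀ := MvPolynomial (Fin m) k
  let π₀ : R₀ →ₐ[k] B₀ := MvPolynomial.aeval fun i => q (v i)
  let G₀ : Algebra.Generators k B₀ (Fin m) :=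
    Algebra.Generators.ofSurjective (fun i => q (v i)) hπ₀
  let P₀ : Algebra.Presentation k B₀ (Fin m) G₀.ker :=
    { toGenerators := G₀
      relation := Subtype.val
      span_range_relation_eq_ker := (congrArg Ideal.span Subtype.range_val).trans (Ideal.span_eq _) }
  induction j with
  | zero =>
    refine ⟨v, fun i => rfl, fun f hf => ?_⟩
    have h1 : q (MvPolynomial.aeval v f) = 0 := by
      rw [← AlgHom.comp_apply, MvPolynomial.comp_aeval]; exact hf
    obtain ⟨b, hb⟩ := hqker _ h1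
    exact ⟨b, by rw [hb, zero_add, pow_one]⟩
  | succ j ih =>
    obtain ⟨θ, hθ, hθI⟩ := ih
    choose b hb using hθI
    classical
    let δ : R₀ → B₀ := fun f => if h : π₀ f = 0 then q (b f h) else 0
    have hcancel : ∀ x y : B, τ ^ (j + 1) * x = τ ^ (j + 1) * y → x = y := by
      intro x y h
      rw [← sub_eq_zero]
      have : ∀ (i : ℕ) (z : B), τ ^ i * z = 0 → z = 0 := fun i => by
        induction i with
        | zero => intro z hz; simpa using hz
        | succ i ih => intro z hz; exact ih z (hreg _ (by rw [← mul_assoc, ← pow_succ']; exact hz))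
      exact this (j + 1) _ (by rw [mul_sub, h, sub_self])
    have hθπ : ∀ r, q (MvPolynomial.aeval θ r) = π₀ r := fun r => by
      rw [← AlgHom.comp_apply, MvPolynomial.comp_aeval]
      simp only [hθ]
      rfl
    have hδadd : ∀ f g : R₀, π₀ f = 0 → π₀ g = 0 → δ (f + g) = δ f + δ g := fun f g hf hg => by
      simp only [δ]
      rw [dif_pos (show π₀ (f + g) = 0 by rw [map_add, hf, hg, add_zero]), dif_pos hf, dif_pos hg, ← map_add q]
      refine congrArg q (hcancel _ _ ?_)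
      rw [← hb, map_add (MvPolynomial.aeval θ) f g, mul_add, ← hb, ← hb]
    have hδmul : ∀ r f : R₀, π₀ f = 0 → δ (r * f) = π₀ r * δ f := fun r f hf => by
      simp only [δ]
      rw [dif_pos (show π₀ (r * f) = 0 by rw [map_mul, hf, mul_zero]), dif_pos hf]
      refine (congrArg q (hcancel _ (MvPolynomial.aeval θ r * b f hf) ?_)).trans (by rw [map_mul q, hθπ])
      rw [← hb, mul_left_comm, ← hb, map_mul (MvPolynomial.aeval θ) r f]
    obtain ⟨E', hEmul', hE'⟩ := exists_derivation_of_T1 P₀ hrigid δ hδadd hδmul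
    let E : R₀ →ₗ[k] B₀ := E'
    have hEmul : ∀ x y : R₀, E (x * y) = π₀ x * E y + π₀ y * E x := hEmul'
    have hE : ∀ f : R₀, π₀ f = 0 → E f = δ f := hE'
    choose lq hlq using hq
    let θ' : Fin m → B := fun i => θ i - τ ^ (j + 1) * lq (E (MvPolynomial.X i))
    have hformula : ∀ f : R₀, ∃ c, MvPolynomial.aeval θ' f =
        MvPolynomial.aeval θ f - τ ^ (j + 1) * lq (E f) + τ ^ (j + 2) * c := by
      intro f
      induction f using MvPolynomial.induction_on with
      | C a =>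
        obtain ⟨z, hz⟩ := hqker (lq (E (MvPolynomial.C a))) (by
          rw [hlq]
          have h1 : E 1 = 0 := by
            have h0 := hEmul 1 1
            simp only [mul_one, map_one π₀, one_mul] at h0
            exact left_eq_add.1 h0
          rw [show (MvPolynomial.C a : R₀) = a • 1 from (Algebra.algebraMap_eq_smul_one a)]
          exact (map_smul E a 1).trans (by rw [h1, smul_zero]))
        refine ⟨z, ?_⟩
        rw [MvPolynomial.aeval_C, MvPolynomial.aeval_C, hz]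
        ring
      | add f g hf hg =>
        obtain ⟨c, hc⟩ := hf
        obtain ⟨c', hc'⟩ := hg
        obtain ⟨z, hz⟩ := hqker (lq (E (f + g)) - lq (E f) - lq (E g)) (by
          rw [map_sub, map_sub, hlq, hlq, hlq]
          exact (congrArg (· - E g) (congrArg (· - E f) (map_add E f g))).trans (by ring))
        refine ⟨c + c' + z, ?_⟩
        rw [map_add, map_add, hc, hc']
        linear_combination τ ^ (j + 1) * hz
      | mul_X f i hf =>
        obtain ⟨c, hc⟩ := hf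
        obtain ⟨z, hz⟩ := hqker (lq (E (f * MvPolynomial.X i)) - MvPolynomial.aeval θ f * lq (E (MvPolynomial.X i))
            - θ i * lq (E f)) (by
          rw [map_sub, map_sub, map_mul q, map_mul q, hlq, hlq, hlq, hθπ, hθ, hEmul f (MvPolynomial.X i),
            show π₀ (MvPolynomial.X i) = q (v i) from MvPolynomial.aeval_X _ i]
          ring)
        refine ⟨c * θ' i + z + τ ^ j * (lq (E f) * lq (E (MvPolynomial.X i))), ?_⟩
        rw [map_mul, map_mul, MvPolynomial.aeval_X, MvPolynomial.aeval_X, hc]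
        simp only [θ']
        linear_combination τ ^ (j + 1) * hz
    refine ⟨θ', fun i => ?_, fun f hf => ?_⟩
    · rw [map_sub, map_mul, map_pow, hqτ, zero_pow (Nat.succ_ne_zero j), zero_mul, sub_zero, hθ]
    · obtain ⟨c, hc⟩ := hformula f
      have h1 : q (lq (E f)) = q (b f hf) := by
        rw [hlq, hE f hf]
        exact dif_pos (show π₀ f = 0 from hf)
      obtain ⟨z, hz⟩ := hqker (b f hf - lq (E f)) (by rw [map_sub, h1, sub_self])
      refine ⟨z + c, ?_⟩
      rw [hc, hb f hf]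
      linear_combination τ ^ (j + 1) * hz

theorem thickening_props {m : ℕ} (τ : B) (hreg : ∀ b : B, τ * b = 0 → b = 0) (q : B →ₐ[k] B₀)
    (hqker : ∀ b, q b = 0 → ∃ b', b = τ * b') (hqτ : q τ = 0) (π₀ : MvPolynomial (Fin m) k →ₐ[k] B₀)
    (hπ₀ : Function.Surjective π₀) (θ₀ : MvPolynomial (Fin m) k →ₐ[k] B) (hθπ : ∀ r, q (θ₀ r) = π₀ r) (N : ℕ)
    (hθI : ∀ f, π₀ f = 0 → ∃ b, θ₀ f = τ ^ (N + 1 + 1) * b) :
    ∃ Θ : Polynomial (MvPolynomial (Fin m) k) →ₐ[k] B ⧸ Ideal.span {τ ^ (N + 2)},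
      Function.Surjective Θ ∧ (∀ f, Θ (Polynomial.C f) = Ideal.Quotient.mk _ (θ₀ f)) ∧
      Θ Polynomial.X = Ideal.Quotient.mk _ τ ∧
      ∀ p, Θ p = 0 → ∀ j < N + 2, p.coeff j ∈ RingHom.ker π₀ := by
  let R₀ := MvPolynomial (Fin m) k
  let In : Ideal B := Ideal.span {τ ^ (N + 2)}
  let ev : Polynomial R₀ →ₐ[k] B := (Polynomial.aevalTower θ₀ τ)
  let Θ : Polynomial R₀ →ₐ[k] B ⧸ In := (Ideal.Quotient.mkₐ k In).comp ev
  have hevC : ∀ f, ev (Polynomial.C f) = θ₀ f := fun f => Polynomial.aevalTower_C θ₀ τ f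
  have hevX : ev Polynomial.X = τ := Polynomial.aevalTower_X θ₀ τ
  have hΘ : Function.Surjective Θ := by
    intro z
    obtain ⟨b, rfl⟩ := Ideal.Quotient.mk_surjective z
    have h : ∀ (j : ℕ) (b : B), ∃ p b', b = ev p + τ ^ j * b' := by
      intro j
      induction j with
      | zero => exact fun b => ⟨0, b, by simp⟩
      | succ j ih =>
        intro b
        obtain ⟨p, b', rfl⟩ := ih b
        obtain ⟨f, hf⟩ := hπ₀ (q b')
        obtain ⟨b'', hb''⟩ := hqker (b' - θ₀ f) (by rw [map_sub, hθπ, hf, sub_self])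
        refine ⟨p + Polynomial.C f * Polynomial.X ^ j, b'', ?_⟩
        rw [map_add, map_mul, map_pow, hevC, hevX, pow_succ]
        linear_combination τ ^ j * hb''
    obtain ⟨p, b', rfl⟩ := h (N + 2) b
    refine ⟨p, ?_⟩
    change Ideal.Quotient.mk In (ev p) = Ideal.Quotient.mk In (ev p + τ ^ (N + 2) * b')
    rw [map_add, Ideal.Quotient.eq_zero_iff_mem.2 (Ideal.mul_mem_right _ _ (Ideal.mem_span_singleton_self _)),
      add_zero]
  let K : Ideal (Polynomial R₀) := RingHom.ker Θ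
  let I₀ : Ideal R₀ := RingHom.ker π₀
  have hKcoeff : ∀ p ∈ K, ∀ j < N + 2, p.coeff j ∈ I₀ := by
    suffices h : ∀ d ≤ N + 2, ∀ (p : Polynomial R₀), (∃ b, ev p = τ ^ d * b) → ∀ j < d, p.coeff j ∈ I₀ from
      fun p hp => h (N + 2) le_rfl p (Ideal.mem_span_singleton.1 (Ideal.Quotient.eq_zero_iff_mem.1 hp))
    intro d
    induction d with
    | zero => intro _ p _ j hj; exact absurd hj (Nat.not_lt_zero j)
    | succ d ih =>
      rintro hd p ⟨b, hb⟩ j hj
      have hp : p = Polynomial.X * p.divX + Polynomial.C (p.coeff 0) := (Polynomial.X_mul_divX_add p).symm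
      have hev : ev p = τ * ev p.divX + θ₀ (p.coeff 0) := by
        conv_lhs => rw [hp]
        rw [map_add, map_mul, hevX, hevC]
      have h0 : π₀ (p.coeff 0) = 0 := by
        rw [← hθπ, show θ₀ (p.coeff 0) = τ * (τ ^ d * b - ev p.divX) by
          rw [mul_sub, ← mul_assoc, ← pow_succ', ← hb, hev]; ring, map_mul, hqτ, zero_mul]
      cases j with
      | zero => exact h0
      | succ j =>
        rw [← Polynomial.coeff_divX]
        refine ih (by omega) p.divX ?_ j (Nat.lt_of_succ_lt_succ hj)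
        obtain ⟨z, hz⟩ := hθI (p.coeff 0) h0
        refine ⟨b - τ ^ (N + 1 - d) * z, ?_⟩
        have h2 : τ * (ev p.divX - τ ^ d * (b - τ ^ (N + 1 - d) * z)) = 0 := by
          have hz' : θ₀ (p.coeff 0) = τ ^ (d + 1) * (τ ^ (N + 1 - d) * z) := by
            rw [← mul_assoc, ← pow_add, show d + 1 + (N + 1 - d) = N + 1 + 1 by omega]
            exact hz
          rw [hev, hz', pow_succ'] at hb
          linear_combination hb
        exact sub_eq_zero.1 (hreg _ h2)
  exact ⟨Θ, hΘ, fun f => congrArg (Ideal.Quotient.mk In) (hevC f), congrArg (Ideal.Quotient.mk In) hevX,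
    fun p hp => hKcoeff p hp⟩

theorem section_formal {ι : Type w} {σ : Type u} (P : Algebra.Presentation A B ι σ) (t : A) (N : ℕ)
    {R₀ : Type u} [CommRing R₀] [Algebra k R₀] (π₀ : R₀ →ₐ[k] B₀)
    {Bn : Type u} [CommRing Bn] [Algebra k Bn] (mkn : B →ₐ[k] Bn)
    (hmkn : ∀ b, mkn b = 0 → ∃ b', b = algebraMap A B t ^ (N + 2) * b')
    (Θ : Polynomial R₀ →ₐ[k] Bn) (hΘX : Θ Polynomial.X = mkn (algebraMap A B t))
    [Algebra k P.toExtension.Ring] [IsScalarTower k A P.toExtension.Ring] (ι₀ : R₀ →ₐ[k] P.toExtension.Ring)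
    (hΘC : ∀ f, Θ (Polynomial.C f) = mkn (algebraMap P.toExtension.Ring B (ι₀ f)))
    (hI₀ : ∀ f, π₀ f = 0 → mkn (algebraMap P.toExtension.Ring B (ι₀ f)) = 0)
    {Xq : Type u} [CommRing Xq] [Algebra k Xq] [Algebra A Xq] [IsScalarTower k A Xq]
    (mkK : Polynomial R₀ →ₐ[k] Xq) (Θq : Xq →ₐ[k] Bn) (hΘqK : ∀ p, Θq (mkK p) = Θ p)
    (hJK : ∀ x ∈ RingHom.ker Θq, ∃ p ∈ RingHom.ker Θ, mkK p = x)
    (hJ : ∀ x ∈ RingHom.ker Θq, ∀ y ∈ RingHom.ker Θq, x * y = 0)
    (hKcoeff : ∀ p ∈ RingHom.ker Θ, ∀ j < N + 2, p.coeff j ∈ RingHom.ker π₀)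
    (c0 : Xq →ₐ[k] R₀ ⧸ RingHom.ker π₀ ^ 2) (cN : Xq →ₗ[k] R₀ ⧸ RingHom.ker π₀ ^ 2)
    (hc0' : ∀ p, c0 (mkK p) = Ideal.Quotient.mk _ (p.coeff 0))
    (hcN' : ∀ p, cN (mkK p) = Ideal.Quotient.mk _ (p.coeff N))
    (ρ : P.toExtension.Ring →ₐ[A] Xq)
    (hρ : ∀ r, Θq (ρ r) = mkn (algebraMap P.toExtension.Ring B r))
    (D : P.toExtension.Ring →ₗ[A] Xq) (hDJ : ∀ r, D r ∈ RingHom.ker Θq)
    (hDmul : ∀ x y, D (x * y) = ρ x * D y + ρ y * D x)
    (hD : ∀ r, algebraMap P.toExtension.Ring B r = 0 → D r = ρ (constHom P (t ^ N)) * ρ r) :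
    ∃ g : R₀ →ₐ[k] R₀ ⧸ RingHom.ker π₀ ^ 2, (∀ f, π₀ f = 0 → g f = 0) ∧ ∀ f, π₀.kerSquareLift (g f) = π₀ f := by
  let K : Ideal (Polynomial R₀) := RingHom.ker Θ
  let I₀ : Ideal R₀ := RingHom.ker π₀
  let J : Ideal Xq := RingHom.ker Θq
  let Q₀ := R₀ ⧸ I₀ ^ 2
  let mk₀ : R₀ →ₐ[k] Q₀ := Ideal.Quotient.mkₐ k (I₀ ^ 2)
  have hc0 : ∀ p, c0 (mkK p) = mk₀ (p.coeff 0) := hc0'
  have hcN : ∀ p, cN (mkK p) = mk₀ (p.coeff N) := hcN'
  have hρI : ∀ r, algebraMap P.toExtension.Ring B r = 0 → ρ r ∈ J := fun r hr => by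
    rw [RingHom.mem_ker, hρ, hr, map_zero]
  have hJmul : ∀ (x : Xq) (p : Polynomial R₀), Θq x = Θ p → ∀ d ∈ J, x * d = mkK p * d := fun x p hx d hd => by
    have : x - mkK p ∈ J := by
      rw [RingHom.mem_ker, map_sub, hx, hΘqK, sub_self]
    rw [← sub_eq_zero, ← sub_mul]
    exact hJ _ this _ hd
  have hρι : ∀ f, Θq (ρ (ι₀ f)) = Θ (Polynomial.C f) := fun f => by
    rw [hρ, hΘC]
  have hρt : ∀ j, Θq (ρ (constHom P (t ^ j))) = Θ (Polynomial.X ^ j) := fun j => by
    rw [hρ, algebraMap_toExtension, map_pow Θ]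
    refine (congrArg (mkn) (MvPolynomial.aeval_C P.val (t ^ j))).trans ?_
    rw [map_pow, map_pow]
    exact congrArg (· ^ j) hΘX.symm
  let η : R₀ →ₐ[k] Q₀ := c0.comp ((ρ.restrictScalars k).comp ι₀)
  let E₀ : R₀ →ₗ[k] Q₀ := cN.comp (((D.restrictScalars k)).comp ι₀.toLinearMap)
  have hηπ : ∀ f, η f - mk₀ f ∈ I₀.map (Ideal.Quotient.mk (I₀ ^ 2)) := fun f => by
    have h1 : ρ (ι₀ f) - mkK (Polynomial.C f) ∈ J := by
      rw [RingHom.mem_ker, map_sub, hρι, hΘqK, sub_self]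
    obtain ⟨p, hp, hpe⟩ := hJK _ h1
    have h2 : η f - mk₀ f = mk₀ (p.coeff 0) := by
      rw [← hc0, hpe, map_sub, hc0, Polynomial.coeff_C_zero]
      rfl
    rw [h2]
    exact Ideal.mem_map_of_mem _ (hKcoeff p hp 0 (by omega))
  have hsq0 : ∀ x ∈ I₀.map (Ideal.Quotient.mk (I₀ ^ 2)), ∀ y ∈ I₀.map (Ideal.Quotient.mk (I₀ ^ 2)), x * y = 0 := by
    intro x hx y hy
    obtain ⟨a, ha, rfl⟩ := (Ideal.mem_map_iff_of_surjective _ Ideal.Quotient.mk_surjective).1 hx
    obtain ⟨b, hb, rfl⟩ := (Ideal.mem_map_iff_of_surjective _ Ideal.Quotient.mk_surjective).1 hy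
    rw [← map_mul]
    exact Ideal.Quotient.eq_zero_iff_mem.2 (pow_two I₀ ▸ Ideal.mul_mem_mul ha hb)
  have hEJ : ∀ f, E₀ f ∈ I₀.map (Ideal.Quotient.mk (I₀ ^ 2)) := fun f => by
    obtain ⟨p, hp, hpe⟩ := hJK _ (hDJ (ι₀ f))
    change cN (D (ι₀ f)) ∈ _
    rw [← hpe, hcN]
    exact Ideal.mem_map_of_mem _ (hKcoeff p hp N (by omega))
  have hEmul : ∀ f g, E₀ (f * g) = η f * E₀ g + η g * E₀ f := by
    intro f g
    have hterm : ∀ f, ∀ d ∈ J, cN (ρ (ι₀ f) * d) = η f * cN d := fun f d hd => by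
      obtain ⟨p, hp, rfl⟩ := hJK d hd
      rw [hJmul _ _ (hρι f) _ hd, ← map_mul mkK, hcN, hcN, Polynomial.coeff_C_mul, map_mul]
      rw [← sub_eq_zero, ← sub_mul]
      exact hsq0 _ (by rw [← neg_sub]; exact neg_mem (hηπ f)) _ (Ideal.mem_map_of_mem _ (hKcoeff p hp N (by omega)))
    change cN (D (ι₀ (f * g))) = η f * cN (D (ι₀ g)) + η g * cN (D (ι₀ f))
    rw [map_mul ι₀, hDmul, map_add, hterm f _ (hDJ _), hterm g _ (hDJ _)]
  obtain ⟨g, hg⟩ := exists_hom_sub η _ hsq0 E₀ hEJ hEmul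
  have hgI : ∀ f, π₀ f = 0 → g f = 0 := by
    intro f hf
    rw [hg, sub_eq_zero]
    obtain ⟨b, hb⟩ := hmkn _ (hI₀ f hf)
    obtain ⟨r, rfl⟩ := algebraMap_surjective P b
    let i := ι₀ f - constHom P (t ^ (N + 2)) * r
    have hi : algebraMap P.toExtension.Ring B i = 0 := by
      rw [map_sub, map_mul, hb, sub_eq_zero, show algebraMap P.toExtension.Ring B (constHom P (t ^ (N + 2))) =
        algebraMap A B (t ^ (N + 2)) from (algebraMap_toExtension P _).trans (MvPolynomial.aeval_C P.val _), map_pow]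
    have hif : ι₀ f = i + constHom P (t ^ (N + 2)) * r := (sub_add_cancel _ _).symm
    have hDconst : D (constHom P (t ^ (N + 2)) * r) = ρ (constHom P (t ^ (N + 2))) * D r := by
      have h1 : constHom P (t ^ (N + 2)) * r = (t ^ (N + 2)) • r := (Algebra.smul_def _ r).symm
      rw [h1, map_smul, Algebra.smul_def]
      exact congrArg (· * D r) (ρ.commutes _).symm
    obtain ⟨p, hp, hpe⟩ := hJK _ (hρI i hi)
    obtain ⟨p', hp', hpe'⟩ := hJK _ (hDJ r)
    have hpJ : mkK p ∈ J := hpe ▸ hρI i hi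
    have hpJ' : mkK p' ∈ J := hpe' ▸ hDJ r
    have hE1 : E₀ f = mk₀ (p.coeff 0) := by
      change cN (D (ι₀ f)) = _
      rw [hif, map_add, hD i hi, hDconst, ← hpe, ← hpe',
        hJmul _ _ (hρt N) (mkK p) hpJ, hJmul _ _ (hρt (N + 2)) (mkK p') hpJ', ← map_mul mkK, ← map_mul mkK,
        map_add cN, hcN, hcN]
      rw [show ((Polynomial.X : Polynomial R₀) ^ N * p).coeff N = p.coeff 0 by
          rw [Polynomial.coeff_X_pow_mul']; simp,
        show ((Polynomial.X : Polynomial R₀) ^ (N + 2) * p').coeff N = 0 by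
          rw [Polynomial.coeff_X_pow_mul']; simp, map_zero, add_zero]
    have hη1 : η f = mk₀ (p.coeff 0) := by
      change c0 (ρ (ι₀ f)) = _
      rw [hif, map_add, map_add, ← hpe, hc0, map_mul ρ, map_mul c0, map_pow (constHom P), map_pow ρ, map_pow c0]
      have h3 : c0 (ρ (constHom P t)) ∈ I₀.map (Ideal.Quotient.mk (I₀ ^ 2)) := by
        have h4 : ρ (constHom P t) - mkK Polynomial.X ∈ J := by
          have := hρt 1
          rw [pow_one, pow_one] at this
          rw [RingHom.mem_ker, map_sub, this, hΘqK, sub_self]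
        obtain ⟨p1, hp1, hp1e⟩ := hJK _ h4
        rw [← sub_add_cancel (ρ (constHom P t)) (mkK Polynomial.X), ← hp1e, map_add, hc0, hc0,
          Polynomial.coeff_X_zero, map_zero, add_zero]
        exact Ideal.mem_map_of_mem _ (hKcoeff p1 hp1 0 (by omega))
      rw [show c0 (ρ (constHom P t)) ^ (N + 2) = c0 (ρ (constHom P t)) ^ N * (c0 (ρ (constHom P t)) * c0 (ρ (constHom P t)))
          by ring, hsq0 _ h3 _ h3, mul_zero, zero_mul, add_zero]
    rw [hη1, hE1]
  refine ⟨g, hgI, fun f => ?_⟩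
  have hkill : ∀ x ∈ I₀.map (Ideal.Quotient.mk (I₀ ^ 2)), π₀.kerSquareLift x = 0 := fun x hx => by
    obtain ⟨a, ha, rfl⟩ := (Ideal.mem_map_iff_of_surjective _ Ideal.Quotient.mk_surjective).1 hx
    exact ha
  refine (congrArg π₀.kerSquareLift (hg f)).trans ((map_sub π₀.kerSquareLift (η f) (E₀ f)).trans ?_)
  refine (congrArg₂ (· - ·) rfl (hkill _ (hEJ f))).trans ?_
  refine (sub_zero _).trans ?_
  refine (congrArg π₀.kerSquareLift (sub_add_cancel (η f) (mk₀ f)).symm).trans ?_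
  refine (map_add π₀.kerSquareLift _ _).trans ?_
  exact (congrArg₂ (· + ·) (hkill _ (hηπ f)) rfl).trans (zero_add _)

theorem exists_quotient_data_aux {R₀ Bn : Type u} [CommRing R₀] [Algebra k R₀] [CommRing Bn] [Algebra k Bn]
    (Θ : Polynomial R₀ →ₐ[k] Bn) (hΘ : Function.Surjective Θ) (I₀ : Ideal R₀) (N : ℕ)
    (L : Ideal (Polynomial R₀)) (hLK : ∀ a ∈ L, Θ a = 0)
    (hKK : ∀ a b, Θ a = 0 → Θ b = 0 → a * b ∈ L) (Q₀ : Ideal R₀)
    (hL0 : ∀ z ∈ L, z.coeff 0 ∈ Q₀) (hLN : ∀ z ∈ L, z.coeff N ∈ Q₀) :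
    ∃ (X : Type u) (_ : CommRing X) (_ : Algebra k X) (mkK : Polynomial R₀ →ₐ[k] X) (Θq : X →ₐ[k] Bn)
      (c0 : X →ₐ[k] R₀ ⧸ Q₀) (cN : X →ₗ[k] R₀ ⧸ Q₀),
      (∀ p, Θq (mkK p) = Θ p) ∧ Function.Surjective Θq ∧ IsNilpotent (RingHom.ker (Θq : X →+* Bn)) ∧
      (∀ x ∈ RingHom.ker Θq, ∃ p ∈ RingHom.ker Θ, mkK p = x) ∧
      (∀ x ∈ RingHom.ker Θq, ∀ y ∈ RingHom.ker Θq, x * y = 0) ∧
      (∀ p, c0 (mkK p) = Ideal.Quotient.mk _ (p.coeff 0)) ∧
      (∀ p, cN (mkK p) = Ideal.Quotient.mk _ (p.coeff N)) := by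
  let mkK : Polynomial R₀ →ₐ[k] Polynomial R₀ ⧸ L := Ideal.Quotient.mkₐ k L
  let Θq : Polynomial R₀ ⧸ L →ₐ[k] Bn := Ideal.Quotient.liftₐ L Θ hLK
  let c0 : Polynomial R₀ ⧸ L →ₐ[k] R₀ ⧸ Q₀ := Ideal.Quotient.liftₐ L
    ((Ideal.Quotient.mkₐ k Q₀).comp ((Polynomial.aeval (0 : R₀)).restrictScalars k)) fun a ha => by
      change Ideal.Quotient.mk Q₀ (Polynomial.aeval (0 : R₀) a) = 0
      rw [Polynomial.coe_aeval_eq_eval, ← Polynomial.coeff_zero_eq_eval_zero]
      exact Ideal.Quotient.eq_zero_iff_mem.2 (hL0 a ha)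
  let cN : Polynomial R₀ ⧸ L →ₗ[k] R₀ ⧸ Q₀ :=
    Submodule.liftQ (L.restrictScalars k)
      ((Ideal.Quotient.mkₐ k Q₀).toLinearMap.comp ((Polynomial.lcoeff R₀ N).restrictScalars k))
      (fun a ha => Ideal.Quotient.eq_zero_iff_mem.2 (hLN a ha)) ∘ₗ
    (Submodule.Quotient.restrictScalarsEquiv k L).symm.toLinearMap
  have hJK : ∀ x ∈ RingHom.ker Θq, ∃ p ∈ RingHom.ker Θ, mkK p = x := fun x hx => by
    obtain ⟨p, rfl⟩ := Ideal.Quotient.mk_surjective x
    exact ⟨p, hx, rfl⟩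
  have hJ : ∀ x ∈ RingHom.ker Θq, ∀ y ∈ RingHom.ker Θq, x * y = 0 := fun x hx y hy => by
    obtain ⟨p, hp, rfl⟩ := hJK x hx
    obtain ⟨p', hp', rfl⟩ := hJK y hy
    rw [← map_mul]
    exact Ideal.Quotient.eq_zero_iff_mem.2 (hKK p p' hp hp')
  have hnil : IsNilpotent (RingHom.ker (Θq : Polynomial R₀ ⧸ L →+* Bn)) := by
    have hJJ : RingHom.ker Θq * RingHom.ker Θq = (⊥ : Ideal (Polynomial R₀ ⧸ L)) :=
      le_bot_iff.1 (Ideal.mul_le.2 fun x hx y hy => Ideal.mem_bot.2 (hJ x hx y hy))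
    exact ⟨2, (sq (RingHom.ker Θq)).trans hJJ⟩
  refine ⟨_, inferInstance, inferInstance, mkK, Θq, c0, cN, fun _ => rfl, fun z => ?_, hnil, hJK, hJ, fun p => ?_,
    fun _ => rfl⟩
  · obtain ⟨p, rfl⟩ := hΘ z
    exact ⟨mkK p, rfl⟩
  · change Ideal.Quotient.mk Q₀ (Polynomial.aeval (0 : R₀) p) = _
    rw [Polynomial.coe_aeval_eq_eval, ← Polynomial.coeff_zero_eq_eval_zero]

theorem exists_section_of_thickening [Algebra.FormallySmooth k A] {ι : Type w} {σ : Type u}
    (P : Algebra.Presentation A B ι σ)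
    (t : A) (N : ℕ) (l : P.toExtension.CotangentSpace →ₗ[B] P.toExtension.Cotangent)
    (hl : l ∘ₗ P.toExtension.cotangentComplex = algebraMap A B t ^ N • LinearMap.id)
    {R₀ : Type u} [CommRing R₀] [Algebra k R₀] (π₀ : R₀ →ₐ[k] B₀)
    {Bn : Type u} [CommRing Bn] [Algebra k Bn] (mkn : B →ₐ[k] Bn)
    (hmkn : ∀ b, mkn b = 0 → ∃ b', b = algebraMap A B t ^ (N + 2) * b')
    (Θ : Polynomial R₀ →ₐ[k] Bn) (hΘ : Function.Surjective Θ) (hΘX : Θ Polynomial.X = mkn (algebraMap A B t))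
    (hcoeff : ∀ p, Θ p = 0 → ∀ j < N + 2, p.coeff j ∈ RingHom.ker π₀)
    [Algebra k P.toExtension.Ring] [IsScalarTower k A P.toExtension.Ring] (ι₀ : R₀ →ₐ[k] P.toExtension.Ring)
    (hΘC : ∀ f, Θ (Polynomial.C f) = mkn (algebraMap P.toExtension.Ring B (ι₀ f)))
    (hI₀ : ∀ f, π₀ f = 0 → mkn (algebraMap P.toExtension.Ring B (ι₀ f)) = 0) :
    ∃ g : R₀ →ₐ[k] R₀ ⧸ RingHom.ker π₀ ^ 2, (∀ f, π₀ f = 0 → g f = 0) ∧ ∀ f, π₀.kerSquareLift (g f) = π₀ f := by
  have hsq : ∀ z ∈ RingHom.ker Θ * RingHom.ker Θ, ∀ j < N + 2, z.coeff j ∈ RingHom.ker π₀ ^ 2 := fun z hz => by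
    refine Submodule.mul_induction_on hz (fun a ha b hb j hj => ?_) fun a b ha hb j hj => ?_
    · exact C_pow_dvd_of_coeff _ a b j (fun i hi => hcoeff a ha i (hi.trans_lt hj))
        (fun i hi => hcoeff b hb i (hi.trans_lt hj))
    · rw [Polynomial.coeff_add]
      exact add_mem (ha j hj) (hb j hj)
  obtain ⟨Xq, _, _, mkK, Θq, c0, cN, hΘqK, hΘq, hnil, hJK, hJ, hc0, hcN⟩ :=
    exists_quotient_data_aux Θ hΘ (RingHom.ker π₀) N (RingHom.ker Θ * RingHom.ker Θ)
      (fun a ha => Ideal.mul_le_left ha) (fun a b ha hb => Ideal.mul_mem_mul ha hb) (RingHom.ker π₀ ^ 2)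
      (fun z hz => hsq z hz 0 (by omega)) (fun z hz => hsq z hz N (by omega))
  let gA : A →ₐ[k] Bn := mkn.comp (IsScalarTower.toAlgHom k A B)
  obtain ⟨aA, haA⟩ : ∃ aA : A →ₐ[k] Xq, Θq.comp aA = gA :=
    ⟨Algebra.FormallySmooth.liftOfSurjective gA Θq hΘq hnil,
      Algebra.FormallySmooth.comp_liftOfSurjective gA Θq hΘq hnil⟩
  let : Algebra A Xq := aA.toRingHom.toAlgebra
  have : IsScalarTower k A Xq := IsScalarTower.of_algebraMap_eq fun c => (aA.commutes c).symm
  choose pre hpre using hΘq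
  let ρ : P.toExtension.Ring →ₐ[A] Xq :=
    (MvPolynomial.aeval fun i => pre (mkn (P.val i)) : MvPolynomial ι A →ₐ[A] Xq)
  have hρ : ∀ r, Θq (ρ r) = mkn (algebraMap P.toExtension.Ring B r) := by
    intro r
    induction r using induction_poly P with
    | hC a =>
      rw [show ρ (constHom P a) = aA a from MvPolynomial.aeval_C _ a]
      refine (DFunLike.congr_fun haA a).trans (congrArg (mkn) ?_)
      rw [algebraMap_toExtension]
      exact (MvPolynomial.aeval_C P.val a).symm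
    | hadd x y hx hy => rw [map_add, map_add, hx, hy, map_add, map_add]
    | hX x i hx =>
      rw [map_mul, map_mul, hx, show ρ (var P i) = pre (mkn (P.val i)) from MvPolynomial.aeval_X _ i,
        hpre, map_mul, map_mul, algebraMap_var]
  have hlC : l ∘ₗ P.toExtension.cotangentComplex =
      algebraMap P.toExtension.Ring B (constHom P (t ^ N)) • LinearMap.id := by
    rw [algebraMap_toExtension]
    refine hl.trans (congrArg (· • LinearMap.id) ?_)
    exact (map_pow (algebraMap A B) t N).symm.trans (MvPolynomial.aeval_C P.val (t ^ N)).symm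
  obtain ⟨D, hDJ, hDmul, hD⟩ := exists_derivation_of_split P (RingHom.ker Θq) hJ ρ
    (fun r hr => by rw [RingHom.mem_ker, hρ, hr, map_zero]) _ l hlC
  exact section_formal P t N π₀ mkn hmkn Θ hΘX ι₀ hΘC hI₀ mkK Θq hΘqK hJK hJ hcoeff c0 cN hc0 hcN ρ hρ
    D hDJ hDmul hD

theorem formallySmooth_of_rigid_of_smooth_away [Algebra.FormallySmooth k A] [Algebra.FiniteType A B]
    [Module.Flat A B] {t : A} (ht : (Ideal.span {t}).IsMaximal) (ht0 : t ≠ 0)
    (e : (B ⧸ Ideal.span {algebraMap A B t}) ≃ₐ[k] B₀) (hrigid : Subsingleton (T1 (canon k B₀) B₀))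
    (hsm : (PrimeSpectrum.basicOpen (algebraMap A B t) : Set (PrimeSpectrum B)) ⊆ Algebra.smoothLocus A B) :
    Algebra.FormallySmooth k B₀ := by
  have : IsNoetherianRing A := Algebra.FiniteType.isNoetherianRing k A
  obtain ⟨m, σ, ⟨P⟩⟩ := exists_fin_presentation A B
  obtain ⟨N, l, hl⟩ := (smooth_away_iff (algebraMap A B t) P).1 hsm
  let τ : B := algebraMap A B t
  have hreg : ∀ b : B, τ * b = 0 → b = 0 := fun b hb => by
    have h1 := Module.Flat.isSMulRegular_of_isRegular (M := B) (IsRegular.of_ne_zero ht0)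
    exact h1 (show t • b = t • (0 : B) by rw [Algebra.smul_def, Algebra.smul_def, mul_zero]; exact hb)
  let q : B →ₐ[k] B₀ := e.toAlgHom.comp (Ideal.Quotient.mkₐ k _)
  have hq : Function.Surjective q := e.surjective.comp Ideal.Quotient.mk_surjective
  have hqker : ∀ b, q b = 0 → ∃ b', b = τ * b' := fun b hb => by
    have h1 : Ideal.Quotient.mk (Ideal.span {τ}) b = 0 := e.injective (hb.trans (map_zero e).symm)
    exact (Ideal.mem_span_singleton.1 (Ideal.Quotient.eq_zero_iff_mem.1 h1))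
  have hqτ : q τ = 0 := by
    change e (Ideal.Quotient.mk _ τ) = 0
    rw [Ideal.Quotient.eq_zero_iff_mem.2 (Ideal.mem_span_singleton_self _), map_zero]
  -- the presentation of the fibre
  let R₀ := MvPolynomial (Fin m) k
  let π₀ : R₀ →ₐ[k] B₀ := MvPolynomial.aeval fun i => q (P.val i)
  have hπ₀ : Function.Surjective π₀ := by
    intro b
    obtain ⟨b, rfl⟩ := hq b
    obtain ⟨r, rfl⟩ := algebraMap_surjective P b
    induction r using induction_poly P with
    | hC a =>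
      obtain ⟨c, a', rfl⟩ := exists_C_add_mul (k := k) ht a
      refine ⟨MvPolynomial.C c, ?_⟩
      have h1 : algebraMap P.toExtension.Ring B (constHom P (algebraMap k A c + t * a')) =
          algebraMap k B c + τ * algebraMap A B a' := by
        rw [algebraMap_toExtension]
        refine (MvPolynomial.aeval_C P.val (algebraMap k A c + t * a')).trans ?_
        rw [map_add, map_mul, ← IsScalarTower.algebraMap_apply]
      rw [MvPolynomial.aeval_C, h1, map_add, map_mul, hqτ, zero_mul, add_zero, AlgHom.commutes]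
    | hadd x y hx hy =>
      obtain ⟨a, ha⟩ := hx
      obtain ⟨b, hb⟩ := hy
      exact ⟨a + b, by rw [map_add, ha, hb, map_add, map_add]⟩
    | hX x i hx =>
      obtain ⟨a, ha⟩ := hx
      exact ⟨a * MvPolynomial.X i, by rw [map_mul, ha, MvPolynomial.aeval_X, map_mul, map_mul, algebraMap_var]⟩
  obtain ⟨θ, hθ, hθI⟩ := exists_lift_fibre τ hreg q hq hqker hqτ P.val hπ₀ hrigid (N + 1)
  let θ₀ : R₀ →ₐ[k] B := MvPolynomial.aeval θ
  have hθπ : ∀ r, q (θ₀ r) = π₀ r := fun r => by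
    rw [← AlgHom.comp_apply, MvPolynomial.comp_aeval]
    simp only [hθ]
    rfl
  obtain ⟨Θ, hΘ, hΘC, hΘX, hcoeff⟩ := thickening_props τ hreg q hqker hqτ π₀ hπ₀ θ₀ hθπ N hθI
  let In : Ideal B := Ideal.span {τ ^ (N + 2)}
  choose y hy using fun i => algebraMap_surjective P (θ i)
  let : Algebra k P.toExtension.Ring := ((constHom P).comp (algebraMap k A)).toAlgebra
  have : IsScalarTower k A P.toExtension.Ring := IsScalarTower.of_algebraMap_eq fun _ => rfl
  let ι₀ : R₀ →ₐ[k] P.toExtension.Ring := MvPolynomial.aeval y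
  have hι₀ : ∀ f, algebraMap P.toExtension.Ring B (ι₀ f) = θ₀ f := by
    intro f
    induction f using MvPolynomial.induction_on with
    | C a =>
      rw [MvPolynomial.aeval_C, MvPolynomial.aeval_C, algebraMap_toExtension]
      exact (MvPolynomial.aeval_C P.val (algebraMap k A a)).trans (IsScalarTower.algebraMap_apply k A B a).symm
    | add f g hf hg => rw [map_add, map_add, hf, hg, map_add]
    | mul_X f i hf => rw [map_mul, map_mul, hf, MvPolynomial.aeval_X, hy, map_mul, MvPolynomial.aeval_X]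
  obtain ⟨g, hgI, hg⟩ := exists_section_of_thickening P t N l hl π₀ (Ideal.Quotient.mkₐ k In)
    (fun b hb => Ideal.mem_span_singleton.1 (Ideal.Quotient.eq_zero_iff_mem.1 hb))
    Θ hΘ hΘX hcoeff ι₀ (fun f => by rw [hι₀]; exact hΘC f) (fun f hf => by
      obtain ⟨b, hb⟩ := hθI f hf
      rw [hι₀]
      exact Ideal.Quotient.eq_zero_iff_mem.2 (Ideal.mem_span_singleton.2 ⟨b, hb⟩))
  refine (Algebra.FormallySmooth.iff_split_surjection π₀ hπ₀).2
    ⟨((Ideal.Quotient.liftₐ (RingHom.ker π₀) g hgI).comp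
      (Ideal.quotientKerAlgEquivOfSurjective hπ₀).symm.toAlgHom), AlgHom.ext fun b => ?_⟩
  obtain ⟨f, rfl⟩ := hπ₀ b
  have hsymm : (Ideal.quotientKerAlgEquivOfSurjective hπ₀).symm (π₀ f) = Ideal.Quotient.mk (RingHom.ker π₀) f := by
    rw [AlgEquiv.symm_apply_eq]
    rfl
  change π₀.kerSquareLift (Ideal.Quotient.liftₐ (RingHom.ker π₀) g hgI
    ((Ideal.quotientKerAlgEquivOfSurjective hπ₀).symm (π₀ f))) = π₀ f
  rw [hsymm]
  exact hg f

end Groth.Agent.CotTLib

end
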