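import Groth.Agent.CotTLib.Compare

/-! Special presentations: no relations, regular sequences, change to the polynomial base. -/

universe u v w t u' v' w' t' m

set_option linter.unusedSectionVars false

open TensorProduct

noncomputable section

namespace Groth.Agent.CotTLib

open CotT

section empty

variable {A : Type u} {B : Type v} {ι : Type w} {σ : Type t} [CommRing A] [CommRing B] [Algebra A B]
variable (P : Algebra.Presentation A B ι σ) {M : Type m} [AddCommGroup M] [Module B M]

theorem subsingleton_L1 [IsEmpty σ] : Subsingleton (L1 P) :=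
  (L1basis P).repr.toEquiv.subsingleton

theorem subsingleton_T1 [IsEmpty σ] : Subsingleton (T1 P M) := by
  have := subsingleton_L1 P
  have : Subsingleton (cocycles1 P M) := ⟨fun a b => Subtype.ext (LinearMap.ext fun x => by
    rw [Subsingleton.elim x 0, map_zero, map_zero])⟩
  exact (Submodule.Quotient.mk_surjective (coboundaries1 P M)).subsingleton

theorem subsingleton_T2_of_relKer_le (h : relKer P ≤ trivRel P) : Subsingleton (T2 P M) := by
  have : Subsingleton (L2 P) := ⟨fun a b => by
    obtain ⟨q, rfl⟩ := cl_surjective P a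
    obtain ⟨q', rfl⟩ := cl_surjective P b
    rw [cl_eq_zero P (h q.2), cl_eq_zero P (h q'.2)]⟩
  have : Subsingleton (L2 P →ₗ[B] M) := ⟨fun a b => LinearMap.ext fun x => by
    rw [Subsingleton.elim x 0, map_zero, map_zero]⟩
  exact (Submodule.Quotient.mk_surjective (LinearMap.range (d2Star P M))).subsingleton

theorem relKer_le_of_isEmpty [IsEmpty σ] : relKer P ≤ trivRel P := fun x _ => by
  rw [Subsingleton.elim x 0]
  exact zero_mem _

end empty

section koszul

variable {R : Type u} [CommRing R] {r : ℕ} (a : Fin r → R)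

/-- the trivial relations -/
def koszul : Submodule R (Fin r →₀ R) :=
  Submodule.span R {y | ∃ c d : Fin r →₀ R,
    y = Finsupp.linearCombination R a c • d - Finsupp.linearCombination R a d • c}

theorem mem_koszul_of_regular
    (ha : ∀ k : Fin r, ∀ x : R, x * a k ∈ Ideal.span (a '' {j | j < k}) → x ∈ Ideal.span (a '' {j | j < k}))
    (c : Fin r →₀ R) (hc : Finsupp.linearCombination R a c = 0) : c ∈ koszul a := by
  suffices h : ∀ k : ℕ, ∀ c : Fin r →₀ R, (∀ i : Fin r, k ≤ i.1 → c i = 0) →
      Finsupp.linearCombination R a c = 0 → c ∈ koszul a from h r c (fun i hi => absurd hi (Nat.not_le.2 i.2)) hc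
  intro k
  induction k with
  | zero =>
    intro c hsupp _
    rw [show c = 0 from Finsupp.ext fun i => hsupp i (Nat.zero_le _)]
    exact zero_mem _
  | succ k ih =>
    intro c hsupp hc
    by_cases hk : k < r
    swap
    · exact ih c (fun i hi => absurd i.2 (by omega)) hc
    let K : Fin r := ⟨k, hk⟩
    have hcK : c K * a K ∈ Ideal.span (a '' {j | j < K}) := by
      have h1 : c K * a K = Finsupp.linearCombination R a (Finsupp.single K (c K) - c) := by
        rw [map_sub, hc, sub_zero, Finsupp.linearCombination_single, smul_eq_mul]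
      rw [h1, Ideal.span, Finsupp.mem_span_image_iff_linearCombination]
      refine ⟨_, fun i hi => ?_, rfl⟩
      rw [Finset.mem_coe, Finsupp.mem_support_iff] at hi
      by_contra hle
      simp only [Set.mem_setOf_eq, not_lt] at hle
      rcases eq_or_lt_of_le hle with he | hlt
      · subst he; simp at hi
      · rw [Finsupp.sub_apply, Finsupp.single_eq_of_ne hlt.ne', hsupp i hlt, sub_zero] at hi
        exact hi rfl
    have hd := ha K _ hcK
    rw [Ideal.span, Finsupp.mem_span_image_iff_linearCombination] at hd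
    obtain ⟨d, hd, hd'⟩ := hd
    have hd0 : ∀ i : Fin r, k ≤ i.1 → d i = 0 := fun i hi => by
      by_contra hne
      have h2 : i < K := hd (Finsupp.mem_support_iff.2 hne)
      exact absurd (Fin.lt_def.1 h2) (Nat.not_lt.2 hi)
    let y : Fin r →₀ R := Finsupp.linearCombination R a d • Finsupp.single K 1 -
      Finsupp.linearCombination R a (Finsupp.single K 1) • d
    have hy : y ∈ koszul a := Submodule.subset_span ⟨d, Finsupp.single K 1, rfl⟩
    have hy0 : Finsupp.linearCombination R a y = 0 := by
      simp only [y, map_sub, map_smul, smul_eq_mul]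
      ring
    have hrest : c - y ∈ koszul a := by
      refine ih _ (fun i hi => ?_) (by rw [map_sub, hc, hy0, sub_zero])
      rw [Finsupp.sub_apply]
      simp only [y, Finsupp.sub_apply, Finsupp.smul_apply, hd0 i hi, smul_zero, sub_zero, hd', smul_eq_mul]
      rcases eq_or_lt_of_le hi with he | hlt
      · rw [show i = K from Fin.ext he.symm, Finsupp.single_eq_same, mul_one]
        ring
      · rw [Finsupp.single_eq_of_ne, mul_zero, hsupp i hlt]
        · ring
        intro e
        simp [e, K] at hlt
    exact sub_add_cancel c y ▸ add_mem hrest hy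

end koszul

theorem mem_ker_smul_of_one_tmul_eq_zero {R : Type u} {B : Type v} {N : Type m} [CommRing R] [CommRing B] [Algebra R B]
    [AddCommGroup N] [Module R N] (hs : Function.Surjective (algebraMap R B)) {x : N}
    (h : (1 : B) ⊗ₜ[R] x = 0) : x ∈ RingHom.ker (algebraMap R B) • (⊤ : Submodule R N) := by
  let e : (R ⧸ RingHom.ker (algebraMap R B)) ≃ₗ[R] B :=
    (Submodule.quotEquivOfEq _ _ (by ext; rfl)).trans (LinearMap.quotKerEquivOfSurjective (Algebra.linearMap R B) hs)
  have he : e (Ideal.Quotient.mk _ 1) = 1 := map_one (algebraMap R B)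
  have h2 : e.symm 1 = Ideal.Quotient.mk _ 1 := by rw [← he, LinearEquiv.symm_apply_apply]
  have h3 := congrArg (fun z => TensorProduct.quotTensorEquivQuotSMul N _
    (TensorProduct.congr e.symm (LinearEquiv.refl R N) z)) h
  simp only [TensorProduct.congr_tmul, LinearEquiv.refl_apply, h2, map_zero,
    TensorProduct.quotTensorEquivQuotSMul_mk_tmul, one_smul, Submodule.Quotient.mk_eq_zero] at h3
  exact h3

theorem sub_mem_ker_smul_of_one_tmul_eq {R : Type u} {B : Type v} {N : Type m} [CommRing R] [CommRing B] [Algebra R B]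
    [AddCommGroup N] [Module R N] (hs : Function.Surjective (algebraMap R B)) {x y : N}
    (h : (1 : B) ⊗ₜ[R] x = (1 : B) ⊗ₜ[R] y) : x - y ∈ RingHom.ker (algebraMap R B) • (⊤ : Submodule R N) :=
  mem_ker_smul_of_one_tmul_eq_zero hs (by rw [TensorProduct.tmul_sub, h, sub_self])

theorem cl_eq_zero_iff {A : Type u} {B : Type v} {ι : Type w} {σ : Type t} [CommRing A] [CommRing B] [Algebra A B]
    (P : Algebra.Presentation A B ι σ) (q : relKer P) : cl P q = 0 ↔ (q : relMod P) ∈ trivRel P := by
  refine ⟨fun hq => ?_, cl_eq_zero P⟩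
  rw [cl_apply, Submodule.Quotient.mk_eq_zero] at hq
  obtain ⟨z, hz⟩ := hq
  obtain ⟨k, hk⟩ : ∃ k : trivRelKer P, z = (1 : B) ⊗ₜ[P.toExtension.Ring] k := by
    clear hz
    induction z using TensorProduct.induction_on with
    | zero => exact ⟨0, (TensorProduct.tmul_zero _ _).symm⟩
    | add a b ha hb =>
      obtain ⟨a', rfl⟩ := ha
      obtain ⟨b', rfl⟩ := hb
      exact ⟨a' + b', (TensorProduct.tmul_add _ _ _).symm⟩
    | tmul b k =>
      obtain ⟨c, rfl⟩ := algebraMap_surjective P b
      exact ⟨c • k, by rw [← TensorProduct.smul_tmul, Algebra.smul_def, mul_one]⟩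
  subst hk
  rw [LinearMap.baseChange_tmul] at hz
  have h5 := sub_mem_ker_smul_of_one_tmul_eq (N := relKer P) (algebraMap_surjective P) hz.symm
  obtain ⟨m, hm, hqk⟩ : ∃ m, m ∈ RingHom.ker (algebraMap P.toExtension.Ring B) •
      (⊤ : Submodule P.toExtension.Ring (relKer P)) ∧ (q : relMod P) = k.1.1 + m.1 :=
    ⟨_, h5, (add_sub_cancel (k.1.1 : relMod P) (q : relMod P)).symm⟩
  rw [hqk]
  refine add_mem k.2 ?_
  clear hqk
  induction hm using Submodule.smul_induction_on' with
  | smul r hr g _ =>
    obtain ⟨f, hf⟩ := exists_jmap_eq P hr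
    have h2 := jmap_smul_sub_mem f (g : relMod P)
    rw [show jmap P (g : relMod P) = 0 from g.2, zero_smul, sub_zero, hf] at h2
    exact h2
  | add a _ b _ ha hb => exact add_mem ha hb

section bij

variable {A : Type u} {B : Type v} {ι : Type w} {σ : Type t}
variable {A' : Type u'} {ι' : Type w'} {σ' : Type t'}
variable [CommRing A] [CommRing B] [Algebra A B] [CommRing A'] [Algebra A' B]
variable [Algebra A A'] [IsScalarTower A A' B]
variable {P : Algebra.Presentation A B ι σ} {P' : Algebra.Presentation A' B ι' σ'} (h : PresHom P P')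
variable {M : Type m} [AddCommGroup M] [Module B M]

theorem L1map_bijective (hF : Function.Bijective h.relModMap) (hR : Function.Bijective h.ringHom) :
    Function.Bijective h.L1map := by
  refine ⟨(injective_iff_map_eq_zero _).2 fun x hx => ?_, fun y => ?_⟩
  · obtain ⟨f, rfl⟩ := toL1_surjective P x
    rw [L1map_toL1] at hx
    have hker : ∀ g : relMod P', toL1 P' g = 0 → ∀ s, algebraMap P'.toExtension.Ring B (g s) = 0 := by
      intro g hg s
      have hg' : ∀ g : relMod P', (L1basis P').repr (toL1 P' g) s = algebraMap P'.toExtension.Ring B (g s) := by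
        intro g
        induction g using Finsupp.induction_linear with
        | zero => simp
        | add a b ha hb => simp [ha, hb]
        | single s' c =>
          rw [toL1_single, map_smul, Module.Basis.repr_self, Finsupp.smul_single, smul_eq_mul, mul_one]
          rcases eq_or_ne s' s with rfl | hne
          · simp
          · simp [Finsupp.single_eq_of_ne hne.symm]
      rw [← hg' g, hg, map_zero]
      rfl
    obtain ⟨g, hg⟩ : ∃ g, g ∈ P.toExtension.ker • (⊤ : Submodule P.toExtension.Ring (relMod P)) ∧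
        h.relModMap g = h.relModMap f := by
      have hval := hker _ hx
      refine ⟨(h.relModMap f).sum fun s' c =>
        (Function.surjInv hR.2 c) • Function.surjInv hF.2 (Finsupp.single s' 1), ?_, ?_⟩
      · refine Submodule.sum_mem _ fun s' _ => Submodule.smul_mem_smul ?_ Submodule.mem_top
        change algebraMap P.toExtension.Ring B (Function.surjInv hR.2 _) = 0
        have h1 := h.algebraMap_ringHom (Function.surjInv hR.2 (h.relModMap f s'))
        rw [Function.surjInv_eq hR.2, Algebra.algebraMap_self_apply, hval s'] at h1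
        exact h1.symm
      · rw [map_finsuppSum]
        conv_rhs => rw [← Finsupp.sum_single (h.relModMap f)]
        refine Finsupp.sum_congr fun s' _ => ?_
        rw [LinearMap.map_smulₛₗ, Function.surjInv_eq hR.2, Function.surjInv_eq hF.2, Finsupp.smul_single,
          smul_eq_mul, mul_one]
    rw [← hF.1 hg.2]
    exact toL1_eq_zero_of_mem_ker_smul P hg.1
  · obtain ⟨f, rfl⟩ := toL1_surjective P' y
    obtain ⟨g, rfl⟩ := hF.2 f
    exact ⟨toL1 P g, L1map_toL1 h g⟩

theorem L2map_bijective (hF : Function.Bijective h.relModMap) (hR : Function.Bijective h.ringHom) :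
    Function.Bijective h.L2map := by
  have htriv : ∀ y : relMod P, h.relModMap y ∈ trivRel P' → y ∈ trivRel P := by
    intro y hy
    suffices key : ∀ z ∈ trivRel P', ∃ y ∈ trivRel P, h.relModMap y = z by
      obtain ⟨y', hy', he⟩ := key _ hy
      rwa [← hF.1 he]
    intro z hz
    induction hz using Submodule.span_induction with
    | mem x hx =>
      obtain ⟨a, b, rfl⟩ := hx
      obtain ⟨a, rfl⟩ := hF.2 a
      obtain ⟨b, rfl⟩ := hF.2 b
      exact ⟨_, jmap_smul_sub_mem a b, by
        rw [map_sub, LinearMap.map_smulₛₗ, LinearMap.map_smulₛₗ, h.jmap_relModMap, h.jmap_relModMap]⟩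
    | zero => exact ⟨0, zero_mem _, map_zero _⟩
    | add a b _ _ ha hb =>
      obtain ⟨a', ha', rfl⟩ := ha
      obtain ⟨b', hb', rfl⟩ := hb
      exact ⟨a' + b', add_mem ha' hb', map_add _ _ _⟩
    | smul c a _ ha =>
      obtain ⟨a', ha', rfl⟩ := ha
      obtain ⟨c, rfl⟩ := hR.2 c
      exact ⟨c • a', Submodule.smul_mem _ _ ha', LinearMap.map_smulₛₗ _ _ _⟩
  have hsurj : ∀ q : relKer P', ∃ q₀ : relKer P, h.relKerMap q₀ = q := fun q => by
    obtain ⟨g, hg⟩ := hF.2 q.1
    refine ⟨⟨g, hR.1 ?_⟩, Subtype.ext hg⟩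
    rw [← h.jmap_relModMap, hg, map_zero]
    exact q.2
  refine ⟨(injective_iff_map_eq_zero _).2 fun x hx => ?_, fun y => ?_⟩
  · obtain ⟨q, rfl⟩ := cl_surjective P x
    rw [L2map_cl, cl_eq_zero_iff] at hx
    exact cl_eq_zero P (htriv _ hx)
  · obtain ⟨q, rfl⟩ := cl_surjective P' y
    obtain ⟨q₀, rfl⟩ := hsurj q
    exact ⟨cl P q₀, L2map_cl h q₀⟩

theorem T2pull_bijective (hF : Function.Bijective h.relModMap) (hR : Function.Bijective h.ringHom) :
    Function.Bijective (h.T2pull M) := by
  let e1 : L1 P ≃ₗ[B] L1 P' :=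
    LinearEquiv.ofBijective (σ₁₂ := RingHom.id B) (h.L1map : L1 P →ₗ[B] L1 P') (L1map_bijective h hF hR)
  let e2 : L2 P ≃ₗ[B] L2 P' :=
    LinearEquiv.ofBijective (σ₁₂ := RingHom.id B) (h.L2map : L2 P →ₗ[B] L2 P') (L2map_bijective h hF hR)
  refine ⟨(injective_iff_map_eq_zero _).2 fun x hx => ?_, fun y => ?_⟩
  · obtain ⟨χ, rfl⟩ := Submodule.Quotient.mk_surjective _ x
    rw [T2pull_mk, Submodule.Quotient.mk_eq_zero] at hx
    obtain ⟨φ, hφ⟩ := hx
    rw [Submodule.Quotient.mk_eq_zero]
    refine ⟨φ ∘ₗ e1.symm.toLinearMap, LinearMap.ext fun z => ?_⟩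
    obtain ⟨z, rfl⟩ := e2.surjective z
    have h1 := LinearMap.congr_fun hφ z
    rw [PresHom.pull2_apply] at h1
    refine Eq.trans ?_ h1
    change φ (e1.symm (d2 P' (h.L2map z))) = φ (d2 P z)
    rw [h.d2_L2map]
    exact congrArg φ (e1.symm_apply_apply (d2 P z))
  · obtain ⟨χ, rfl⟩ := Submodule.Quotient.mk_surjective _ y
    refine ⟨Submodule.Quotient.mk (χ ∘ₗ e2.symm.toLinearMap), ?_⟩
    rw [T2pull_mk]
    refine congrArg Submodule.Quotient.mk (LinearMap.ext fun z => ?_)
    exact congrArg χ (e2.symm_apply_apply z)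

end bij

end Groth.Agent.CotTLib

end
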